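import Cfsg.Agent.ChevalleyStructure.TwF4.NStruct

/-!
# Action of the monomial subgroup of F₄ (characteristic 2) on the root subgroups

* `mono_conj_X`: `w * X r t * w⁻¹ = X (σ r) t` for `w ∈ Wm K` with permutation `σ`;
* `N_conj_X`: `g * X r t * g⁻¹ = X (permHom g r) (c * t)` for `g` in the monomial subgroup;
* `Wm_eq_simple`: `Wm K` is generated by the four `n_p(1)`, `p` fundamental;
* `permHom_n1`, `permHom_n2`: the permutations of `n₁`, `n₂` are `w1`, `w2`.
-/

set_option autoImplicit false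

namespace Cfsg.Agent.ChevalleyStructure.TwF4.NRoot

open Cfsg.Lie Cfsg.Agent.ChevalleyStructure.F4NTab
  Cfsg.Agent.ChevalleyStructure.TwF4.Torus Cfsg.Agent.ChevalleyStructure.TwF4.NStruct
open Cfsg.Agent.ChevalleyStructure.TwF4.Rel hiding cm

theorem refl_eq_wt {i r : ℕ} (hi : i < 4) (hr : r < 48) : refl i r = wt (sp i) r := by
  have h : ((List.range 4).all fun i => (List.range 48).all fun r => refl i r == wt (sp i) r) = true := by
    decide +kernel
  have h1 := all_of (all_of h hi) hr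
  simpa using h1

theorem refl_neg {i r : ℕ} (hi : i < 4) (hr : r < 48) : refl i (47 - r) = 47 - refl i r := by
  have h : ((List.range 4).all fun i => (List.range 48).all fun r => refl i (47 - r) == 47 - refl i r) = true := by
    decide +kernel
  have h1 := all_of (all_of h hi) hr
  simpa using h1

theorem sp_lt {i : ℕ} (hi : i < 4) : sp i < 48 := by
  have h : ((List.range 4).all fun i => decide (sp i < 48)) = true := by decide +kernel
  have := all_of h hi
  simpa using this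

/-- For every root `r` a list of reflections and a fundamental root from which it is obtained. -/
def wd : List (List ℕ × ℕ) := [([3, 2, 1, 2, 3, 0, 1, 2], 2), ([2, 1, 2, 3, 0, 1, 2], 2), ([1, 2, 3, 0, 1, 2], 2), ([0, 1, 2, 3, 1, 2, 1, 0], 0), ([2, 3, 0, 1, 2], 2), ([3, 0, 1, 2], 2), ([0, 1, 2], 2), ([1, 2, 3, 1, 2, 1, 0], 0), ([2, 3, 1, 2, 1, 0], 0), ([3, 1, 2, 1, 0], 0), ([1, 2, 1, 0], 0), ([3, 2, 1, 0], 0), ([2, 1, 0], 0), ([1, 0], 0), ([0], 0), ([2, 3, 1, 2], 2), ([3, 1, 2], 2), ([1, 2], 2), ([3, 2, 1], 1), ([2, 1], 1), ([1], 1), ([3, 2], 2), ([2], 2), ([3], 3), ([], 3), ([], 2), ([3], 2), ([], 1), ([2], 1), ([3, 2], 1), ([1], 2), ([3, 1], 2), ([2, 3, 1], 2), ([], 0), ([1], 0), ([2, 1], 0), ([3, 2, 1], 0), ([1, 2, 1], 0), ([3, 1, 2, 1], 0), ([2, 3, 1, 2, 1], 0), ([1, 2, 3, 1, 2, 1], 0), ([0, 1], 2), ([3, 0, 1], 2), ([2, 3, 0, 1], 2), ([0, 1, 2, 3, 1, 2, 1], 0), ([1, 2, 3, 0, 1], 2), ([2, 1, 2, 3, 0, 1], 2), ([3, 2, 1, 2, 3, 0, 1], 2)]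

theorem wd_ok : ((List.range 48).all fun r => (wd.getD r ([], 0)).1.foldr refl (sp (wd.getD r ([], 0)).2) == r &&
    ((wd.getD r ([], 0)).1.all fun i => decide (i < 4)) && decide ((wd.getD r ([], 0)).2 < 4)) = true := by
  decide +kernel

/-- Induction over all roots: fundamental roots and closure under the four fundamental reflections. -/
theorem root_induction {P : ℕ → Prop} (h0 : ∀ i < 4, P (sp i)) (h1 : ∀ i < 4, ∀ r < 48, P r → P (refl i r)) :
    ∀ r < 48, P r := by
  intro r hr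
  have h := all_of wd_ok hr
  simp only [Bool.and_eq_true, beq_iff_eq, decide_eq_true_eq, List.all_eq_true] at h
  obtain ⟨⟨h2, h3⟩, h4⟩ := h
  rw [← h2]
  revert h3
  generalize (wd.getD r ([], 0)).1 = l
  intro h3
  have key : ∀ l : List ℕ, (∀ i ∈ l, i < 4) → l.foldr refl (sp (wd.getD r ([], 0)).2) < 48 ∧
      P (l.foldr refl (sp (wd.getD r ([], 0)).2)) := by
    intro l hl
    induction l with
    | nil => exact ⟨sp_lt h4, h0 _ h4⟩
    | cons i l ih =>
      have ih' := ih (fun j hj => hl j (List.mem_cons_of_mem _ hj))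
      have hi := hl i List.mem_cons_self
      exact ⟨refl_lt i _ hi ih'.1, h1 i hi _ ih'.1 ih'.2⟩
  exact (key l h3).2

variable {K : Type*} [Field K] [CharP K 2]

/-- conjugation of `n_r(1)` by a fundamental `n_p(1)` -/
theorem nG_conj_nG {i r : ℕ} (hi : i < 4) (hr : r < 48) :
    nG K (sp i) * nG K r * (nG K (sp i))⁻¹ = nG K (refl i r) := by
  have h1 := nG_conj (K := K) i r hi hr 1
  have h2 := nG_conj (K := K) i (47 - r) hi (by omega) 1
  rw [refl_neg hi hr] at h2
  conv_rhs => unfold nG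
  rw [← h1, ← h2]
  conv_lhs => rw [show nG K r = X r 1 * X (47 - r) 1 * X r 1 from rfl]
  group

/-- the subgroup generated by the four fundamental `n_p(1)` -/
def Ws (K : Type*) [Field K] [CharP K 2] : Subgroup (GL chevF4.Idx K) :=
  Subgroup.closure {g | ∃ i : ℕ, i < 4 ∧ g = nG K (sp i)}

theorem nG_mem_Ws : ∀ r < 48, nG K r ∈ Ws K := by
  apply root_induction
  · intro i hi
    exact Subgroup.subset_closure ⟨i, hi, rfl⟩
  · intro i hi r hr h
    have hs : nG K (sp i) ∈ Ws K := Subgroup.subset_closure ⟨i, hi, rfl⟩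
    rw [← nG_conj_nG hi hr]
    exact mul_mem (mul_mem hs h) (inv_mem hs)

theorem Wm_eq_Ws : Wm K = Ws K := by
  apply le_antisymm
  · unfold Wm
    rw [Subgroup.closure_le]
    rintro g ⟨r, hr, rfl⟩
    exact nG_mem_Ws r hr
  · unfold Ws
    rw [Subgroup.closure_le]
    rintro g ⟨i, hi, rfl⟩
    exact nG_mem_Wm (sp_lt hi)

/-- conjugation of root elements by elements of `Wm` -/
theorem exists_mono_conj {w : GL chevF4.Idx K} (hw : w ∈ Wm K) :
    ∃ σ : Equiv.Perm R, Mono w σ ∧ ∀ (r : R) (t : K), w * X r.val t = X (σ r).val t * w := by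
  rw [Wm_eq_Ws] at hw
  unfold Ws at hw
  induction hw using Subgroup.closure_induction_left with
  | one => exact ⟨1, Mono.one, fun r t => by rw [one_mul, mul_one]; rfl⟩
  | mul_left x hx y hy ih =>
    obtain ⟨i, hi, rfl⟩ := hx
    obtain ⟨σ, hσ, h⟩ := ih
    refine ⟨_, (mono_nG (sp_lt hi)).mul hσ, fun r t => ?_⟩
    have e : ((reflP (sp i) (sp_lt hi) * σ) r).val = refl i (σ r).val := by
      rw [refl_eq_wt hi (σ r).2]; rfl
    rw [e, mul_assoc, h, ← mul_assoc, nG_mul_X i _ hi (σ r).2, mul_assoc]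
  | inv_mul_cancel x hx y hy ih =>
    obtain ⟨i, hi, rfl⟩ := hx
    obtain ⟨σ, hσ, h⟩ := ih
    rw [nG_inv']
    refine ⟨_, (mono_nG (sp_lt hi)).mul hσ, fun r t => ?_⟩
    have e : ((reflP (sp i) (sp_lt hi) * σ) r).val = refl i (σ r).val := by
      rw [refl_eq_wt hi (σ r).2]; rfl
    rw [e, mul_assoc, h, ← mul_assoc, nG_mul_X i _ hi (σ r).2, mul_assoc]

theorem mono_mul_X {w : GL chevF4.Idx K} (hw : w ∈ Wm K) {σ : Equiv.Perm R} (hσ : Mono w σ) (r : R) (t : K) :
    w * X r.val t = X (σ r).val t * w := by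
  obtain ⟨τ, hτ, h⟩ := exists_mono_conj hw
  rw [hσ.hasPerm.unique hτ.hasPerm]
  exact h r t

/-- Elements of the monomial subgroup permute the root subgroups. -/
theorem N_conj_X (g : ↥(chevF4.monomialSubgroup K)) (r : R) :
    ∃ c : Kˣ, ∀ t : K, (g : GL chevF4.Idx K) * X r.val t * (g : GL chevF4.Idx K)⁻¹ =
      X (permHom K g r).val ((c : K) * t) := by
  obtain ⟨w, hw, hm, c, hc⟩ := exists_mono_permHom g
  refine ⟨chi c r.val, fun t => ?_⟩
  rw [hc]
  calc w * T c * X r.val t * (w * T c)⁻¹ = w * (T c * X r.val t * (T c)⁻¹) * w⁻¹ := by group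
    _ = w * X r.val ((chi c r.val : K) * t) * w⁻¹ := by rw [T_conj_X c r.2]
    _ = _ := by rw [mono_mul_X hw hm, mul_inv_cancel_right]

/-! ### `n₁` and `n₂` -/

theorem n1_mem_Wm : n1 K ∈ Wm K := mul_mem (nG_mem_Wm (by norm_num)) (nG_mem_Wm (by norm_num))

theorem n2_mem_Wm : n2 K ∈ Wm K :=
  mul_mem (mul_mem (mul_mem (nG_mem_Wm (by norm_num)) (nG_mem_Wm (by norm_num))) (nG_mem_Wm (by norm_num)))
    (nG_mem_Wm (by norm_num))

theorem w1_tab : ((List.range 48).all fun s => w1 s == wt 33 (wt 24 s) && w1 (w1 s) == s && decide (w1 s < 48)) =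
    true := by decide +kernel

theorem w2_tab : ((List.range 48).all fun s => w2 s == wt 27 (wt 25 (wt 27 (wt 25 s))) && w2 (w2 s) == s &&
    decide (w2 s < 48)) = true := by decide +kernel

/-- the permutation of `n₁` -/
def P1 : Equiv.Perm R := reflP 33 (by norm_num) * reflP 24 (by norm_num)

/-- the permutation of `n₂` -/
def P2 : Equiv.Perm R := reflP 27 (by norm_num) * reflP 25 (by norm_num) * reflP 27 (by norm_num) *
  reflP 25 (by norm_num)

theorem P1_val (s : R) : (P1 s).val = w1 s.val := by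
  have h := all_of w1_tab s.2
  simp only [Bool.and_eq_true, beq_iff_eq] at h
  rw [h.1.1]; rfl

theorem P2_val (s : R) : (P2 s).val = w2 s.val := by
  have h := all_of w2_tab s.2
  simp only [Bool.and_eq_true, beq_iff_eq] at h
  rw [h.1.1]; rfl

theorem mono_n1 : Mono (n1 K) P1 := (mono_nG (by norm_num)).mul (mono_nG (by norm_num))

theorem mono_n2 : Mono (n2 K) P2 :=
  (((mono_nG (by norm_num)).mul (mono_nG (by norm_num))).mul (mono_nG (by norm_num))).mul (mono_nG (by norm_num))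

theorem permHom_n1 (h : n1 K ∈ chevF4.monomialSubgroup K) : permHom K ⟨n1 K, h⟩ = P1 :=
  permHom_eq mono_n1.hasPerm

theorem permHom_n2 (h : n2 K ∈ chevF4.monomialSubgroup K) : permHom K ⟨n2 K, h⟩ = P2 :=
  permHom_eq mono_n2.hasPerm

end Cfsg.Agent.ChevalleyStructure.TwF4.NRoot
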