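import Cfsg.Agent.ChevalleyStructure.TwF4.TwistedFix
import Cfsg.Agent.ChevalleyStructure.TwF4.NRoot
import Cfsg.Agent.ChevalleyStructure.Triangular
import Cfsg.Agent.ChevalleyStructure.TwistedBN

/-!
The (B,N)-pair of `²F₄(K)` (characteristic 2): `twistedData hφ : TwistedBN.TwistedData (GL chevF4.Idx K) (Fin 2)`
with `U = ⟨X_r : r > 0⟩`, `H` the diagonal subgroup, `N` the monomial subgroup, `G = twistedF4 K e`,
`n 0 = n₁`, `n 1 = n₂`, `X = ![X_{S_1}, X_{S_8}]`, `Y = ![X_{S_9}, X_{S_16}]`.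

Also: `hHX` (the diagonal subgroup acts on root elements), `perm_eq_of_bruhat`, `borel_inf_N`.
-/

set_option autoImplicit false
set_option linter.unusedSectionVars false

namespace Cfsg.Agent.ChevalleyStructure.TwF4.BN

open Cfsg.Lie Cfsg.Agent.ChevalleyStructure.TwF4.Bits Cfsg.Agent.ChevalleyStructure.TwF4.Tables
open Cfsg.Agent.ChevalleyStructure.TwF4.Rel Cfsg.Agent.ChevalleyStructure.TwF4.Fix
open Cfsg.Agent.ChevalleyStructure.TwF4.Groups Cfsg.Agent.ChevalleyStructure.TwF4.RankOne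
open Cfsg.Agent.ChevalleyStructure.TwF4.Twisted Cfsg.Agent.ChevalleyStructure.TwF4.TwistedFix
open Cfsg.Agent.ChevalleyStructure.TwF4.NStruct (R HasPerm permHom hasPerm_permHom
  exists_mono_permHom permHom_eq_one_iff N_conj_diagonal Wm_le_N nG_mem_Wm)
open Cfsg.Agent.ChevalleyStructure.TwF4.NRoot (P1 P2 P1_val P2_val n1_mem_Wm n2_mem_Wm
  permHom_n1 permHom_n2)

/-! ### the ambient group -/

section Ambient

variable {K : Type*} [Field K] [CharP K 2]

theorem hHX : ∀ h ∈ chevF4.diagonalSubgroup K, ∀ r < 48, ∀ t : K, ∃ t' : K,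
    h * X r t * h⁻¹ = X r t' := by
  intro h hh r hr t
  rw [Torus.diagonal_eq_range] at hh
  obtain ⟨c, rfl⟩ := hh
  exact ⟨_, Torus.T_conj_X c hr t⟩

theorem mem_types : chevF4 ∈ Triangular.types := by
  simp [Triangular.types]

theorem diag_le_diagSub : chevF4.diagonalSubgroup K ≤ TriAbstract.diagSub chevF4.Idx K := by
  rw [Torus.diagonal_eq_range]
  rintro _ ⟨c, rfl⟩
  rw [TriAbstract.mem_diagSub']
  exact ⟨_, Torus.coe_T c⟩

theorem perm_eq_one {n : ℕ} (τ : Equiv.Perm (Fin n)) (h : ∀ s, s ≤ τ s) : τ = 1 := by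
  have h1 : ∑ s : Fin n, (τ s).val = ∑ s : Fin n, s.val := Equiv.sum_comp τ (fun s => s.val)
  have h2 : ∀ s ∈ (Finset.univ : Finset (Fin n)), s.val = (τ s).val :=
    (Finset.sum_eq_sum_iff_of_le (fun s _ => Fin.le_def.1 (h s))).1 h1.symm
  ext s
  exact (h2 s (Finset.mem_univ s)).symm

theorem N_cor0 {g : GL chevF4.Idx K} (hg : g ∈ chevF4.monomialSubgroup K) (u : R)
    (l : Fin chevF4.rank) :
    (g : Matrix chevF4.Idx chevF4.Idx K) (Sum.inr u) (Sum.inl l) = 0 := by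
  obtain ⟨w, hw, hm, c, hc⟩ := exists_mono_permHom ⟨g, hg⟩
  have hc' : g = w * Torus.T c := hc
  rw [hc', Units.val_mul, Torus.coe_T, Matrix.mul_diagonal, hm.cor0, zero_mul]

/-- Two elements of `N` in the same `B`-double coset have the same permutation of the roots. -/
theorem perm_eq_of_bruhat (m m' : ↥(chevF4.monomialSubgroup K)) (b b' : GL chevF4.Idx K)
    (hb : b ∈ chevF4.borelSubgroup K) (hb' : b' ∈ chevF4.borelSubgroup K)
    (h : (m : GL chevF4.Idx K) = b * m' * b') : permHom K m = permHom K m' := by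
  have hm := hasPerm_permHom m
  have hm' := hasPerm_permHom m'
  generalize permHom K m = σ at hm ⊢
  generalize permHom K m' = σ' at hm' ⊢
  have hbi : b⁻¹ ∈ Triangular.loTri chevF4 K :=
    Triangular.borel_le_loTri mem_types diag_le_diagSub ((chevF4.borelSubgroup K).inv_mem hb)
  have hbt : b' ∈ Triangular.loTri chevF4 K :=
    Triangular.borel_le_loTri mem_types diag_le_diagSub hb'
  have e : b⁻¹ * (m : GL chevF4.Idx K) = (m' : GL chevF4.Idx K) * b' := by rw [h]; group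
  have key : ∀ s : R, s ≤ (σ'⁻¹ * σ) s := by
    intro s
    by_contra hlt
    rw [not_le] at hlt
    have e1 := congrArg (fun g : GL chevF4.Idx K =>
      (g : Matrix chevF4.Idx chevF4.Idx K) (Sum.inr (σ s)) (Sum.inr s)) e
    rw [hm.mul_apply] at e1
    have l2 := TriAbstract.diag_entry_ne_zero (Triangular.key_injective' chevF4) hbi (Sum.inr (σ s))
    have l3 := (hm.ne (σ s) s).2 rfl
    have r1 : (((m' : GL chevF4.Idx K) * b' : GL chevF4.Idx K) : Matrix chevF4.Idx chevF4.Idx K)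
        (Sum.inr (σ s)) (Sum.inr s) = 0 := by
      rw [Units.val_mul, Matrix.mul_apply, Fintype.sum_sum_type,
        Finset.sum_eq_zero (fun l _ => by rw [N_cor0 m'.2, zero_mul]), zero_add]
      apply Finset.sum_eq_zero
      intro t _
      by_cases ht : σ s = σ' t
      · have ht2 : t = (σ'⁻¹ * σ) s := by
          rw [Equiv.Perm.mul_apply, ht]; exact (σ'.symm_apply_apply t).symm
        have h3 : Triangular.key chevF4 (Sum.inr t) < Triangular.key chevF4 (Sum.inr s) := by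
          rw [Triangular.key_lt_key_iff, ht2]
          exact hlt
        rw [Triangular.mem_loTri.1 hbt _ _ h3, mul_zero]
      · rw [hm'.eq_zero ht, zero_mul]
    rw [r1] at e1
    exact mul_ne_zero l2 l3 e1
  have h4 := perm_eq_one _ key
  exact (inv_mul_eq_one.1 h4).symm

theorem inv_mul_mem_of_perm {m m' : GL chevF4.Idx K} (hm : m ∈ chevF4.monomialSubgroup K)
    (hm' : m' ∈ chevF4.monomialSubgroup K) (h : permHom K ⟨m, hm⟩ = permHom K ⟨m', hm'⟩) :
    m⁻¹ * m' ∈ chevF4.diagonalSubgroup K := by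
  have h1 : permHom K (⟨m, hm⟩⁻¹ * ⟨m', hm'⟩) = 1 := by
    rw [map_mul, map_inv, h, inv_mul_cancel]
  exact (permHom_eq_one_iff _).1 h1

theorem bruhat_unique (m : GL chevF4.Idx K) (hm : m ∈ chevF4.monomialSubgroup K)
    (m' : GL chevF4.Idx K) (hm' : m' ∈ chevF4.monomialSubgroup K) (b : GL chevF4.Idx K)
    (hb : b ∈ chevF4.borelSubgroup K) (b' : GL chevF4.Idx K) (hb' : b' ∈ chevF4.borelSubgroup K)
    (h : m = b * m' * b') : m⁻¹ * m' ∈ chevF4.diagonalSubgroup K :=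
  inv_mul_mem_of_perm hm hm' (perm_eq_of_bruhat ⟨m, hm⟩ ⟨m', hm'⟩ b b' hb hb' h)

theorem borel_inf_N : chevF4.borelSubgroup K ⊓ chevF4.monomialSubgroup K ≤
    chevF4.diagonalSubgroup K := by
  rintro g ⟨hb, hN⟩
  have h1 := bruhat_unique g hN 1 (one_mem _) g hb 1 (one_mem _) (by group)
  have h2 := (chevF4.diagonalSubgroup K).inv_mem h1
  simpa using h2

theorem n1_mem_N : n1 K ∈ chevF4.monomialSubgroup K := Wm_le_N n1_mem_Wm
theorem n2_mem_N : n2 K ∈ chevF4.monomialSubgroup K := Wm_le_N n2_mem_Wm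

theorem pos_le_pos {A : ℕ → Bool} (h : ∀ r < 48, A r = true → 24 ≤ r) : GA K A ≤ GA K posB :=
  GA_mono fun r hr hA => decide_eq_true (h r hr hA)

theorem neg_le_neg' {A : ℕ → Bool} (h : ∀ r < 48, A r = true → r < 24) : GA K A ≤ GA K negB :=
  GA_mono fun r hr hA => decide_eq_true (h r hr hA)

theorem borel_inf_negB (g : GL chevF4.Idx K) (h1 : g ∈ chevF4.borelSubgroup K)
    (h2 : g ∈ GA K negB) : g = 1 := by
  have h3 := Triangular.borel_inf_neg (F := K) mem_types diag_le_diagSub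
  have h4 : g ∈ chevF4.borelSubgroup K ⊓ chevF4.negUnipotent K := ⟨h1, by rw [negUnipotent_eq]; exact h2⟩
  rw [h3] at h4
  exact Subgroup.mem_bot.1 h4

theorem pos_inf_H (g : GL chevF4.Idx K) (h1 : g ∈ GA K posB)
    (h2 : g ∈ chevF4.diagonalSubgroup K) : g = 1 := by
  have h3 := Triangular.pos_inf_diagonal (F := K) mem_types diag_le_diagSub
  have h4 : g ∈ chevF4.posUnipotent K ⊓ chevF4.diagonalSubgroup K :=
    ⟨by rw [posUnipotent_eq]; exact h1, h2⟩
  rw [h3] at h4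
  exact Subgroup.mem_bot.1 h4

theorem cls_pos {k : ℕ} (hk : k ≤ 8) : ∀ r < 48, clsB k r = true → 24 ≤ r := by
  intro r hr h
  have h1 : cls r = k := of_decide_eq_true h
  have h2 := cls_fact r hr
  omega

theorem cls_neg {k : ℕ} (hk : 8 < k) : ∀ r < 48, clsB k r = true → r < 24 := by
  intro r hr h
  have h1 : cls r = k := of_decide_eq_true h
  have h2 := cls_fact r hr
  omega

theorem ge_pos (k : ℕ) : ∀ r < 48, geB k r = true → 24 ≤ r := by
  intro r _ h
  unfold geB at h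
  rw [Bool.and_eq_true] at h
  exact of_decide_eq_true h.1

theorem le_pos (k : ℕ) : ∀ r < 48, leB k r = true → 24 ≤ r := by
  intro r _ h
  unfold leB at h
  rw [Bool.and_eq_true] at h
  exact of_decide_eq_true h.1

/-- `n₁` on classes -/
theorem n1_cls {k k' : ℕ} (hk : (if k ≤ 9 then 10 - k else 26 - k) = k')
    (x : GL chevF4.Idx K) (hx : x ∈ GA K (clsB k)) :
    n1 K * x * (n1 K)⁻¹ ∈ GA K (clsB k') := by
  refine Act_conj Act_n1 ?_ x hx
  intro r hr h
  have h1 : cls r = k := of_decide_eq_true h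
  have h2 := cls_fact r hr
  rw [h1, hk] at h2
  exact decide_eq_true h2.2.2.2.1

/-- `n₂` on classes -/
theorem n2_cls {k k' : ℕ} (hk : (if k ≤ 7 then 8 - k else 24 - k) = k')
    (x : GL chevF4.Idx K) (hx : x ∈ GA K (clsB k)) :
    n2 K * x * (n2 K)⁻¹ ∈ GA K (clsB k') := by
  refine Act_conj Act_n2 ?_ x hx
  intro r hr h
  have h1 : cls r = k := of_decide_eq_true h
  have h2 := cls_fact r hr
  rw [h1, hk] at h2
  exact decide_eq_true h2.2.2.2.2.1

theorem n1_1_9 (x : GL chevF4.Idx K) (hx : x ∈ GA K (clsB 1)) :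
    n1 K * x * (n1 K)⁻¹ ∈ GA K (clsB 9) := n1_cls (by norm_num) x hx
theorem n1_9_1 (x : GL chevF4.Idx K) (hx : x ∈ GA K (clsB 9)) :
    n1 K * x * (n1 K)⁻¹ ∈ GA K (clsB 1) := n1_cls (by norm_num) x hx
theorem n2_8_16 (x : GL chevF4.Idx K) (hx : x ∈ GA K (clsB 8)) :
    n2 K * x * (n2 K)⁻¹ ∈ GA K (clsB 16) := n2_cls (by norm_num) x hx
theorem n2_16_8 (x : GL chevF4.Idx K) (hx : x ∈ GA K (clsB 16)) :
    n2 K * x * (n2 K)⁻¹ ∈ GA K (clsB 8) := n2_cls (by norm_num) x hx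

theorem n1_ge2 (x : GL chevF4.Idx K) (hx : x ∈ GA K (geB 2)) : n1 K * x * (n1 K)⁻¹ ∈ GA K posB := by
  refine Act_conj Act_n1 ?_ x hx
  intro r hr h
  unfold geB at h
  rw [Bool.and_eq_true] at h
  have h0 := of_decide_eq_true h.1
  have h1 := of_decide_eq_true h.2
  have h2 := cls_fact r hr
  have h3 := cls_fact (w1 r) (w1_lt r hr)
  have h4 : cls (w1 r) = 10 - cls r := by rw [h2.2.2.2.1, if_pos (by omega)]
  exact decide_eq_true (h3.2.2.1.1 (by omega))

theorem n2_le7 (x : GL chevF4.Idx K) (hx : x ∈ GA K (leB 7)) : n2 K * x * (n2 K)⁻¹ ∈ GA K posB := by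
  refine Act_conj Act_n2 ?_ x hx
  intro r hr h
  unfold leB at h
  rw [Bool.and_eq_true] at h
  have h0 := of_decide_eq_true h.1
  have h1 := of_decide_eq_true h.2
  have h2 := cls_fact r hr
  have h3 := cls_fact (w2 r) (w2_lt r hr)
  have h4 : cls (w2 r) = 8 - cls r := by rw [h2.2.2.2.2.1, if_pos (by omega)]
  exact decide_eq_true (h3.2.2.1.1 (by omega))

theorem xa_ne_one (e : ℕ) : xa e (1 : K) ≠ 1 := by
  intro h
  have h1 := XX_col27 (K := K) ((1 : K) ^ e) 1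
  have h2 : (X 33 ((1 : K) ^ e) * X 24 1 : GL chevF4.Idx K) = 1 := h
  rw [h2, Units.val_one, Matrix.one_mulVec, one_pow] at h1
  have h3 := congrFun h1 (ofPos 38)
  simp [ev'_apply] at h3

theorem xa_pos (e : ℕ) (t : K) : xa e t ∈ GA K (clsB 1) :=
  (GA K (clsB 1)).mul_mem (X_mem_GA (by decide) (by decide) _) (X_mem_GA (by decide) (by decide) _)

theorem xb_pos (e : ℕ) (t u : K) : xb e t u ∈ GA K (clsB 8) :=
  (GA K (clsB 8)).mul_mem ((GA K (clsB 8)).mul_mem ((GA K (clsB 8)).mul_mem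
    (X_mem_GA (by decide) (by decide) _) (X_mem_GA (by decide) (by decide) _))
    (X_mem_GA (by decide) (by decide) _)) (X_mem_GA (by decide) (by decide) _)

theorem xb_ne_one (e : ℕ) : xb e (0 : K) 1 ≠ 1 := by
  intro h
  unfold xb at h
  rw [← NF_one] at h
  have h1 := NF_coord (congrArg (fun g : GL chevF4.Idx K =>
    Amat (g : Matrix chevF4.Idx chevF4.Idx K)) h)
  have h2 := h1.2.2.2
  rw [one_pow] at h2
  exact one_ne_zero h2

end Ambient

/-! ### the twisted group -/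

section TwistedGroup

variable {K : Type*} [Field K] [CharP K 2] [Finite K] {φ : K →+* K} {e : ℕ}

theorem decomp1 (hφ : Rln φ e) (u : GL chevF4.Idx K) (hu : u ∈ GA K posB) (hG : u ∈ twistedF4 K e) :
    ∃ v ∈ GA K (geB 2), ∃ x ∈ GA K (clsB 1), x ∈ twistedF4 K e ∧ u = v * x := by
  rw [← geB1] at hu
  obtain ⟨v, hv, x, hx, _, hxF, rfl⟩ := peel hφ 0 (by omega) u hu (twisted_le_Fix hφ hG)
  exact ⟨v, hv, x, hx, cls1_le hφ x hx hxF, rfl⟩

theorem decomp2 (hφ : Rln φ e) (u : GL chevF4.Idx K) (hu : u ∈ GA K posB) (hG : u ∈ twistedF4 K e) :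
    ∃ v ∈ GA K (leB 7), ∃ x ∈ GA K (clsB 8), x ∈ twistedF4 K e ∧ u = v * x := by
  obtain ⟨v, hv, x, hx, rfl⟩ := decomp_cls8 u hu
  have hnG : n2 K ∈ twistedF4 K e := n2_mem hφ.pos
  have hnF : n2 K ∈ Fix φ := twisted_le_Fix hφ hnG
  have h2 := n2_le7 v hv
  have h3 : n2 K * x * (n2 K)⁻¹ ∈ GA K (clsB 16) := n2_8_16 x hx
  have h4 : (n2 K * v * (n2 K)⁻¹) * (n2 K * x * (n2 K)⁻¹) ∈ Fix φ := by
    have h5 : (n2 K * v * (n2 K)⁻¹) * (n2 K * x * (n2 K)⁻¹) = n2 K * (v * x) * (n2 K)⁻¹ := by group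
    rw [h5]
    exact (Fix φ).mul_mem ((Fix φ).mul_mem hnF (twisted_le_Fix hφ hG)) ((Fix φ).inv_mem hnF)
  have h5 := split_BV φ (UU_le_BB (GA_pos_le_UU (fun r _ h => of_decide_eq_true h) h2))
    (GA_neg_le_VV (cls_neg (by norm_num)) h3) h4
  have hxF : x ∈ Fix φ := by
    have h6 := (Fix φ).mul_mem ((Fix φ).mul_mem ((Fix φ).inv_mem hnF) h5.2) hnF
    have h7 : (n2 K)⁻¹ * (n2 K * x * (n2 K)⁻¹) * n2 K = x := by group
    rwa [h7] at h6
  exact ⟨v, hv, x, hx, cls8_le hφ x hx hxF, rfl⟩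

/-- The relative rank one fact, for both classes. -/
theorem rank_one_gen (hφ : Rln φ e) (J : List ℕ) (L : List (List ℕ)) (w0 : List ℕ)
    (hc : chkClosed J L = true) (hcc : chkCorner L w0 = true) (hJ : ∀ i ∈ J, i < 4)
    (hL : ∀ w ∈ L, ∀ i ∈ w, i < 4) (hnil : [] ∈ L) (hw0 : ∀ i ∈ w0, i ∈ J)
    (n : GL chevF4.Idx K) (hn : n = NW K w0) (hnG : n ∈ twistedF4 K e)
    (A A' V : ℕ → Bool) (hA' : ∀ r < 48, A' r = true → r < 24)
    (hle : ∀ g ∈ GA K A, g ∈ Fix φ → g ∈ twistedF4 K e)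
    (hX : ∀ x ∈ GA K A, n * x * n⁻¹ ∈ GA K A') (hY : ∀ y ∈ GA K A', n * y * n⁻¹ ∈ GA K posB)
    (hV : ∀ v ∈ GA K V, n * v * n⁻¹ ∈ GA K posB)
    (hdec : ∀ u ∈ GA K posB, ∃ v ∈ GA K V, ∃ x ∈ GA K A, u = v * x)
    (hnH : ∀ h ∈ chevF4.diagonalSubgroup K, n * h * n⁻¹ ∈ chevF4.diagonalSubgroup K)
    (y : GL chevF4.Idx K) (hy : y ∈ GA K A') (hyG : y ∈ twistedF4 K e) (hy1 : y ≠ 1) :
    ∃ u ∈ GA K posB, u ∈ twistedF4 K e ∧ ∃ h ∈ chevF4.diagonalSubgroup K, h ∈ twistedF4 K e ∧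
      ∃ x ∈ GA K A, x ∈ twistedF4 K e ∧ y = u * h * n * x := by
  set P := Subgroup.closure ((chevF4.borelSubgroup K : Set (GL chevF4.Idx K)) ∪
      {x | ∃ i ∈ J, x = nG K (sp i)}) with hP
  have hB : chevF4.borelSubgroup K ≤ P := fun b hb => Subgroup.subset_closure (Or.inl hb)
  have hnP : n ∈ P := by
    rw [hn]
    unfold NW
    apply Subgroup.list_prod_mem
    intro g hg
    rw [List.mem_map] at hg
    obtain ⟨i, hi, rfl⟩ := hg
    exact Subgroup.subset_closure (Or.inr ⟨i, hw0 i hi, rfl⟩)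
  have hyP : y ∈ P := by
    have h1 := hB (U_le_borel (hY y hy))
    have h2 := P.mul_mem (P.mul_mem (P.inv_mem hnP) h1) hnP
    have h3 : n⁻¹ * (n * y * n⁻¹) * n = y := by group
    rwa [h3] at h2
  obtain ⟨w, hw, b, hb, b', hb', hyb⟩ := levi_bruhat hHX J L hc hJ hL hnil y hyP
  have hyF : y ∈ Fix φ := twisted_le_Fix hφ hyG
  have hw1 := word_of_Fix φ L w0 hcc hL w hw b b' (borel_le_BB hb) (borel_le_BB hb')
    (by rw [← hyb]; exact hyF)
  rcases hw1 with rfl | rfl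
  · exfalso
    apply hy1
    apply borel_inf_negB y _ (neg_le_neg' hA' hy)
    rw [hyb]
    have h1 : NW K [] = 1 := rfl
    rw [h1, mul_one]
    exact (chevF4.borelSubgroup K).mul_mem hb hb'
  · rw [← hn] at hyb
    obtain ⟨u, hu, h, hh, hb1⟩ := (mem_borel_iff hHX b'⁻¹).1 ((chevF4.borelSubgroup K).inv_mem hb')
    obtain ⟨v, hv, x, hx, hux⟩ := hdec u⁻¹ ((GA K posB).inv_mem hu)
    have hb2 : b' = h⁻¹ * (v * x) := by
      rw [← hux, ← mul_inv_rev, ← hb1, inv_inv]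
    have hnh := hnH _ ((chevF4.diagonalSubgroup K).inv_mem hh)
    set b2 := b * (n * h⁻¹ * n⁻¹) * (n * v * n⁻¹) with hb2def
    have hb2B : b2 ∈ chevF4.borelSubgroup K :=
      (chevF4.borelSubgroup K).mul_mem ((chevF4.borelSubgroup K).mul_mem hb (H_le_borel hnh))
        (U_le_borel (hV v hv))
    have hy2 : y = b2 * n * x := by
      rw [hyb, hb2, hb2def]; group
    have hyn : b2 * (n * x * n⁻¹) ∈ twistedF4 K e := by
      have h1 : b2 * (n * x * n⁻¹) = y * n⁻¹ := by rw [hy2]; group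
      rw [h1]
      exact (twistedF4 K e).mul_mem hyG ((twistedF4 K e).inv_mem hnG)
    have hs := split_BV φ (borel_le_BB hb2B) (GA_neg_le_VV hA' (hX x hx)) (twisted_le_Fix hφ hyn)
    have hnF : n ∈ Fix φ := twisted_le_Fix hφ hnG
    have hxF : x ∈ Fix φ := by
      have h6 := (Fix φ).mul_mem ((Fix φ).mul_mem ((Fix φ).inv_mem hnF) hs.2) hnF
      have h7 : n⁻¹ * (n * x * n⁻¹) * n = x := by group
      rwa [h7] at h6
    have hxG := hle x hx hxF
    obtain ⟨u', hu', h', hh', hb3⟩ := (mem_borel_iff hHX b2).1 hb2B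
    have hs2 := split_UH φ (GA_pos_le_UU (fun r _ h => of_decide_eq_true h) hu') (diag_le_DD hh')
      (by rw [← hb3]; exact hs.1)
    have hu'G : u' ∈ twistedF4 K e := U_inf_Fix_le hφ ⟨hu', hs2.1⟩
    have hh'G : h' ∈ twistedF4 K e := by
      have h1 : h' = u'⁻¹ * y * x⁻¹ * n⁻¹ := by rw [hy2, hb3]; group
      rw [h1]
      exact (twistedF4 K e).mul_mem ((twistedF4 K e).mul_mem ((twistedF4 K e).mul_mem
        ((twistedF4 K e).inv_mem hu'G) hyG) ((twistedF4 K e).inv_mem hxG)) ((twistedF4 K e).inv_mem hnG)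
    exact ⟨u', hu', hu'G, h', hh', hh'G, x, hx, hxG, by rw [hy2, hb3]⟩

theorem rank_one1 (hφ : Rln φ e) (y : GL chevF4.Idx K) (hy : y ∈ GA K (clsB 9))
    (hyG : y ∈ twistedF4 K e) (hy1 : y ≠ 1) :
    ∃ u ∈ GA K posB, u ∈ twistedF4 K e ∧ ∃ h ∈ chevF4.diagonalSubgroup K, h ∈ twistedF4 K e ∧
      ∃ x ∈ GA K (clsB 1), x ∈ twistedF4 K e ∧ y = u * h * n1 K * x := by
  refine rank_one_gen hφ [0, 3] L1 [0, 3] chkClosed_L1 chkCorner_L1 (by decide) (by decide)
    (by decide) (by decide) (n1 K) n1_eq_NW n1_mem (clsB 1) (clsB 9) (geB 2)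
    (cls_neg (by norm_num)) (cls1_le hφ) n1_1_9 (fun y hy => ?_) n1_ge2 ?_
    (Act_conj_H Act_n1) y hy hyG hy1
  · exact pos_le_pos (cls_pos (by norm_num)) (n1_9_1 y hy)
  · intro u hu
    rw [← geB1] at hu
    exact decomp_ge 1 (by norm_num) (by norm_num) u hu

theorem rank_one2 (hφ : Rln φ e) (y : GL chevF4.Idx K) (hy : y ∈ GA K (clsB 16))
    (hyG : y ∈ twistedF4 K e) (hy1 : y ≠ 1) :
    ∃ u ∈ GA K posB, u ∈ twistedF4 K e ∧ ∃ h ∈ chevF4.diagonalSubgroup K, h ∈ twistedF4 K e ∧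
      ∃ x ∈ GA K (clsB 8), x ∈ twistedF4 K e ∧ y = u * h * n2 K * x := by
  refine rank_one_gen hφ [1, 2] L2 [1, 2, 1, 2] chkClosed_L2 chkCorner_L2 (by decide) (by decide)
    (by decide) (by decide) (n2 K) n2_eq_NW (n2_mem hφ.pos) (clsB 8) (clsB 16) (leB 7)
    (cls_neg (by norm_num)) (cls8_le hφ) n2_8_16 (fun y hy => ?_) n2_le7
    decomp_cls8 (Act_conj_H Act_n2) y hy hyG hy1
  exact pos_le_pos (cls_pos (by norm_num)) (n2_16_8 y hy)

/-! ### the action on classes -/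

/-- the opposite class -/
def opp (k : ℕ) : ℕ := if k ≤ 8 then k + 8 else k - 8

/-- `g` permutes the root class groups -/
def CAct (g : GL chevF4.Idx K) : Prop :=
  ∃ f : ℕ → ℕ, (∀ k, 1 ≤ k → k ≤ 16 → 1 ≤ f k ∧ f k ≤ 16 ∧ f (opp k) = opp (f k)) ∧
    ∀ k, 1 ≤ k → k ≤ 16 → ∀ x ∈ GA K (clsB k), g * x * g⁻¹ ∈ GA K (clsB (f k))

omit [Finite K] in
theorem CAct_one : CAct (1 : GL chevF4.Idx K) :=
  ⟨id, fun _ h1 h2 => ⟨h1, h2, rfl⟩, fun _ _ _ x hx => by simpa using hx⟩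

omit [Finite K] in
theorem CAct_mul {g h : GL chevF4.Idx K} (hg : CAct g) (hh : CAct h) : CAct (g * h) := by
  obtain ⟨f, hf1, hf2⟩ := hg
  obtain ⟨f', hf1', hf2'⟩ := hh
  refine ⟨fun k => f (f' k), fun k h1 h2 => ?_, fun k h1 h2 x hx => ?_⟩
  · obtain ⟨a, b, c⟩ := hf1' k h1 h2
    obtain ⟨a', b', c'⟩ := hf1 (f' k) a b
    exact ⟨a', b', by show f (f' (opp k)) = opp (f (f' k)); rw [c, c']⟩
  · have h3 := hf2' k h1 h2 x hx
    obtain ⟨a, b, -⟩ := hf1' k h1 h2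
    have h4 := hf2 (f' k) a b _ h3
    have h5 : g * h * x * (g * h)⁻¹ = g * (h * x * h⁻¹) * g⁻¹ := by group
    rw [h5]
    exact h4

omit [Finite K] in
theorem CAct_n1 : CAct (n1 K) := by
  refine ⟨fun k => if k ≤ 9 then 10 - k else 26 - k, fun k h1 h2 => ?_, fun k _ _ x hx => n1_cls rfl x hx⟩
  unfold opp
  dsimp only
  split_ifs <;> omega

omit [Finite K] in
theorem CAct_n2 : CAct (n2 K) := by
  refine ⟨fun k => if k ≤ 7 then 8 - k else 24 - k, fun k h1 h2 => ?_, fun k _ _ x hx => n2_cls rfl x hx⟩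
  unfold opp
  dsimp only
  split_ifs <;> omega

omit [Finite K] in
theorem CAct_H {h : GL chevF4.Idx K} (hh : h ∈ chevF4.diagonalSubgroup K) : CAct h :=
  ⟨id, fun _ h1 h2 => ⟨h1, h2, rfl⟩, fun k _ _ x hx => H_norm_GA hHX (clsB k) h hh x hx⟩

/-- the group of the elements permuting the class groups -/
def CG (K : Type*) [Field K] [CharP K 2] [Finite K] : Subgroup (GL chevF4.Idx K) := ofSubmonoid
  { carrier := {g | CAct g}
    one_mem' := CAct_one
    mul_mem' := fun ha hb => CAct_mul ha hb }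

theorem mem_CG (g : GL chevF4.Idx K) : g ∈ CG K ↔ CAct g := Iff.rfl

theorem CG_cases {m : GL chevF4.Idx K} (hm : m ∈ CG K) {k : ℕ} (h1 : 1 ≤ k) (h2 : k ≤ 8) :
    (∀ x ∈ GA K (clsB k), m⁻¹ * x * m ∈ GA K posB) ∨
      (∀ y ∈ GA K (clsB (k + 8)), m⁻¹ * y * m ∈ GA K posB) := by
  obtain ⟨f, hf1, hf2⟩ := (mem_CG _).1 ((CG K).inv_mem hm)
  obtain ⟨a, b, c⟩ := hf1 k h1 (by omega)
  have e1 : opp k = k + 8 := by unfold opp; rw [if_pos h2]
  rw [e1] at c
  by_cases hk : f k ≤ 8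
  · left
    intro x hx
    have h3 := hf2 k h1 (by omega) x hx
    rw [inv_inv] at h3
    exact pos_le_pos (cls_pos hk) h3
  · right
    intro x hx
    have h3 := hf2 (k + 8) (by omega) (by omega) x hx
    rw [inv_inv, c] at h3
    have e2 : opp (f k) ≤ 8 := by unfold opp; rw [if_neg hk]; omega
    exact pos_le_pos (cls_pos e2) h3

/-- the representatives `n₁`, `n₂` as a function -/
def nn (K : Type*) [Field K] [CharP K 2] : Fin 2 → GL chevF4.Idx K := ![n1 K, n2 K]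

omit [Finite K] in
theorem nn_zero : nn K 0 = n1 K := rfl
omit [Finite K] in
theorem nn_one : nn K 1 = n2 K := rfl

theorem closure_le_CG : Subgroup.closure (Set.range (nn K)) ⊔
    (chevF4.diagonalSubgroup K ⊓ twistedF4 K e) ≤ CG K := by
  apply sup_le
  · rw [Subgroup.closure_le]
    rintro _ ⟨i, rfl⟩
    revert i
    exact Fin.forall_fin_two.2 ⟨CAct_n1, CAct_n2⟩
  · exact fun h hh => CAct_H hh.1

omit [Finite K] in
theorem n1_inv_mul_n2 : (n1 K)⁻¹ * n2 K ∉ chevF4.diagonalSubgroup K := by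
  intro h
  have h1 := (permHom_eq_one_iff ((⟨n1 K, n1_mem_N⟩ : ↥(chevF4.monomialSubgroup K))⁻¹ *
    ⟨n2 K, n2_mem_N⟩)).2 h
  rw [map_mul, map_inv, permHom_n1, permHom_n2, inv_mul_eq_one] at h1
  have h2 := congrArg (fun p : Equiv.Perm R => (p ⟨33, by decide⟩).val) h1
  simp only [P1_val, P2_val] at h2
  revert h2
  decide

omit [Finite K] in
theorem n2_inv_mul_n1 : (n2 K)⁻¹ * n1 K ∉ chevF4.diagonalSubgroup K := by
  intro h
  have h1 := (chevF4.diagonalSubgroup K).inv_mem h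
  rw [mul_inv_rev, inv_inv] at h1
  exact n1_inv_mul_n2 h1

omit [Finite K] in
/-- an element of `X_{S_k}` (`k = 1, 8`) different from 1 is moved out of `B` -/
theorem conj_not_mem {n x : GL chevF4.Idx K} (hx : x ≠ 1) (h : n * x * n⁻¹ ∈ GA K negB) :
    n * x * n⁻¹ ∉ chevF4.borelSubgroup K := by
  intro hb
  have h1 := borel_inf_negB _ hb h
  apply hx
  have h2 : x = n⁻¹ * (n * x * n⁻¹) * n := by group
  rw [h2, h1]
  group

/-- **The relative root datum of `²F₄`.** -/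
def twistedData (hφ : Rln φ e) : TwistedBN.TwistedData (GL chevF4.Idx K) (Fin 2) where
  U := chevF4.posUnipotent K
  H := chevF4.diagonalSubgroup K
  N := chevF4.monomialSubgroup K
  G := twistedF4 K e
  n := nn K
  X := ![(GA K (clsB 1) : Set (GL chevF4.Idx K)), (GA K (clsB 8) : Set (GL chevF4.Idx K))]
  Y := ![(GA K (clsB 9) : Set (GL chevF4.Idx K)), (GA K (clsB 16) : Set (GL chevF4.Idx K))]
  V := ![(GA K (geB 2) : Set (GL chevF4.Idx K)), (GA K (leB 7) : Set (GL chevF4.Idx K))]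
  H_le_N := le_sup_left
  conj_H_U := by
    rw [posUnipotent_eq]
    exact fun h hh u hu => H_norm_GA hHX posB h hh u hu
  conj_N_H := fun m hm h hh => N_conj_diagonal hm hh
  inf_le := borel_inf_N
  U_inf_H := by
    rw [posUnipotent_eq]
    exact pos_inf_H
  n_mem_N := Fin.forall_fin_two.2 ⟨n1_mem_N, n2_mem_N⟩
  n_mem_G := Fin.forall_fin_two.2 ⟨n1_mem, n2_mem hφ.pos⟩
  sq_mem := Fin.forall_fin_two.2
    ⟨by rw [nn_zero, n1_mul_self]; exact one_mem _, by rw [nn_one, n2_mul_self]; exact one_mem _⟩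
  decomp := by
    rw [posUnipotent_eq]
    exact Fin.forall_fin_two.2 ⟨fun u hu hG => decomp1 hφ u hu hG, fun u hu hG => decomp2 hφ u hu hG⟩
  conj_V := by
    rw [posUnipotent_eq]
    exact Fin.forall_fin_two.2 ⟨fun v hv => n1_ge2 v hv, fun v hv => n2_le7 v hv⟩
  conj_X := Fin.forall_fin_two.2 ⟨fun x hx => n1_1_9 x hx, fun x hx => n2_8_16 x hx⟩
  conj_inv_X := Fin.forall_fin_two.2
    ⟨fun x hx => by
      have h := n1_1_9 x hx
      rw [n1_inv] at h
      rw [nn_zero, n1_inv]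
      exact h,
     fun x hx => by
      have h := n2_8_16 x hx
      rw [n2_inv] at h
      rw [nn_one, n2_inv]
      exact h⟩
  rank_one := by
    rw [posUnipotent_eq]
    exact Fin.forall_fin_two.2 ⟨fun y hy hyG h1 => rank_one1 hφ y hy hyG h1,
      fun y hy hyG h1 => rank_one2 hφ y hy hyG h1⟩
  root_cases := by
    rw [posUnipotent_eq]
    intro m hm
    have hm' := closure_le_CG hm
    refine Fin.forall_fin_two.2 ⟨?_, ?_⟩
    · rcases CG_cases hm' (k := 1) (by norm_num) (by norm_num) with h | h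
      · exact Or.inl fun x hx _ => h x hx
      · exact Or.inr fun x hx _ => h x hx
    · rcases CG_cases hm' (k := 8) (by norm_num) (by norm_num) with h | h
      · exact Or.inl fun x hx _ => h x hx
      · exact Or.inr fun x hx _ => h x hx
  gen := by
    rw [posUnipotent_eq]
    set C := Subgroup.closure ({g | g ∈ GA K posB ∧ g ∈ twistedF4 K e} ∪ Set.range (nn K)) with hC
    have h1 : n1 K ∈ C := Subgroup.subset_closure (Or.inr ⟨0, rfl⟩)
    have h2 : n2 K ∈ C := Subgroup.subset_closure (Or.inr ⟨1, rfl⟩)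
    have h3 : ∀ t : K, xa e t ∈ C := fun t =>
      Subgroup.subset_closure (Or.inl ⟨pos_le_pos (cls_pos (by norm_num)) (xa_pos e t), xa_mem t⟩)
    have h4 : ∀ t u : K, xb e t u ∈ C := fun t u =>
      Subgroup.subset_closure (Or.inl ⟨pos_le_pos (cls_pos (by norm_num)) (xb_pos e t u), xb_mem t u⟩)
    rw [twisted_le_iff]
    exact ⟨h3, fun t => C.mul_mem (C.mul_mem h1 (h3 t)) (C.inv_mem h1), h4,
      fun t u => C.mul_mem (C.mul_mem h2 (h4 t u)) (C.inv_mem h2)⟩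
  bruhat := fun m hm m' hm' b hb b' hb' h =>
    Subgroup.mem_sup_right (bruhat_unique m hm m' hm' b hb b' hb' h)
  n_ne := by
    refine Fin.forall_fin_two.2 ⟨Fin.forall_fin_two.2 ⟨fun h => absurd rfl h, fun _ => n1_inv_mul_n2⟩,
      Fin.forall_fin_two.2 ⟨fun _ => n2_inv_mul_n1, fun h => absurd rfl h⟩⟩
  not_le := by
    refine Fin.forall_fin_two.2 ⟨⟨xa e 1, ?_, xa_mem 1, ?_⟩, ⟨xb e 0 1, ?_, xb_mem 0 1, ?_⟩⟩
    · rw [posUnipotent_eq]; exact pos_le_pos (cls_pos (by norm_num)) (xa_pos e 1)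
    · exact conj_not_mem (xa_ne_one e) (neg_le_neg' (cls_neg (by norm_num)) (n1_1_9 _ (xa_pos e 1)))
    · rw [posUnipotent_eq]; exact pos_le_pos (cls_pos (by norm_num)) (xb_pos e 0 1)
    · exact conj_not_mem (xb_ne_one e) (neg_le_neg' (cls_neg (by norm_num)) (n2_8_16 _ (xb_pos e 0 1)))

/-- the (B,N)-pair of `²F₄` -/
theorem exists_bnPair (hφ : Rln φ e) : ∃ P : Cfsg.BNPair ↥(twistedF4 K e),
    P.B = (chevF4.borelSubgroup K).subgroupOf (twistedF4 K e) ∧
    P.N = (chevF4.monomialSubgroup K).subgroupOf (twistedF4 K e) ∧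
      P.S = Set.range (twistedData hφ).nG := (twistedData hφ).exists_bnPair

end TwistedGroup

end Cfsg.Agent.ChevalleyStructure.TwF4.BN
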