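import Cfsg.Agent.ChevalleyStructure.TwF4.BN

/-!
The (B,N)-pair of `²F₄` is irreducible of rank 2.
-/

set_option autoImplicit false
set_option linter.unusedSectionVars false

namespace Cfsg.Agent.ChevalleyStructure.TwF4.BNIrred

open Cfsg.Lie Cfsg.Agent.ChevalleyStructure.TwF4.Bits Cfsg.Agent.ChevalleyStructure.TwF4.Tables
open Cfsg.Agent.ChevalleyStructure.TwF4.Rel Cfsg.Agent.ChevalleyStructure.TwF4.Fix
open Cfsg.Agent.ChevalleyStructure.TwF4.TwistedFix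
open Cfsg.Agent.ChevalleyStructure.TwF4.NStruct (R permHom permHom_eq_one_iff)
open Cfsg.Agent.ChevalleyStructure.TwF4.NRoot (P1 P2 P1_val P2_val permHom_n1 permHom_n2)
open Cfsg.Agent.ChevalleyStructure.TwF4.BN

variable {K : Type*} [Field K] [CharP K 2]

theorem comm_not_mem : n1 K * n2 K * (n1 K)⁻¹ * (n2 K)⁻¹ ∉ chevF4.borelSubgroup K := by
  intro hb
  have hN : n1 K * n2 K * (n1 K)⁻¹ * (n2 K)⁻¹ ∈ chevF4.monomialSubgroup K :=
    mul_mem (mul_mem (mul_mem n1_mem_N n2_mem_N) (inv_mem n1_mem_N)) (inv_mem n2_mem_N)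
  have h := borel_inf_N ⟨hb, hN⟩
  have h1 := (permHom_eq_one_iff ((⟨n1 K, n1_mem_N⟩ : ↥(chevF4.monomialSubgroup K)) *
    ⟨n2 K, n2_mem_N⟩ * (⟨n1 K, n1_mem_N⟩ : ↥(chevF4.monomialSubgroup K))⁻¹ *
    (⟨n2 K, n2_mem_N⟩ : ↥(chevF4.monomialSubgroup K))⁻¹)).2 h
  rw [map_mul, map_mul, map_mul, map_inv, map_inv, permHom_n1, permHom_n2,
    mul_inv_eq_one, mul_inv_eq_iff_eq_mul] at h1
  have h2 := congrArg (fun p : Equiv.Perm R => (p ⟨33, by decide⟩).val) h1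
  simp only [Equiv.Perm.mul_apply, P1_val, P2_val] at h2
  revert h2
  decide

theorem comm_not_mem' : n2 K * n1 K * (n2 K)⁻¹ * (n1 K)⁻¹ ∉ chevF4.borelSubgroup K := by
  intro hb
  apply comm_not_mem (K := K)
  have h := (chevF4.borelSubgroup K).inv_mem hb
  have e : (n2 K * n1 K * (n2 K)⁻¹ * (n1 K)⁻¹)⁻¹ = n1 K * n2 K * (n1 K)⁻¹ * (n2 K)⁻¹ := by group
  rwa [e] at h

variable [Finite K] {φ : K →+* K} {e : ℕ}

/-- The (B,N)-pair of `²F₄` has `B = G¹ ∩ B`, `N = G¹ ∩ N`, is irreducible, and has two generators. -/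
theorem exists_bnPair_irreducible (hφ : Rln φ e) : ∃ P : Cfsg.BNPair ↥(twistedF4 K e),
    P.B = (chevF4.borelSubgroup K).subgroupOf (twistedF4 K e) ∧
    P.N = (chevF4.monomialSubgroup K).subgroupOf (twistedF4 K e) ∧
      P.Irreducible ∧ P.S = {⟨n1 K, n1_mem⟩, ⟨n2 K, n2_mem hφ.pos⟩} := by
  obtain ⟨P, hB, hN, hS⟩ := exists_bnPair hφ
  have hS' : P.S = {⟨n1 K, n1_mem⟩, ⟨n2 K, n2_mem hφ.pos⟩} := by
    rw [hS]
    ext g
    constructor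
    · rintro ⟨i, rfl⟩
      revert i
      exact Fin.forall_fin_two.2 ⟨Or.inl rfl, Or.inr rfl⟩
    · rintro (rfl | rfl)
      · exact ⟨0, rfl⟩
      · exact ⟨1, rfl⟩
  refine ⟨P, hB, hN, ?_, hS'⟩
  intro J hJ hJne hJc
  rw [hS'] at hJ hJc ⊢
  have key1 : (⟨n1 K, n1_mem⟩ : ↥(twistedF4 K e)) * ⟨n2 K, n2_mem hφ.pos⟩ *
      (⟨n1 K, n1_mem⟩ : ↥(twistedF4 K e))⁻¹ * (⟨n2 K, n2_mem hφ.pos⟩ : ↥(twistedF4 K e))⁻¹ ∉ P.B := by
    rw [hB]
    exact comm_not_mem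
  have key2 : (⟨n2 K, n2_mem hφ.pos⟩ : ↥(twistedF4 K e)) * ⟨n1 K, n1_mem⟩ *
      (⟨n2 K, n2_mem hφ.pos⟩ : ↥(twistedF4 K e))⁻¹ * (⟨n1 K, n1_mem⟩ : ↥(twistedF4 K e))⁻¹ ∉ P.B := by
    rw [hB]
    exact comm_not_mem'
  obtain ⟨s, hs⟩ := hJne
  obtain ⟨s', hs', hs'J⟩ := hJc
  refine ⟨s, hs, s', ⟨hs', hs'J⟩, ?_⟩
  have hne : s ≠ s' := fun h => hs'J (h ▸ hs)
  rcases hJ hs with rfl | h
  · rcases hs' with rfl | h'
    · exact absurd rfl hne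
    · rw [Set.mem_singleton_iff] at h'
      subst h'
      exact key1
  · rw [Set.mem_singleton_iff] at h
    subst h
    rcases hs' with rfl | h'
    · exact key2
    · rw [Set.mem_singleton_iff] at h'
      exact absurd h'.symm hne

end Cfsg.Agent.ChevalleyStructure.TwF4.BNIrred
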