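import Mathlib

/-!
Matrices over `𝔽₂` of size `52 × 52` packed in natural numbers (bit `52 * row + col`), polynomial
matrices in two variables with such coefficients, and their evaluation over a field (ring) of
characteristic 2.  Used for kernel checks of identities between root elements of type `F₄` in
characteristic 2.
-/

set_option autoImplicit false
set_option linter.unusedSectionVars false

namespace Cfsg.Agent.ChevalleyStructure.TwF4.Bits

/-- a sparse matrix: list of (row, column) positions of ones (with multiplicity mod 2) -/
abbrev Sparse := List (ℕ × ℕ)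

/-- row `s` of the packed matrix `M` moved to row `u` -/
def moveRow (M u s : ℕ) : ℕ := ((M >>> (52 * s)) % 2 ^ 52) <<< (52 * u)

/-- product of the sparse matrix `l` with the packed matrix `M` -/
def lmul (l : Sparse) (M : ℕ) : ℕ :=
  match M with
  | 0 => 0
  | M => l.foldr (fun e acc => acc ^^^ moveRow M e.1 e.2) 0

theorem testBit_moveRow (M u s i j : ℕ) (hj : j < 52) :
    (moveRow M u s).testBit (52 * i + j) = (decide (i = u) && M.testBit (52 * s + j)) := by
  unfold moveRow
  rw [Nat.testBit_shiftLeft, Nat.testBit_mod_two_pow, Nat.testBit_shiftRight]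
  by_cases h : i = u
  · subst h
    have h1 : 52 * i + j ≥ 52 * i := by omega
    have h2 : 52 * i + j - 52 * i = j := by omega
    simp [h1, h2, hj]
  · rcases lt_or_gt_of_ne h with h' | h'
    · have h1 : ¬ (52 * i + j ≥ 52 * u) := by omega
      simp [h, h1]
    · have h1 : ¬ (52 * i + j - 52 * u < 52) := by omega
      simp [h, h1]

section Sem

variable {I : Type*} [Fintype I] [DecidableEq I] (pos : I → ℕ)
variable (K : Type*) [Field K]

/-- the matrix represented by the packed natural number `M` -/
def sem (M : ℕ) : Matrix I I K := Matrix.of fun i j => if M.testBit (52 * pos i + pos j) then 1 else 0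

/-- the matrix represented by a sparse list -/
def semS (l : Sparse) : Matrix I I K :=
  Matrix.of fun i j => (l.map fun e => if e.1 = pos i ∧ e.2 = pos j then (1 : K) else 0).sum

variable {K}

theorem sem_apply (M : ℕ) (i j : I) :
    sem pos K M i j = if M.testBit (52 * pos i + pos j) then 1 else 0 := rfl

theorem semS_apply (l : Sparse) (i j : I) :
    semS pos K l i j = (l.map fun e => if e.1 = pos i ∧ e.2 = pos j then (1 : K) else 0).sum := rfl

theorem sem_zero : sem pos K 0 = 0 := by
  ext i j
  simp [sem_apply]

theorem sem_xor [CharP K 2] (a b : ℕ) : sem pos K (a ^^^ b) = sem pos K a + sem pos K b := by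
  ext i j
  rw [Matrix.add_apply, sem_apply, sem_apply, sem_apply, Nat.testBit_xor]
  cases a.testBit (52 * pos i + pos j) <;> cases b.testBit (52 * pos i + pos j) <;>
    simp [CharTwo.add_self_eq_zero]

theorem semS_nil : semS pos K [] = 0 := by
  ext i j
  simp [semS_apply]

theorem semS_cons (e : ℕ × ℕ) (l : Sparse) :
    semS pos K (e :: l) = semS pos K [e] + semS pos K l := by
  ext i j
  rw [Matrix.add_apply, semS_apply, semS_apply, semS_apply]
  simp

theorem semS_append (l l' : Sparse) :
    semS pos K (l ++ l') = semS pos K l + semS pos K l' := by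
  ext i j
  rw [Matrix.add_apply, semS_apply, semS_apply, semS_apply]
  simp

/-- hypotheses on the position function: a bijection onto `{0, …, 51}` -/
structure PosOK (pos : I → ℕ) : Prop where
  inj : Function.Injective pos
  lt : ∀ i, pos i < 52
  surj : ∀ n < 52, ∃ i, pos i = n

variable {pos}

theorem sem_moveRow (hp : PosOK pos) (M u s : ℕ) (hs : s < 52) :
    sem pos K (moveRow M u s) = semS pos K [(u, s)] * sem pos K M := by
  obtain ⟨k, hk⟩ := hp.surj s hs
  ext i j
  rw [sem_apply, testBit_moveRow _ _ _ _ _ (hp.lt j), Matrix.mul_apply]
  rw [Finset.sum_eq_single k]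
  · rw [semS_apply, sem_apply]
    by_cases h : pos i = u
    · simp [h, hk]
    · have h' : ¬ (u = pos i) := fun e => h e.symm
      simp [h, h']
  · intro b _ hb
    rw [semS_apply]
    have : ¬ (s = pos b) := by
      intro e
      apply hb
      apply hp.inj
      rw [← e, hk]
    simp [this]
  · intro h
    exact absurd (Finset.mem_univ _) h

/-- all columns of the entries are in range -/
def okS (l : Sparse) : Bool := l.all fun e => decide (e.2 < 52)

theorem sem_lmul [CharP K 2] (hp : PosOK pos) (l : Sparse) (hl : okS l = true) (M : ℕ) :
    sem pos K (lmul l M) = semS pos K l * sem pos K M := by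
  have key : ∀ M : ℕ, sem pos K (l.foldr (fun e acc => acc ^^^ moveRow M e.1 e.2) 0) =
      semS pos K l * sem pos K M := by
    intro M
    induction l with
    | nil => simp [semS_nil, sem_zero]
    | cons e l ih =>
      have h1 : decide (e.2 < 52) = true ∧ okS l = true := by
        simpa [okS] using hl
      rw [List.foldr_cons, sem_xor, ih h1.2, semS_cons, Matrix.add_mul,
        sem_moveRow hp M e.1 e.2 (by simpa using h1.1), add_comm]
  unfold lmul
  cases M with
  | zero => simp [sem_zero]
  | succ n => exact key (n + 1)

end Sem

/-! ### Polynomials in one variable with packed matrices as coefficients -/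

/-- polynomial addition (coefficients xor-ed) -/
def addL : List ℕ → List ℕ → List ℕ
  | [], q => q
  | a :: p, [] => a :: p
  | a :: p, b :: q => (a ^^^ b) :: addL p q

/-- addition of polynomials in two variables -/
def addP : List (List ℕ) → List (List ℕ) → List (List ℕ)
  | [], q => q
  | a :: p, [] => a :: p
  | a :: p, b :: q => addL a b :: addP p q

/-- multiplication by the `n`-th power of the inner variable -/
def shL (n : ℕ) (p : List ℕ) : List ℕ :=
  match n with
  | 0 => p
  | n + 1 => 0 :: shL n p

/-- multiplication by the `n`-th power of the outer variable -/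
def shP (n : ℕ) (p : List (List ℕ)) : List (List ℕ) :=
  match n with
  | 0 => p
  | n + 1 => [] :: shP n p

/-- `t^a u^b · p` -/
def shift (a b : ℕ) (p : List (List ℕ)) : List (List ℕ) := shP a (p.map (shL b))

/-- all coefficients zero -/
def isZero (p : List (List ℕ)) : Bool := p.all fun q => q.all fun m => m == 0

/-- multiply all coefficients on the left by a sparse matrix -/
def lmulP (l : Sparse) (p : List (List ℕ)) : List (List ℕ) := p.map (List.map (lmul l))

section Eval

variable {I : Type*} [Fintype I] [DecidableEq I] (pos : I → ℕ)
variable {K : Type*} [Field K]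

/-- evaluation of the inner polynomials at `u` -/
def evL (u : K) : List ℕ → Matrix I I K
  | [] => 0
  | a :: p => sem pos K a + u • evL u p

/-- evaluation at `(t, u)` -/
def ev (t u : K) : List (List ℕ) → Matrix I I K
  | [] => 0
  | a :: p => evL pos u a + t • ev t u p

theorem evL_add [CharP K 2] (u : K) (p q : List ℕ) :
    evL pos u (addL p q) = evL pos u p + evL pos u q := by
  induction p generalizing q with
  | nil => simp [addL, evL]
  | cons a p ih =>
    cases q with
    | nil => simp [addL, evL]
    | cons b q => simp only [addL, evL, sem_xor, ih, smul_add]; abel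

theorem ev_add [CharP K 2] (t u : K) (p q : List (List ℕ)) :
    ev pos t u (addP p q) = ev pos t u p + ev pos t u q := by
  induction p generalizing q with
  | nil => simp [addP, ev]
  | cons a p ih =>
    cases q with
    | nil => simp [addP, ev]
    | cons b q => simp only [addP, ev, evL_add, ih, smul_add]; abel

theorem evL_sh (u : K) (n : ℕ) (p : List ℕ) : evL pos u (shL n p) = u ^ n • evL pos u p := by
  induction n with
  | zero => simp [shL]
  | succ n ih => rw [shL, evL, ih, sem_zero, zero_add, smul_smul, pow_succ']

theorem ev_sh (t u : K) (n : ℕ) (p : List (List ℕ)) :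
    ev pos t u (shP n p) = t ^ n • ev pos t u p := by
  induction n with
  | zero => simp [shP]
  | succ n ih => rw [shP, ev, ih, evL, zero_add, smul_smul, pow_succ']

theorem ev_map_shL (t u : K) (n : ℕ) (p : List (List ℕ)) :
    ev pos t u (p.map (shL n)) = u ^ n • ev pos t u p := by
  induction p with
  | nil => simp [ev]
  | cons a p ih => rw [List.map_cons, ev, ev, ih, evL_sh, smul_add, smul_comm]

theorem ev_shift (t u : K) (a b : ℕ) (p : List (List ℕ)) :
    ev pos t u (shift a b p) = (t ^ a * u ^ b) • ev pos t u p := by
  rw [shift, ev_sh, ev_map_shL, smul_smul]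

variable {pos}

theorem evL_lmul [CharP K 2] (hp : PosOK pos) (l : Sparse) (hl : okS l = true) (u : K)
    (p : List ℕ) : evL pos u (p.map (lmul l)) = semS pos K l * evL pos u p := by
  induction p with
  | nil => simp [evL]
  | cons a p ih => rw [List.map_cons, evL, evL, ih, sem_lmul hp l hl, Matrix.mul_add,
      Matrix.mul_smul]

theorem ev_lmul [CharP K 2] (hp : PosOK pos) (l : Sparse) (hl : okS l = true) (t u : K)
    (p : List (List ℕ)) : ev pos t u (lmulP l p) = semS pos K l * ev pos t u p := by
  unfold lmulP
  induction p with
  | nil => simp [ev]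
  | cons a p ih => rw [List.map_cons, ev, ev, ih, evL_lmul hp l hl, Matrix.mul_add,
      Matrix.mul_smul]

theorem evL_zero (u : K) (p : List ℕ) (h : (p.all fun m => m == 0) = true) :
    evL pos u p = 0 := by
  induction p with
  | nil => rfl
  | cons a p ih =>
    have h1 : a = 0 ∧ (p.all fun m => m == 0) = true := by simpa using h
    rw [evL, ih h1.2, h1.1, sem_zero, smul_zero, add_zero]

theorem ev_zero (t u : K) (p : List (List ℕ)) (h : isZero p = true) :
    ev pos t u p = 0 := by
  unfold isZero at h
  induction p with
  | nil => rfl
  | cons a p ih =>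
    rw [List.all_cons, Bool.and_eq_true] at h
    rw [ev, ih h.2, evL_zero u a h.1, smul_zero, add_zero]

/-- equality test of two polynomials -/
def eqP (p q : List (List ℕ)) : Bool := isZero (addP p q)

theorem ev_eq_of_eqP [CharP K 2] (t u : K) (p q : List (List ℕ)) (h : eqP p q = true) :
    ev pos t u p = ev pos t u q := by
  have h1 := ev_zero (pos := pos) t u _ h
  rw [ev_add] at h1
  have h2 : ev pos t u q + ev pos t u q = 0 := by
    ext i j
    rw [Matrix.add_apply, Matrix.zero_apply, CharTwo.add_self_eq_zero]
  calc ev pos t u p = ev pos t u p + (ev pos t u q + ev pos t u q) := by rw [h2, add_zero]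
    _ = (ev pos t u p + ev pos t u q) + ev pos t u q := by rw [add_assoc]
    _ = ev pos t u q := by rw [h1, zero_add]

end Eval

/-- the packed identity matrix -/
def idN : ℕ := (List.range 52).foldr (fun i acc => acc ^^^ (1 <<< (53 * i))) 0

end Cfsg.Agent.ChevalleyStructure.TwF4.Bits
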