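import Mathlib

/-!
# The homomorphism from a dihedral group given by two involutions
-/

set_option autoImplicit false

namespace Cfsg.Agent.ChevalleyStructure.TwF4.DihHom

open DihedralGroup

variable {G : Type*} [Group G] {n : ℕ} [NeZero n] {a b : G}

/-- The images of the elements of the dihedral group. -/
def dihFun (n : ℕ) (a b : G) : DihedralGroup n → G
  | r i => (a * b) ^ i.val
  | sr i => a * (a * b) ^ i.val

theorem dihFun_r (i : ZMod n) : dihFun n a b (r i) = (a * b) ^ i.val := rfl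
theorem dihFun_sr (i : ZMod n) : dihFun n a b (sr i) = a * (a * b) ^ i.val := rfl

theorem pow_val_add (hab : (a * b) ^ n = 1) (i j : ZMod n) :
    (a * b) ^ (i + j).val = (a * b) ^ i.val * (a * b) ^ j.val := by
  rw [← pow_add, ZMod.val_add, ← pow_eq_pow_mod _ hab]

theorem pow_val_neg (hab : (a * b) ^ n = 1) (i : ZMod n) : (a * b) ^ (-i).val = ((a * b) ^ i.val)⁻¹ := by
  rw [eq_inv_iff_mul_eq_one, ← pow_val_add hab, neg_add_cancel, ZMod.val_zero, pow_zero]

theorem flip_pow (ha : a * a = 1) (hb : b * b = 1) (k : ℕ) : a * (a * b) ^ k * a = ((a * b) ^ k)⁻¹ := by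
  have ha' : a⁻¹ = a := by rw [inv_eq_iff_mul_eq_one, ha]
  have hb' : b⁻¹ = b := by rw [inv_eq_iff_mul_eq_one, hb]
  have h1 : a * (a * b) ^ k * a = a * (a * b) ^ k * a⁻¹ := by rw [ha']
  rw [h1, ← _root_.conj_pow, ← inv_pow]
  congr 1
  rw [mul_inv_rev, ha', hb', ← mul_assoc, ha, one_mul]

/-- The homomorphism `r i ↦ (ab)^i`, `sr i ↦ a (ab)^i`. -/
def dihHom (n : ℕ) [NeZero n] (a b : G) (ha : a * a = 1) (hb : b * b = 1) (hab : (a * b) ^ n = 1) :
    DihedralGroup n →* G where
  toFun := dihFun n a b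
  map_one' := by
    show dihFun n a b (r 0) = 1
    rw [dihFun_r, ZMod.val_zero, pow_zero]
  map_mul' x y := by
    rcases x with i | i <;> rcases y with j | j
    · rw [r_mul_r, dihFun_r, dihFun_r, dihFun_r, pow_val_add hab]
    · rw [r_mul_sr, dihFun_sr, dihFun_r, dihFun_sr, sub_eq_neg_add, pow_val_add hab, pow_val_neg hab,
        ← flip_pow ha hb]
      simp only [mul_assoc]
      rw [← mul_assoc a a, ha, one_mul]
    · rw [sr_mul_r, dihFun_sr, dihFun_r, dihFun_sr, pow_val_add hab, mul_assoc]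
    · rw [sr_mul_sr, dihFun_r, dihFun_sr, dihFun_sr, sub_eq_neg_add, pow_val_add hab, pow_val_neg hab,
        ← flip_pow ha hb]
      simp only [mul_assoc]

theorem dihHom_r (ha : a * a = 1) (hb : b * b = 1) (hab : (a * b) ^ n = 1) (i : ZMod n) :
    dihHom n a b ha hb hab (r i) = (a * b) ^ i.val := rfl

theorem dihHom_sr (ha : a * a = 1) (hb : b * b = 1) (hab : (a * b) ^ n = 1) (i : ZMod n) :
    dihHom n a b ha hb hab (sr i) = a * (a * b) ^ i.val := rfl

end Cfsg.Agent.ChevalleyStructure.TwF4.DihHom
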