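import Cfsg.Agent.ChevalleyStructure.TwF4.Fix
import Cfsg.Agent.ChevalleyStructure.Unitriangular

/-!
Type `F₄` in characteristic 2: subgroups generated by sets of root elements, normalisation,
decompositions `U_{≥k} = U_{>k} X_{S_k}`, the simple root complements, and the action of words in the
`n_p` on root elements.
-/

set_option autoImplicit false
set_option linter.unusedSectionVars false

namespace Cfsg.Agent.ChevalleyStructure.TwF4.Groups

open Cfsg.Lie Cfsg.Agent.ChevalleyStructure.TwF4.Bits Cfsg.Agent.ChevalleyStructure.TwF4.Tables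
open Cfsg.Agent.ChevalleyStructure.TwF4.Rel Cfsg.Agent.ChevalleyStructure.TwF4.Fix

open scoped Pointwise

variable {K : Type*} [Field K] [CharP K 2]

/-- the subgroup generated by the root elements `x_r(t)`, `r < 48`, `A r` -/
def GA (K : Type*) [Field K] [CharP K 2] (A : ℕ → Bool) : Subgroup (GL chevF4.Idx K) :=
  Subgroup.closure {g | ∃ (r : ℕ) (t : K), r < 48 ∧ A r = true ∧ g = X r t}

theorem X_mem_GA {A : ℕ → Bool} {r : ℕ} (hr : r < 48) (h : A r = true) (t : K) : X r t ∈ GA K A :=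
  Subgroup.subset_closure ⟨r, t, hr, h, rfl⟩

theorem GA_le_iff {A : ℕ → Bool} {S : Subgroup (GL chevF4.Idx K)} :
    GA K A ≤ S ↔ ∀ r < 48, A r = true → ∀ t : K, X r t ∈ S := by
  unfold GA
  rw [Subgroup.closure_le]
  constructor
  · intro h r hr hA t
    exact h ⟨r, t, hr, hA, rfl⟩
  · rintro h _ ⟨r, t, hr, hA, rfl⟩
    exact h r hr hA t

theorem GA_mono {A B : ℕ → Bool} (h : ∀ r < 48, A r = true → B r = true) : GA K A ≤ GA K B :=
  GA_le_iff.2 fun r hr hA t => X_mem_GA hr (h r hr hA) t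

/-- conjugation principle -/
theorem conj_GA {A : ℕ → Bool} {S : Subgroup (GL chevF4.Idx K)} {g : GL chevF4.Idx K}
    (h : ∀ r < 48, A r = true → ∀ t : K, g * X r t * g⁻¹ ∈ S) :
    ∀ x ∈ GA K A, g * x * g⁻¹ ∈ S := by
  have h1 : GA K A ≤ S.comap (MulAut.conj g).toMonoidHom :=
    GA_le_iff.2 fun r hr hA t => h r hr hA t
  exact fun x hx => h1 hx

theorem W_mem_GA {A : ℕ → Bool} (w : List (ℕ × K)) (h : ∀ p ∈ w, p.1 < 48 ∧ A p.1 = true) :
    W w ∈ GA K A := by
  induction w with
  | nil => exact (GA K A).one_mem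
  | cons p w ih =>
    rw [W_cons]
    have h1 := h p List.mem_cons_self
    exact (GA K A).mul_mem (X_mem_GA h1.1 h1.2 _) (ih fun q hq => h q (List.mem_cons_of_mem _ hq))

/-- check that the root elements for `R` normalise the group for `A` -/
def chkNorm (R A : ℕ → Bool) : Bool :=
  (List.range 24).all fun r => (List.range 24).all fun s =>
    !(R (24 + r) && A (24 + s)) ||
      (decide (r ≠ s) && (cm (24 + r) (24 + s)).all fun e => decide (e.1 < 48) && A e.1)

theorem conj_X_of_chk {R A : ℕ → Bool} (h : chkNorm R A = true)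
    (hR : ∀ r < 48, R r = true → 24 ≤ r) (hA : ∀ r < 48, A r = true → 24 ≤ r)
    (r : ℕ) (hr : r < 48) (hRr : R r = true) (t : K) :
    ∀ x ∈ GA K A, X r t * x * (X r t)⁻¹ ∈ GA K A := by
  apply conj_GA
  intro s hs hAs u
  have hr' := hR r hr hRr
  have hs' := hA s hs hAs
  unfold chkNorm at h
  rw [List.all_eq_true] at h
  have h1 := h (r - 24) (List.mem_range.2 (by omega))
  rw [List.all_eq_true] at h1
  have h2 := h1 (s - 24) (List.mem_range.2 (by omega))
  have e1 : 24 + (r - 24) = r := by omega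
  have e2 : 24 + (s - 24) = s := by omega
  rw [e1, e2, hRr, hAs] at h2
  simp only [Bool.and_self, Bool.not_true, Bool.false_or, Bool.and_eq_true, decide_eq_true_eq] at h2
  have hrs : r ≠ s := by
    rintro rfl
    exact h2.1 rfl
  rw [comm_rel r s hr' hr hs' hs hrs, mul_inv_cancel_right]
  refine (GA K A).mul_mem (X_mem_GA hs hAs u) (W_mem_GA _ ?_)
  intro p hp
  unfold wordK at hp
  rw [List.mem_map] at hp
  obtain ⟨e, he, rfl⟩ := hp
  have h3 := h2.2
  rw [List.all_eq_true] at h3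
  have h4 := h3 e he
  simpa using h4

theorem le_normalizer_of_chk {R A : ℕ → Bool} (h : chkNorm R A = true)
    (hR : ∀ r < 48, R r = true → 24 ≤ r) (hA : ∀ r < 48, A r = true → 24 ≤ r) :
    GA K R ≤ Subgroup.normalizer (GA K A : Set (GL chevF4.Idx K)) := by
  rw [GA_le_iff]
  intro r hr hRr t
  rw [Subgroup.mem_normalizer_iff]
  intro x
  constructor
  · exact fun hx => conj_X_of_chk h hR hA r hr hRr t x hx
  · intro hx
    have h1 := conj_X_of_chk h hR hA r hr hRr t _ hx
    rw [X_inv] at h1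
    have h2 : X r t * (X r t * x * X r t) * X r t = x := by
      have h3 := X_mul_self (K := K) r t
      calc X r t * (X r t * x * X r t) * X r t = (X r t * X r t) * x * (X r t * X r t) := by group
        _ = x := by rw [h3]; group
    rwa [h2] at h1

/-- product decomposition `⟨A ∪ R⟩ = ⟨A⟩⟨R⟩` -/
theorem decomp_of_chk {R A B : ℕ → Bool} (h : chkNorm R A = true)
    (hR : ∀ r < 48, R r = true → 24 ≤ r) (hA : ∀ r < 48, A r = true → 24 ≤ r)
    (hB : ∀ r < 48, B r = true → A r = true ∨ R r = true) :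
    ∀ u ∈ GA K B, ∃ v ∈ GA K A, ∃ x ∈ GA K R, u = v * x := by
  intro u hu
  have h1 : GA K B ≤ GA K A ⊔ GA K R := by
    rw [GA_le_iff]
    intro r hr hBr t
    rcases hB r hr hBr with h2 | h2
    · exact Subgroup.mem_sup_left (X_mem_GA hr h2 t)
    · exact Subgroup.mem_sup_right (X_mem_GA hr h2 t)
  have h2 : u ∈ ((GA K A ⊔ GA K R : Subgroup (GL chevF4.Idx K)) : Set (GL chevF4.Idx K)) := h1 hu
  rw [Subgroup.coe_mul_of_right_le_normalizer_left _ _ (le_normalizer_of_chk h hR hA)] at h2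
  obtain ⟨v, hv, x, hx, rfl⟩ := h2
  exact ⟨v, hv, x, hx, rfl⟩

/-! ### `U` and `V` -/

/-- positive roots -/
def posB (r : ℕ) : Bool := decide (24 ≤ r)
/-- negative roots -/
def negB (r : ℕ) : Bool := decide (r < 24)

theorem isPosRoot_iff (r : ℕ) : chevF4.IsPosRoot r ↔ r < 48 ∧ 24 ≤ r := by
  have h := Cfsg.Agent.ChevalleyStructure.Unitriangular.isPosRoot_iff
    (Cfsg.Agent.ChevalleyStructure.Unitriangular.orderCheck_F4) r
  rw [h]
  change r < 48 ∧ 48 ≤ 2 * r ↔ _
  omega

theorem isNegRoot_iff (r : ℕ) : chevF4.IsNegRoot r ↔ r < 24 := by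
  have h := Cfsg.Agent.ChevalleyStructure.Unitriangular.isNegRoot_iff
    (Cfsg.Agent.ChevalleyStructure.Unitriangular.orderCheck_F4) r
  rw [h]
  change 2 * r < 48 ↔ _
  omega

theorem posUnipotent_eq : chevF4.posUnipotent K = GA K posB := by
  unfold ChevalleyDatum.posUnipotent GA
  congr 1
  ext g
  constructor
  · rintro ⟨r, t, hr, hg⟩
    rw [isPosRoot_iff] at hr
    exact ⟨r, t, hr.1, decide_eq_true hr.2, (eq_X_iff g r t).2 hg⟩
  · rintro ⟨r, t, hr, hA, rfl⟩
    exact ⟨r, t, (isPosRoot_iff r).2 ⟨hr, of_decide_eq_true hA⟩, rfl⟩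

theorem negUnipotent_eq : chevF4.negUnipotent K = GA K negB := by
  unfold ChevalleyDatum.negUnipotent GA
  congr 1
  ext g
  constructor
  · rintro ⟨r, t, hr, hg⟩
    rw [isNegRoot_iff] at hr
    exact ⟨r, t, by omega, decide_eq_true hr, (eq_X_iff g r t).2 hg⟩
  · rintro ⟨r, t, hr, hA, rfl⟩
    exact ⟨r, t, (isNegRoot_iff r).2 (of_decide_eq_true hA), rfl⟩

theorem GA_pos_le_UU [Finite K] {A : ℕ → Bool} (hA : ∀ r < 48, A r = true → 24 ≤ r) :
    GA K A ≤ UU K := GA_le_iff.2 fun r hr h t => X_mem_UU r (hA r hr h) t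

theorem GA_neg_le_VV [Finite K] {A : ℕ → Bool} (hA : ∀ r < 48, A r = true → r < 24) :
    GA K A ≤ VV K := GA_le_iff.2 fun r hr h t => X_mem_VV r (hA r hr h) t

/-! ### classes -/

/-- roots of class `k` -/
def clsB (k r : ℕ) : Bool := decide (cls r = k)
/-- positive roots of class `≥ k` -/
def geB (k r : ℕ) : Bool := decide (24 ≤ r) && decide (k ≤ cls r)
/-- positive roots of class `≤ k` -/
def leB (k r : ℕ) : Bool := decide (24 ≤ r) && decide (cls r ≤ k)
/-- positive roots different from the fundamental root number `i` -/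
def neB (i r : ℕ) : Bool := decide (24 ≤ r) && decide (r ≠ sp i)
/-- the fundamental root number `i` -/
def spB (i r : ℕ) : Bool := decide (r = sp i)
/-- its negative -/
def nspB (i r : ℕ) : Bool := decide (r = 47 - sp i)

theorem cls_facts : ((List.range 48).all fun r =>
    decide (1 ≤ cls r) && decide (cls r ≤ 16) && (decide (cls r ≤ 8) == decide (24 ≤ r)) &&
    decide (cls (w1 r) = if cls r ≤ 9 then 10 - cls r else 26 - cls r) &&
    decide (cls (w2 r) = if cls r ≤ 7 then 8 - cls r else 24 - cls r) &&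
    decide (cls (47 - r) = if cls r ≤ 8 then cls r + 8 else cls r - 8)) = true := by
  decide +kernel

theorem cls_fact (r : ℕ) (hr : r < 48) :
    1 ≤ cls r ∧ cls r ≤ 16 ∧ (cls r ≤ 8 ↔ 24 ≤ r) ∧
    (cls (w1 r) = if cls r ≤ 9 then 10 - cls r else 26 - cls r) ∧
    (cls (w2 r) = if cls r ≤ 7 then 8 - cls r else 24 - cls r) ∧
    (cls (47 - r) = if cls r ≤ 8 then cls r + 8 else cls r - 8) := by
  have h := cls_facts
  rw [List.all_eq_true] at h
  have h1 := h r (List.mem_range.2 hr)
  simp only [Bool.and_eq_true, decide_eq_true_eq, beq_iff_eq, decide_eq_decide] at h1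
  exact ⟨h1.1.1.1.1.1, h1.1.1.1.1.2, h1.1.1.1.2, h1.1.1.2, h1.1.2, h1.2⟩

theorem chkNorm_classes : ((List.range 8).all fun k => chkNorm (clsB (k + 1)) (geB (k + 2))) = true := by
  decide +kernel

theorem chkNorm_cls8 : chkNorm (clsB 8) (leB 7) = true := by decide +kernel

theorem chkNorm_simple : ((List.range 4).all fun i => chkNorm (spB i) (neB i)) = true := by
  decide +kernel

/-- `⟨X_r : r > 0, cls r ≥ k⟩ = ⟨X_r : r > 0, cls r > k⟩ X_{S_k}` -/
theorem decomp_ge (k : ℕ) (hk1 : 1 ≤ k) (hk : k ≤ 8) :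
    ∀ u ∈ GA K (geB k), ∃ v ∈ GA K (geB (k + 1)), ∃ x ∈ GA K (clsB k), u = v * x := by
  have h := chkNorm_classes
  rw [List.all_eq_true] at h
  have h1 := h (k - 1) (List.mem_range.2 (by omega))
  have e1 : k - 1 + 1 = k := by omega
  have e2 : k - 1 + 2 = k + 1 := by omega
  rw [e1, e2] at h1
  apply decomp_of_chk h1
  · intro r hr hR
    have := of_decide_eq_true hR
    have h2 := cls_fact r hr
    omega
  · intro r hr hA
    unfold geB at hA
    rw [Bool.and_eq_true] at hA
    exact of_decide_eq_true hA.1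
  · intro r hr hB
    unfold geB at hB
    rw [Bool.and_eq_true] at hB
    have h3 := of_decide_eq_true hB.1
    have h4 := of_decide_eq_true hB.2
    rcases Nat.eq_or_lt_of_le h4 with h5 | h5
    · right
      exact decide_eq_true h5.symm
    · left
      unfold geB
      rw [Bool.and_eq_true]
      exact ⟨decide_eq_true h3, decide_eq_true h5⟩

/-- `U = ⟨X_r : r > 0, cls r ≤ 7⟩ X_{S_8}` -/
theorem decomp_cls8 :
    ∀ u ∈ GA K posB, ∃ v ∈ GA K (leB 7), ∃ x ∈ GA K (clsB 8), u = v * x := by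
  apply decomp_of_chk chkNorm_cls8
  · intro r hr hR
    have := of_decide_eq_true hR
    have h2 := cls_fact r hr
    omega
  · intro r hr hA
    unfold leB at hA
    rw [Bool.and_eq_true] at hA
    exact of_decide_eq_true hA.1
  · intro r hr hB
    have h3 : 24 ≤ r := of_decide_eq_true hB
    have h2 := cls_fact r hr
    have h4 : cls r ≤ 8 := h2.2.2.1.2 h3
    rcases Nat.eq_or_lt_of_le h4 with h5 | h5
    · right
      exact decide_eq_true h5
    · left
      unfold leB
      rw [Bool.and_eq_true]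
      exact ⟨decide_eq_true h3, decide_eq_true (Nat.le_of_lt_succ h5)⟩

/-- `U = U_p X_p` for a fundamental root -/
theorem decomp_simple (i : ℕ) (hi : i < 4) :
    ∀ u ∈ GA K posB, ∃ v ∈ GA K (neB i), ∃ x ∈ GA K (spB i), u = v * x := by
  have h := chkNorm_simple
  rw [List.all_eq_true] at h
  have h1 := h i (List.mem_range.2 hi)
  apply decomp_of_chk h1
  · intro r hr hR
    have h2 : r = sp i := of_decide_eq_true hR
    have h3 : i = 0 ∨ i = 1 ∨ i = 2 ∨ i = 3 := by omega
    rcases h3 with rfl | rfl | rfl | rfl <;> (simp only [sp] at h2; omega)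
  · intro r hr hA
    unfold neB at hA
    rw [Bool.and_eq_true] at hA
    exact of_decide_eq_true hA.1
  · intro r hr hB
    have h3 : 24 ≤ r := of_decide_eq_true hB
    by_cases h4 : r = sp i
    · right
      exact decide_eq_true h4
    · left
      unfold neB
      rw [Bool.and_eq_true]
      exact ⟨decide_eq_true h3, decide_eq_true h4⟩

/-- elements of the one-root group -/
theorem mem_GA_sp (i : ℕ) (x : GL chevF4.Idx K) (hx : x ∈ GA K (spB i)) :
    ∃ t : K, x = X (sp i) t := by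
  unfold GA at hx
  induction hx using Subgroup.closure_induction with
  | mem g hg =>
    obtain ⟨r, t, hr, hA, rfl⟩ := hg
    have : r = sp i := of_decide_eq_true hA
    exact ⟨t, by rw [this]⟩
  | one => exact ⟨0, (X_zero _).symm⟩
  | mul a b _ _ ha hb =>
    obtain ⟨t, rfl⟩ := ha
    obtain ⟨u, rfl⟩ := hb
    exact ⟨t + u, X_add _ _ _⟩
  | inv a _ ha =>
    obtain ⟨t, rfl⟩ := ha
    exact ⟨t, X_inv _ _⟩

/-! ### action of elements on root elements -/

/-- `g` permutes the root elements according to `π` -/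
def Act (g : GL chevF4.Idx K) (π : ℕ → ℕ) : Prop :=
  (∀ r < 48, π r < 48 ∧ π (47 - r) = 47 - π r) ∧ ∀ r < 48, ∀ t : K, g * X r t * g⁻¹ = X (π r) t

theorem Act_one : Act (1 : GL chevF4.Idx K) (fun r => r) :=
  ⟨fun r hr => ⟨hr, rfl⟩, fun r _ t => by simp⟩

theorem Act_mul {g h : GL chevF4.Idx K} {π ρ : ℕ → ℕ} (hg : Act g π) (hh : Act h ρ) :
    Act (g * h) (fun r => π (ρ r)) := by
  refine ⟨fun r hr => ?_, fun r hr t => ?_⟩
  · have h1 := hh.1 r hr
    have h2 := hg.1 (ρ r) h1.1
    refine ⟨h2.1, ?_⟩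
    show π (ρ (47 - r)) = 47 - π (ρ r)
    rw [h1.2, h2.2]
  · have h1 := hh.1 r hr
    have h2 := hh.2 r hr t
    have h3 := hg.2 (ρ r) h1.1 t
    have h4 : g * h * X r t * (g * h)⁻¹ = g * (h * X r t * h⁻¹) * g⁻¹ := by group
    rw [h4, h2, h3]

theorem refl_facts : ((List.range 4).all fun i => (List.range 48).all fun r =>
    decide (refl i (47 - r) = 47 - refl i r) && (!(neB i r) || neB i (refl i r)) &&
      decide (refl i (sp i) = 47 - sp i) && decide (refl i (refl i r) = r)) = true := by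
  decide +kernel

theorem refl_fact (i r : ℕ) (hi : i < 4) (hr : r < 48) :
    refl i (47 - r) = 47 - refl i r ∧ (neB i r = true → neB i (refl i r) = true) ∧
      refl i (sp i) = 47 - sp i ∧ refl i (refl i r) = r := by
  have h := refl_facts
  rw [List.all_eq_true] at h
  have h1 := h i (List.mem_range.2 hi)
  rw [List.all_eq_true] at h1
  have h2 := h1 r (List.mem_range.2 hr)
  simp only [Bool.and_eq_true, decide_eq_true_eq, Bool.or_eq_true, Bool.not_eq_true'] at h2
  refine ⟨h2.1.1.1, fun h3 => ?_, h2.1.2, h2.2⟩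
  rcases h2.1.1.2 with h4 | h4
  · rw [h4] at h3; exact absurd h3 (by simp)
  · exact h4

theorem Act_nG (i : ℕ) (hi : i < 4) : Act (nG K (sp i)) (refl i) :=
  ⟨fun r hr => ⟨refl_lt i r hi hr, (refl_fact i r hi hr).1⟩, fun r hr t => nG_conj i r hi hr t⟩

theorem w_neg : ((List.range 48).all fun r =>
    decide (w1 (47 - r) = 47 - w1 r) && decide (w2 (47 - r) = 47 - w2 r)) = true := by
  decide +kernel

theorem Act_n1 : Act (n1 K) w1 := by
  refine ⟨fun r hr => ⟨w1_lt r hr, ?_⟩, fun r hr t => n1_conj r hr t⟩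
  have h := w_neg
  rw [List.all_eq_true] at h
  have h1 := h r (List.mem_range.2 hr)
  simp only [Bool.and_eq_true, decide_eq_true_eq] at h1
  exact h1.1

theorem Act_n2 : Act (n2 K) w2 := by
  refine ⟨fun r hr => ⟨w2_lt r hr, ?_⟩, fun r hr t => n2_conj r hr t⟩
  have h := w_neg
  rw [List.all_eq_true] at h
  have h1 := h r (List.mem_range.2 hr)
  simp only [Bool.and_eq_true, decide_eq_true_eq] at h1
  exact h1.2

/-- an acting element conjugates `⟨A⟩` into `⟨B⟩` if `π A ⊆ B` -/
theorem Act_conj {g : GL chevF4.Idx K} {π : ℕ → ℕ} (hg : Act g π) {A B : ℕ → Bool}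
    (h : ∀ r < 48, A r = true → B (π r) = true) : ∀ x ∈ GA K A, g * x * g⁻¹ ∈ GA K B := by
  apply conj_GA
  intro r hr hA t
  rw [hg.2 r hr t]
  exact X_mem_GA (hg.1 r hr).1 (h r hr hA) t

theorem neg_lt_24 (i : ℕ) (hi : i < 4) : 47 - sp i < 24 ∧ 24 ≤ sp i ∧ sp i < 48 := by
  have h3 : i = 0 ∨ i = 1 ∨ i = 2 ∨ i = 3 := by omega
  rcases h3 with rfl | rfl | rfl | rfl <;> (simp only [sp]; omega)

end Cfsg.Agent.ChevalleyStructure.TwF4.Groups
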