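import Cfsg.Agent.ChevalleyStructure.TwF4.Torus

/-!
# The monomial subgroup of F₄ in characteristic 2

* `Wm K`: the subgroup generated by all `n_r(1)`; `Mono g σ`: `g` is the 0/1 monomial matrix with permutation `σ`
  of the roots, carrying coroots to coroots; every element of `Wm K` is `Mono`; `Mono g 1 → g = 1`;
* `mem_N_iff : g ∈ monomialSubgroup K ↔ ∃ w ∈ Wm K, ∃ c, g = w * T c`;
* `permHom : monomialSubgroup K →* Perm (roots)`, `permHom_eq_one_iff` (the kernel is the diagonal subgroup),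
  `hasPerm_permHom` (entries), `N_conj_T` (the torus is normal in `N`).
-/

set_option autoImplicit false

namespace Cfsg.Agent.ChevalleyStructure.TwF4.NStruct

open Cfsg.Lie Cfsg.Agent.ChevalleyStructure.F4MaskBase Cfsg.Agent.ChevalleyStructure.F4Tab
  Cfsg.Agent.ChevalleyStructure.F4NTab Cfsg.Agent.ChevalleyStructure.F4Char2
  Cfsg.Agent.ChevalleyStructure.TwF4.Torus
open Cfsg.Agent.ChevalleyStructure.TwF4.Rel hiding cm

/-- the root indices -/
abbrev R : Type := Fin chevF4.nroots

theorem ct_wt {r s u : ℕ} (hr : r < 48) (hs : s < 48) (hu : u < 48) : ct (wt r s) (wt r u) = ct s u := by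
  rw [ct_eq (wt_lt hr hs) (wt_lt hr hu), ct_eq hs hu]
  rw [co_wt hr hs, co_wt hr hs, co_wt hr hs, co_wt hr hs, ca_wt hr hu, ca_wt hr hu, ca_wt hr hu, ca_wt hr hu]
  have h1 := ct_eq hr hu
  have h2 := ct_eq hs hr
  have h3 := ct_eq hr hr
  rw [ct_self hr] at h3
  linear_combination (ct s r) * h1 + (ct r u) * h2 - (ct s r) * (ct r u) * h3

/-- the reflection in a root as a permutation of the roots -/
def reflP (r : ℕ) (hr : r < 48) : Equiv.Perm R where
  toFun s := ⟨wt r s.val, wt_lt hr s.2⟩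
  invFun s := ⟨wt r s.val, wt_lt hr s.2⟩
  left_inv s := Fin.ext (wt_wt hr s.2)
  right_inv s := Fin.ext (wt_wt hr s.2)

theorem reflP_val (r : ℕ) (hr : r < 48) (s : R) : (reflP r hr s).val = wt r s.val := rfl

variable {K : Type*} [Field K]

/-- `g` is a 0/1 monomial matrix with permutation `σ` carrying coroots to coroots. -/
structure Mono (g : GL chevF4.Idx K) (σ : Equiv.Perm R) : Prop where
  root : ∀ (i : chevF4.Idx) (s : R), (g : Matrix chevF4.Idx chevF4.Idx K) i (Sum.inr s) =
    if i = Sum.inr (σ s) then 1 else 0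
  cor0 : ∀ (u : R) (l : Fin chevF4.rank), (g : Matrix chevF4.Idx chevF4.Idx K) (Sum.inr u) (Sum.inl l) = 0
  cor : ∀ (s : R) (m : Fin chevF4.rank), ∑ l : Fin chevF4.rank, (g : Matrix chevF4.Idx chevF4.Idx K)
    (Sum.inl m) (Sum.inl l) * ((co s.val l.val : ℤ) : K) = ((co (σ s).val m.val : ℤ) : K)
  car : ∀ r s : R, ct (σ r).val (σ s).val = ct r.val s.val

theorem Mono.one : Mono (1 : GL chevF4.Idx K) 1 where
  root i s := by
    rw [Units.val_one, Matrix.one_apply]; rfl
  cor0 u l := by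
    rw [Units.val_one, Matrix.one_apply_ne (by simp)]
  cor s m := by
    rw [Units.val_one]
    rw [Finset.sum_eq_single m]
    · rw [Matrix.one_apply_eq, one_mul]; rfl
    · intro l _ hl
      rw [Matrix.one_apply_ne (by simpa using hl.symm), zero_mul]
    · intro h
      exact absurd (Finset.mem_univ m) h
  car r s := rfl

theorem Mono.mul {g h : GL chevF4.Idx K} {σ τ : Equiv.Perm R} (hg : Mono g σ) (hh : Mono h τ) :
    Mono (g * h) (σ * τ) where
  root i s := by
    rw [Units.val_mul, Matrix.mul_apply, Finset.sum_eq_single (Sum.inr (τ s))]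
    · rw [hh.root, if_pos rfl, mul_one, hg.root]; rfl
    · intro k _ hk
      rw [hh.root, if_neg hk, mul_zero]
    · intro h
      exact absurd (Finset.mem_univ _) h
  cor0 u l := by
    rw [Units.val_mul, Matrix.mul_apply]
    apply Finset.sum_eq_zero
    rintro (k | k) _
    · rw [hg.cor0, zero_mul]
    · rw [hh.cor0, mul_zero]
  cor s m := by
    have e : ∀ l : Fin chevF4.rank, ((g * h : GL chevF4.Idx K) : Matrix chevF4.Idx chevF4.Idx K) (Sum.inl m)
        (Sum.inl l) = ∑ k : Fin chevF4.rank, (g : Matrix chevF4.Idx chevF4.Idx K) (Sum.inl m) (Sum.inl k) *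
          (h : Matrix chevF4.Idx chevF4.Idx K) (Sum.inl k) (Sum.inl l) := by
      intro l
      rw [Units.val_mul, Matrix.mul_apply, Fintype.sum_sum_type]
      rw [Finset.sum_eq_zero (s := (Finset.univ : Finset (Fin chevF4.nroots))) (fun k _ => by rw [hh.cor0, mul_zero]),
        add_zero]
    simp only [e, Finset.sum_mul]
    rw [Finset.sum_comm]
    have e2 : ∀ k : Fin chevF4.rank, ∑ l : Fin chevF4.rank, (g : Matrix chevF4.Idx chevF4.Idx K) (Sum.inl m)
        (Sum.inl k) * (h : Matrix chevF4.Idx chevF4.Idx K) (Sum.inl k) (Sum.inl l) * ((co s.val l.val : ℤ) : K) =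
        (g : Matrix chevF4.Idx chevF4.Idx K) (Sum.inl m) (Sum.inl k) * ((co (τ s).val k.val : ℤ) : K) := by
      intro k
      rw [← hh.cor, Finset.mul_sum]
      exact Finset.sum_congr rfl fun l _ => by rw [mul_assoc]
    simp only [e2]
    exact hg.cor (τ s) m
  car r s := by
    show ct (σ (τ r)).val (σ (τ s)).val = _
    rw [hg.car, hh.car]

theorem co_simple : ∀ m l : ℕ, m < 4 → l < 4 → co ([33, 27, 25, 24].getD m 0) l = if l = m then 1 else 0 := by
  have h : ((List.range 4).all fun m => (List.range 4).all fun l =>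
      co ([33, 27, 25, 24].getD m 0) l == if l = m then 1 else 0) = true := by decide +kernel
  intro m l hm hl
  have h1 := all_of (all_of h hm) hl
  simpa using h1

theorem simple_lt' : ∀ m : ℕ, m < 4 → [33, 27, 25, 24].getD m 0 < 48 := by decide

theorem Mono.eq_one {g : GL chevF4.Idx K} (hg : Mono g 1) : g = 1 := by
  apply Units.ext
  rw [Units.val_one]
  ext i j
  rcases j with l | s
  · rcases i with m | u
    · have hl : l.val < 4 := l.2
      have h := hg.cor (⟨[33, 27, 25, 24].getD l.val 0, simple_lt' l.val hl⟩ : R) m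
      have e : ∀ k : Fin chevF4.rank, (g : Matrix chevF4.Idx chevF4.Idx K) (Sum.inl m) (Sum.inl k) *
          ((co ([33, 27, 25, 24].getD l.val 0) k.val : ℤ) : K) = if k = l then
            (g : Matrix chevF4.Idx chevF4.Idx K) (Sum.inl m) (Sum.inl k) else 0 := by
        intro k
        rw [co_simple l.val k.val hl k.2]
        by_cases hk : k = l
        · subst hk; simp
        · have : ¬ (k.val = l.val) := fun e => hk (Fin.ext e)
          simp [hk, this]
      have h' : ∑ k : Fin chevF4.rank, (g : Matrix chevF4.Idx chevF4.Idx K) (Sum.inl m) (Sum.inl k) *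
          ((co ([33, 27, 25, 24].getD l.val 0) k.val : ℤ) : K) =
          ((co ([33, 27, 25, 24].getD l.val 0) m.val : ℤ) : K) := h
      simp only [e] at h'
      rw [Finset.sum_ite_eq' Finset.univ l, if_pos (Finset.mem_univ l), co_simple l.val m.val hl m.2] at h'
      rw [h']
      by_cases hm : m = l
      · subst hm; simp
      · have : ¬ (m.val = l.val) := fun e => hm (Fin.ext e)
        rw [if_neg this, Matrix.one_apply_ne (by simpa using hm)]
        simp
    · rw [hg.cor0, Matrix.one_apply_ne (by simp)]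
  · rw [hg.root, Matrix.one_apply]; rfl

variable [CharP K 2]

theorem mono_nG {r : ℕ} (hr : r < 48) : Mono (nG K r) (reflP r hr) where
  root i s := by
    rw [nG_inr hr]
    have e : pos (Sum.inr (reflP r hr s)) = 4 + wt r s.val := by rw [pos_inr, reflP_val]
    rw [← e]
    by_cases h : i = Sum.inr (reflP r hr s)
    · rw [if_pos h, if_pos (congrArg pos h)]
    · rw [if_neg h, if_neg (fun h' => h (pos_injective h'))]
  cor0 u l := nG_inl_inr hr u l
  cor s m := nG_cor hr s.2 m
  car a b := ct_wt hr a.2 b.2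

/-- The subgroup generated by all `n_r(1)`. -/
def Wm (K : Type*) [Field K] [CharP K 2] : Subgroup (GL chevF4.Idx K) :=
  Subgroup.closure {g | ∃ r : ℕ, r < 48 ∧ g = nG K r}

theorem nG_mem_Wm {r : ℕ} (hr : r < 48) : nG K r ∈ Wm K := Subgroup.subset_closure ⟨r, hr, rfl⟩

theorem exists_mono {g : GL chevF4.Idx K} (hg : g ∈ Wm K) : ∃ σ : Equiv.Perm R, Mono g σ := by
  unfold Wm at hg
  induction hg using Subgroup.closure_induction_left with
  | one => exact ⟨1, Mono.one⟩
  | mul_left x hx y hy ih =>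
    obtain ⟨r, hr, rfl⟩ := hx
    obtain ⟨σ, hσ⟩ := ih
    exact ⟨_, (mono_nG hr).mul hσ⟩
  | inv_mul_cancel x hx y hy ih =>
    obtain ⟨r, hr, rfl⟩ := hx
    obtain ⟨σ, hσ⟩ := ih
    rw [nG_inv']
    exact ⟨_, (mono_nG hr).mul hσ⟩

/-- The torus is normalised by `Wm`. -/
theorem Wm_mul_T {w : GL chevF4.Idx K} (hw : w ∈ Wm K) (c : Fin 4 → Kˣ) : ∃ d, w * T c = T d * w := by
  unfold Wm at hw
  induction hw using Subgroup.closure_induction_left with
  | one => exact ⟨c, by rw [one_mul, mul_one]⟩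
  | mul_left x hx y hy ih =>
    obtain ⟨r, hr, rfl⟩ := hx
    obtain ⟨d, hd⟩ := ih
    exact ⟨tw r d, by rw [mul_assoc, hd, ← mul_assoc, nG_mul_T hr, mul_assoc]⟩
  | inv_mul_cancel x hx y hy ih =>
    obtain ⟨r, hr, rfl⟩ := hx
    obtain ⟨d, hd⟩ := ih
    rw [nG_inv']
    exact ⟨tw r d, by rw [mul_assoc, hd, ← mul_assoc, nG_mul_T hr, mul_assoc]⟩

theorem T_mul_Wm {w : GL chevF4.Idx K} (hw : w ∈ Wm K) (c : Fin 4 → Kˣ) : ∃ d, T c * w = w * T d := by
  obtain ⟨d, hd⟩ := Wm_mul_T (inv_mem hw) c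
  refine ⟨d, ?_⟩
  calc T c * w = w * (w⁻¹ * T c) * w := by group
    _ = w * T d := by rw [hd]; group

theorem monomial_eq : chevF4.monomialSubgroup K = (T : (Fin 4 → Kˣ) →* GL chevF4.Idx K).range ⊔ Wm K := by
  unfold ChevalleyDatum.monomialSubgroup Wm
  rw [diagonal_eq_range]
  congr 2
  ext g
  constructor
  · rintro ⟨r, hr, hg⟩
    have hr' : r < 48 := hr
    exact ⟨r, hr', Units.ext (by rw [hg, nMat_eq hr'])⟩
  · rintro ⟨r, hr, rfl⟩
    exact ⟨r, hr, (nMat_eq hr).symm⟩

theorem mem_N_iff (g : GL chevF4.Idx K) :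
    g ∈ chevF4.monomialSubgroup K ↔ ∃ w ∈ Wm K, ∃ c, g = w * T c := by
  rw [monomial_eq]
  constructor
  · intro hg
    rw [Subgroup.sup_eq_closure] at hg
    induction hg using Subgroup.closure_induction_left with
    | one => exact ⟨1, one_mem _, 1, by rw [map_one, mul_one]⟩
    | mul_left x hx y hy ih =>
      obtain ⟨w, hw, c, rfl⟩ := ih
      rcases hx with ⟨d, rfl⟩ | hx
      · obtain ⟨d', hd'⟩ := T_mul_Wm hw d
        exact ⟨w, hw, d' * c, by rw [← mul_assoc, hd', map_mul, mul_assoc]⟩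
      · exact ⟨x * w, mul_mem hx hw, c, by rw [mul_assoc]⟩
    | inv_mul_cancel x hx y hy ih =>
      obtain ⟨w, hw, c, rfl⟩ := ih
      rcases hx with ⟨d, rfl⟩ | hx
      · obtain ⟨d', hd'⟩ := T_mul_Wm hw d⁻¹
        exact ⟨w, hw, d' * c, by rw [← map_inv, ← mul_assoc, hd', map_mul, mul_assoc]⟩
      · exact ⟨x⁻¹ * w, mul_mem (inv_mem hx) hw, c, by rw [mul_assoc]⟩
  · rintro ⟨w, hw, c, rfl⟩
    exact mul_mem (Subgroup.mem_sup_right hw) (Subgroup.mem_sup_left ⟨c, rfl⟩)

theorem Wm_le_N : Wm K ≤ chevF4.monomialSubgroup K := by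
  rw [monomial_eq]; exact le_sup_right

theorem T_mem_N (c : Fin 4 → Kˣ) : T c ∈ chevF4.monomialSubgroup K := by
  rw [monomial_eq]; exact Subgroup.mem_sup_left ⟨c, rfl⟩

/-- The torus is normalised by `N`. -/
theorem N_conj_T {g : GL chevF4.Idx K} (hg : g ∈ chevF4.monomialSubgroup K) (c : Fin 4 → Kˣ) :
    ∃ d, g * T c * g⁻¹ = T d := by
  obtain ⟨w, hw, b, rfl⟩ := (mem_N_iff g).1 hg
  obtain ⟨d, hd⟩ := Wm_mul_T hw (b * c * b⁻¹)
  refine ⟨d, ?_⟩
  calc w * T b * T c * (w * T b)⁻¹ = w * (T b * T c * (T b)⁻¹) * w⁻¹ := by group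
    _ = w * T (b * c * b⁻¹) * w⁻¹ := by rw [map_mul, map_mul, map_inv]
    _ = T d := by rw [hd, mul_inv_cancel_right]

/-- The diagonal subgroup is normalised by `N`. -/
theorem N_conj_diagonal {g h : GL chevF4.Idx K} (hg : g ∈ chevF4.monomialSubgroup K)
    (hh : h ∈ chevF4.diagonalSubgroup K) : g * h * g⁻¹ ∈ chevF4.diagonalSubgroup K := by
  rw [diagonal_eq_range] at hh ⊢
  obtain ⟨c, rfl⟩ := hh
  obtain ⟨d, hd⟩ := N_conj_T hg c
  exact ⟨d, hd.symm⟩

/-! ### the permutation of the roots -/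

omit [CharP K 2] in
/-- `g` permutes the root lines by `σ` and has no entries from roots to coroots. -/
structure HasPerm (g : GL chevF4.Idx K) (σ : Equiv.Perm R) : Prop where
  ne : ∀ u s : R, (g : Matrix chevF4.Idx chevF4.Idx K) (Sum.inr u) (Sum.inr s) ≠ 0 ↔ u = σ s
  z : ∀ (l : Fin chevF4.rank) (s : R), (g : Matrix chevF4.Idx chevF4.Idx K) (Sum.inl l) (Sum.inr s) = 0

omit [CharP K 2] in
theorem HasPerm.eq_zero {g : GL chevF4.Idx K} {σ : Equiv.Perm R} (hg : HasPerm g σ) {u s : R} (h : u ≠ σ s) :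
    (g : Matrix chevF4.Idx chevF4.Idx K) (Sum.inr u) (Sum.inr s) = 0 := by
  by_contra hc
  exact h ((hg.ne u s).1 hc)

omit [CharP K 2] in
theorem HasPerm.unique {g : GL chevF4.Idx K} {σ τ : Equiv.Perm R} (hg : HasPerm g σ) (hg' : HasPerm g τ) : σ = τ := by
  ext s
  exact congrArg Fin.val ((hg'.ne _ s).1 ((hg.ne _ s).2 rfl))

omit [CharP K 2] in
theorem HasPerm.one : HasPerm (1 : GL chevF4.Idx K) 1 where
  ne u s := by
    rw [Units.val_one]
    by_cases h : u = s
    · subst h; simp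
    · rw [Matrix.one_apply_ne (by simpa using h)]
      simpa using h
  z l s := by rw [Units.val_one, Matrix.one_apply_ne (by simp)]

omit [CharP K 2] in
theorem HasPerm.mul_apply {g h : GL chevF4.Idx K} {τ : Equiv.Perm R} (hh : HasPerm h τ)
    (i : chevF4.Idx) (s : R) : ((g * h : GL chevF4.Idx K) : Matrix chevF4.Idx chevF4.Idx K) i (Sum.inr s) =
      (g : Matrix chevF4.Idx chevF4.Idx K) i (Sum.inr (τ s)) *
        (h : Matrix chevF4.Idx chevF4.Idx K) (Sum.inr (τ s)) (Sum.inr s) := by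
  rw [Units.val_mul, Matrix.mul_apply, Finset.sum_eq_single (Sum.inr (τ s))]
  · rintro (k | k) _ hk
    · rw [hh.z, mul_zero]
    · rw [hh.eq_zero (fun e => hk (by rw [e])), mul_zero]
  · intro h
    exact absurd (Finset.mem_univ _) h

omit [CharP K 2] in
theorem HasPerm.mul {g h : GL chevF4.Idx K} {σ τ : Equiv.Perm R} (hg : HasPerm g σ) (hh : HasPerm h τ) :
    HasPerm (g * h) (σ * τ) where
  ne u s := by
    rw [hh.mul_apply]
    have h2 := (hh.ne (τ s) s).2 rfl
    constructor
    · intro h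
      exact (hg.ne u (τ s)).1 (left_ne_zero_of_mul h)
    · intro h
      exact mul_ne_zero ((hg.ne u (τ s)).2 h) h2
  z l s := by rw [hh.mul_apply, hg.z, zero_mul]

omit [CharP K 2] in
theorem Mono.hasPerm {g : GL chevF4.Idx K} {σ : Equiv.Perm R} (hg : Mono g σ) : HasPerm g σ where
  ne u s := by
    rw [hg.root]
    by_cases h : u = σ s
    · subst h; simp
    · have : ¬ ((Sum.inr u : chevF4.Idx) = Sum.inr (σ s)) := fun e => h (Sum.inr_injective e)
      simp [h]
  z l s := by rw [hg.root, if_neg (by simp)]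

omit [CharP K 2] in
theorem hasPerm_T (c : Fin 4 → Kˣ) : HasPerm (T c) 1 where
  ne u s := by
    rw [coe_T, Equiv.Perm.one_apply]
    by_cases h : u = s
    · subst h
      simp
    · rw [Matrix.diagonal_apply_ne _ (by simpa using h)]
      simpa using h
  z l s := by rw [coe_T, Matrix.diagonal_apply_ne _ (by simp)]

theorem exists_hasPerm {g : GL chevF4.Idx K} (hg : g ∈ chevF4.monomialSubgroup K) :
    ∃ σ : Equiv.Perm R, HasPerm g σ ∧ (∀ r s : R, ct (σ r).val (σ s).val = ct r.val s.val) ∧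
      ∃ w ∈ Wm K, Mono w σ ∧ ∃ c, g = w * T c := by
  obtain ⟨w, hw, c, rfl⟩ := (mem_N_iff g).1 hg
  obtain ⟨σ, hσ⟩ := exists_mono hw
  refine ⟨σ, ?_, hσ.car, w, hw, hσ, c, rfl⟩
  have := hσ.hasPerm.mul (hasPerm_T c)
  rwa [mul_one] at this

/-- The permutation of the roots given by an element of the monomial subgroup. -/
noncomputable def permHom (K : Type*) [Field K] [CharP K 2] :
    ↥(chevF4.monomialSubgroup K) →* Equiv.Perm R where
  toFun g := (exists_hasPerm g.2).choose
  map_one' := (exists_hasPerm (K := K) (1 : ↥(chevF4.monomialSubgroup K)).2).choose_spec.1.unique HasPerm.one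
  map_mul' g h := (exists_hasPerm (K := K) (g * h).2).choose_spec.1.unique
    ((exists_hasPerm g.2).choose_spec.1.mul (exists_hasPerm h.2).choose_spec.1)

theorem hasPerm_permHom (g : ↥(chevF4.monomialSubgroup K)) : HasPerm (g : GL chevF4.Idx K) (permHom K g) :=
  (exists_hasPerm g.2).choose_spec.1

theorem permHom_eq {g : ↥(chevF4.monomialSubgroup K)} {σ : Equiv.Perm R}
    (h : HasPerm (g : GL chevF4.Idx K) σ) : permHom K g = σ := (hasPerm_permHom g).unique h

theorem permHom_car (g : ↥(chevF4.monomialSubgroup K)) (r s : R) :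
    ct (permHom K g r).val (permHom K g s).val = ct r.val s.val :=
  (exists_hasPerm g.2).choose_spec.2.1 r s

theorem exists_mono_permHom (g : ↥(chevF4.monomialSubgroup K)) :
    ∃ w ∈ Wm K, Mono w (permHom K g) ∧ ∃ c, (g : GL chevF4.Idx K) = w * T c :=
  (exists_hasPerm g.2).choose_spec.2.2

/-- The kernel of the permutation action on roots is the diagonal subgroup. -/
theorem permHom_eq_one_iff (g : ↥(chevF4.monomialSubgroup K)) :
    permHom K g = 1 ↔ (g : GL chevF4.Idx K) ∈ chevF4.diagonalSubgroup K := by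
  constructor
  · intro h
    obtain ⟨w, hw, hm, c, hc⟩ := exists_mono_permHom g
    rw [h] at hm
    rw [hc, hm.eq_one, one_mul, diagonal_eq_range]
    exact ⟨c, rfl⟩
  · intro h
    rw [diagonal_eq_range] at h
    obtain ⟨c, hc⟩ := h
    exact permHom_eq (by rw [← hc]; exact hasPerm_T c)

theorem permHom_ker : (permHom K).ker = (chevF4.diagonalSubgroup K).subgroupOf (chevF4.monomialSubgroup K) := by
  ext g
  rw [MonoidHom.mem_ker, permHom_eq_one_iff, Subgroup.mem_subgroupOf]

theorem permHom_nG {r : ℕ} (hr : r < 48) :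
    permHom K ⟨nG K r, Wm_le_N (nG_mem_Wm hr)⟩ = reflP r hr := permHom_eq (mono_nG hr).hasPerm

end Cfsg.Agent.ChevalleyStructure.TwF4.NStruct
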