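import Cfsg.Agent.ChevalleyStructure.TwF4.Groups
import Cfsg.Agent.ChevalleyStructure.F4TwUCard
import Cfsg.Agent.ChevalleyStructure.F4Fixed
import Cfsg.Agent.S1090

/-!
# Orders of the relative simple root groups of `²F₄`

* `card_X1` : `|⟨X₂₄, X₃₃⟩ ∩ G¹| = q`;
* `card_X8` : `|⟨X₂₅, X₂₇, X₂₈, X₃₀⟩ ∩ G¹| = q²`;
* `mem_cls1`, `mem_cls8`: elements of the two class groups as words.
-/

set_option autoImplicit false
set_option maxHeartbeats 400000

namespace Cfsg.Agent.ChevalleyStructure.TwF4.OrderCls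

open Cfsg.Lie
open Cfsg.Agent.ChevalleyStructure.TwF4.Rel Cfsg.Agent.ChevalleyStructure.TwF4.Groups
open Cfsg.Agent.ChevalleyStructure.F4TwU Cfsg.Agent.ChevalleyStructure.F4TwUCard
open Cfsg.Agent.ChevalleyStructure

universe u

variable {K : Type u} [Field K] [CharP K 2]

/-- the singleton predicate -/
def one' (r s : ℕ) : Bool := decide (s = r)

theorem mem_one (r : ℕ) (x : GL chevF4.Idx K) (hx : x ∈ GA K (one' r)) :
    ∃ t : K, x = X r t := by
  have h1 : GA K (one' r) ≤
      { carrier := {g | ∃ t : K, g = X r t}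
        mul_mem' := by
          rintro _ _ ⟨a, rfl⟩ ⟨b, rfl⟩
          exact ⟨a + b, X_add r a b⟩
        one_mem' := ⟨0, (X_zero r).symm⟩
        inv_mem' := by
          rintro _ ⟨a, rfl⟩
          exact ⟨a, X_inv r a⟩ } := by
    rw [GA_le_iff]
    intro s _ hs t
    have : s = r := of_decide_eq_true hs
    subst this
    exact ⟨t, rfl⟩
  exact h1 hx

/-- `{27, 28, 30}` -/
def B3 (s : ℕ) : Bool := decide (s = 27) || decide (s = 28) || decide (s = 30)
/-- `{28, 30}` -/
def B2 (s : ℕ) : Bool := decide (s = 28) || decide (s = 30)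

theorem cls1_tab : ∀ r < 48, clsB 1 r = true → one' 33 r = true ∨ one' 24 r = true := by decide +kernel
theorem cls8_tab : ∀ r < 48, clsB 8 r = true → B3 r = true ∨ one' 25 r = true := by decide +kernel
theorem B3_tab : ∀ r < 48, B3 r = true → B2 r = true ∨ one' 27 r = true := by decide +kernel
theorem B2_tab : ∀ r < 48, B2 r = true → one' 30 r = true ∨ one' 28 r = true := by decide +kernel

theorem one_ge {k : ℕ} (hk : 24 ≤ k) : ∀ r < 48, one' k r = true → 24 ≤ r := by
  intro r _ h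
  have : r = k := of_decide_eq_true h
  omega

theorem B3_ge : ∀ r < 48, B3 r = true → 24 ≤ r := by decide +kernel
theorem B2_ge : ∀ r < 48, B2 r = true → 24 ≤ r := by decide +kernel

theorem chkA : chkNorm (one' 24) (one' 33) = true := by decide +kernel
theorem chkB : chkNorm (one' 25) B3 = true := by decide +kernel
theorem chkC : chkNorm (one' 27) B2 = true := by decide +kernel
theorem chkD : chkNorm (one' 28) (one' 30) = true := by decide +kernel

theorem mem_cls1 {x : GL chevF4.Idx K} (hx : x ∈ GA K (clsB 1)) :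
    ∃ a b : K, x = X 33 a * X 24 b := by
  obtain ⟨v, hv, y, hy, hxy⟩ := decomp_of_chk chkA (one_ge le_rfl) (one_ge (by norm_num))
    cls1_tab x hx
  obtain ⟨a, ha⟩ := mem_one 33 v hv
  obtain ⟨b, hb⟩ := mem_one 24 y hy
  exact ⟨a, b, by rw [hxy, ha, hb]⟩

theorem mem_B2 {x : GL chevF4.Idx K} (hx : x ∈ GA K B2) :
    ∃ a b : K, x = X 30 a * X 28 b := by
  obtain ⟨v, hv, y, hy, hxy⟩ := decomp_of_chk chkD (one_ge (by norm_num)) (one_ge (by norm_num))
    B2_tab x hx
  obtain ⟨a, ha⟩ := mem_one 30 v hv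
  obtain ⟨b, hb⟩ := mem_one 28 y hy
  exact ⟨a, b, by rw [hxy, ha, hb]⟩

theorem mem_B3 {x : GL chevF4.Idx K} (hx : x ∈ GA K B3) :
    ∃ a b c : K, x = X 30 a * X 28 b * X 27 c := by
  obtain ⟨v, hv, y, hy, hxy⟩ := decomp_of_chk chkC (one_ge (by norm_num)) B2_ge B3_tab x hx
  obtain ⟨a, b, ha⟩ := mem_B2 hv
  obtain ⟨c, hb⟩ := mem_one 27 y hy
  exact ⟨a, b, c, by rw [hxy, ha, hb]⟩

theorem mem_cls8 {x : GL chevF4.Idx K} (hx : x ∈ GA K (clsB 8)) :
    ∃ a b c d : K, x = X 30 a * X 28 b * X 27 c * X 25 d := by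
  obtain ⟨v, hv, y, hy, hxy⟩ := decomp_of_chk chkB (one_ge (by norm_num)) B3_ge cls8_tab x hx
  obtain ⟨a, b, c, ha⟩ := mem_B3 hv
  obtain ⟨d, hb⟩ := mem_one 25 y hy
  exact ⟨a, b, c, d, by rw [hxy, ha, hb]⟩

/-- a long element of `G¹` is trivial -/
theorem long_inf [Fintype K] {m : ℕ} (hK : Fintype.card K = 2 ^ (2 * m + 1)) {g : GL chevF4.Idx K}
    (hg : g ∈ twistedF4 K (2 ^ m)) (hl : g ∈ longGroup K) : g = 1 := by
  apply eq_one_of_long hl
  intro r hr hn
  have hgr := graded_of_mem hl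
  obtain ⟨h1, h2⟩ := F4Fixed.twistedF4_fix hK hg
  obtain ⟨k, hk, f1, f2, f3, f4, f5⟩ := Cfsg.Agent.S1090.facts r hr
  refine ⟨k, hk, ?_⟩
  have e1 : F4Fixed.S (F4Fixed.bar (Sum.inl k)) = true := by
    rw [F4Fixed.S_bar]; show (!(F4Fixed.sF4 k.val)) = true; rw [f2]; rfl
  have e2 : F4Fixed.S (F4Fixed.bar (Sum.inr ⟨47 - r, hn⟩)) = true := by
    rw [F4Fixed.S_bar]
    show (!(F4Fixed.sF4 (4 + (47 - r)))) = true
    rw [f3]; rfl
  have e3 := h2 _ _ e1 e2
  rw [F4Fixed.bar_bar, F4Fixed.bar_bar] at e3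
  have e4 : (g : Matrix chevF4.Idx chevF4.Idx K) (F4Fixed.bar (Sum.inl k))
      (F4Fixed.bar (Sum.inr ⟨47 - r, hn⟩)) = 0 := by
    apply hgr
    show (0 : ℕ) ≠ grd (F4Fixed.barF4 (4 + (47 - r)) - 4)
    exact fun h => f5 h.symm
  rw [e4] at e3
  exact pow_eq_zero_iff (by positivity) |>.1 e3.symm

theorem X_long {r : ℕ} (hr : r ∈ longPos) (t : K) : X r t ∈ longGroup K :=
  Subgroup.subset_closure ⟨r, hr, t, rfl⟩

theorem X_inj {r : ℕ} (hr : 24 ≤ r ∧ r < 48) {t t' : K} (h : X r t = X r t') : t = t' := by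
  have h1 := word_unique (fun _ => t) (fun _ => t') [r]
    (by
      intro s hs
      rw [List.mem_singleton] at hs
      subst hs
      exact hr) (List.pairwise_singleton _ _)
    (by
      rw [wrd_cons, wrd_cons, wrd_nil, wrd_nil, mul_one, mul_one]
      exact h)
  exact h1 r (List.mem_singleton_self r)

theorem card_GA1 [Fintype K] : Nat.card ↥(GA K (clsB 1)) ≤ Fintype.card K ^ 2 := by
  have h1 : Function.Surjective fun p : K × K => (⟨X 33 p.1 * X 24 p.2,
      (GA K (clsB 1)).mul_mem (X_mem_GA (by norm_num) (by decide +kernel) _)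
        (X_mem_GA (by norm_num) (by decide +kernel) _)⟩ : ↥(GA K (clsB 1))) := by
    rintro ⟨x, hx⟩
    obtain ⟨a, b, rfl⟩ := mem_cls1 hx
    exact ⟨(a, b), rfl⟩
  have h2 := Nat.card_le_card_of_surjective _ h1
  rw [Nat.card_prod, Nat.card_eq_fintype_card (α := K)] at h2
  rw [pow_two]
  exact h2

theorem card_GA8 [Fintype K] : Nat.card ↥(GA K (clsB 8)) ≤ Fintype.card K ^ 4 := by
  have h1 : Function.Surjective fun p : (K × K) × (K × K) => (⟨X 30 p.1.1 * X 28 p.1.2 * X 27 p.2.1 *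
      X 25 p.2.2,
      (GA K (clsB 8)).mul_mem ((GA K (clsB 8)).mul_mem ((GA K (clsB 8)).mul_mem
        (X_mem_GA (by norm_num) (by decide +kernel) _)
        (X_mem_GA (by norm_num) (by decide +kernel) _)) (X_mem_GA (by norm_num) (by decide +kernel) _))
        (X_mem_GA (by norm_num) (by decide +kernel) _)⟩ : ↥(GA K (clsB 8))) := by
    rintro ⟨x, hx⟩
    obtain ⟨a, b, c, d, rfl⟩ := mem_cls8 hx
    exact ⟨((a, b), (c, d)), rfl⟩
  have h2 := Nat.card_le_card_of_surjective _ h1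
  rw [Nat.card_prod, Nat.card_prod, Nat.card_eq_fintype_card (α := K)] at h2
  calc _ ≤ _ := h2
    _ = _ := by ring

theorem card_X1 [Fintype K] {m : ℕ} (hK : Fintype.card K = 2 ^ (2 * m + 1)) :
    Nat.card {x : GL chevF4.Idx K // x ∈ GA K (clsB 1) ∧ x ∈ twistedF4 K (2 ^ m)} = Fintype.card K := by
  classical
  have hfin : Finite (GL chevF4.Idx K) := inferInstance
  apply le_antisymm
  · -- upper bound
    have hinj : Function.Injective fun p : {x : GL chevF4.Idx K // x ∈ GA K (clsB 1) ∧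
        x ∈ twistedF4 K (2 ^ m)} × K => (⟨p.1.1 * X 24 p.2, (GA K (clsB 1)).mul_mem p.1.2.1
          (X_mem_GA (by norm_num) (by decide +kernel) _)⟩ : ↥(GA K (clsB 1))) := by
      rintro ⟨⟨a, ha⟩, t⟩ ⟨⟨a', ha'⟩, t'⟩ hab
      have e : a * X 24 t = a' * X 24 t' := congrArg Subtype.val hab
      have e1 : a'⁻¹ * a = X 24 t' * (X 24 t)⁻¹ := by
        calc a'⁻¹ * a = a'⁻¹ * (a * X 24 t) * (X 24 t)⁻¹ := by group
          _ = _ := by rw [e]; group
      have e2 : a'⁻¹ * a = 1 := by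
        apply long_inf hK (Subgroup.mul_mem _ (Subgroup.inv_mem _ ha'.2) ha.2)
        rw [e1]
        exact Subgroup.mul_mem _ (X_long (by decide) _) (Subgroup.inv_mem _ (X_long (by decide) _))
      have e3 : a = a' := (inv_mul_eq_one.1 e2).symm
      subst e3
      have e4 := X_inj (K := K) (r := 24) (by norm_num) (mul_left_cancel e)
      subst e4
      rfl
    have h1 := Nat.card_le_card_of_injective _ hinj
    rw [Nat.card_prod, Nat.card_eq_fintype_card (α := K)] at h1
    have h2 := h1.trans card_GA1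
    rw [pow_two] at h2
    exact Nat.le_of_mul_le_mul_right h2 Fintype.card_pos
  · rw [← Nat.card_eq_fintype_card]
    refine Nat.card_le_card_of_injective (fun t : K => (⟨W (f4PairWord (2 ^ m) f4p1 f4p4 t), ?_,
      pair_mem t⟩ : {x : GL chevF4.Idx K // x ∈ GA K (clsB 1) ∧ x ∈ twistedF4 K (2 ^ m)})) ?_
    · apply W_mem_GA
      intro p hp
      simp only [f4PairWord, List.mem_cons, List.not_mem_nil, or_false] at hp
      rcases hp with rfl | rfl
      · exact ⟨by show (33 : ℕ) < 48; norm_num, by show clsB 1 33 = true; decide +kernel⟩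
      · exact ⟨by show (24 : ℕ) < 48; norm_num, by show clsB 1 24 = true; decide +kernel⟩
    · intro t t' h
      exact pair_inj _ _ _ (congrArg Subtype.val h)

theorem card_X8 [Fintype K] {m : ℕ} (hK : Fintype.card K = 2 ^ (2 * m + 1)) :
    Nat.card {x : GL chevF4.Idx K // x ∈ GA K (clsB 8) ∧ x ∈ twistedF4 K (2 ^ m)} =
      Fintype.card K ^ 2 := by
  classical
  have hfin : Finite (GL chevF4.Idx K) := inferInstance
  apply le_antisymm
  · -- upper bound
    have hm : ∀ p : K × K, X 25 p.1 * X 30 p.2 ∈ GA K (clsB 8) := fun p =>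
      (GA K (clsB 8)).mul_mem (X_mem_GA (by norm_num) (by decide +kernel) _)
        (X_mem_GA (by norm_num) (by decide +kernel) _)
    have hl : ∀ p : K × K, X 25 p.1 * X 30 p.2 ∈ longGroup K := fun p =>
      Subgroup.mul_mem _ (X_long (by decide) _) (X_long (by decide) _)
    have hinj : Function.Injective fun p : {x : GL chevF4.Idx K // x ∈ GA K (clsB 8) ∧
        x ∈ twistedF4 K (2 ^ m)} × (K × K) => (⟨p.1.1 * (X 25 p.2.1 * X 30 p.2.2),
          (GA K (clsB 8)).mul_mem p.1.2.1 (hm _)⟩ : ↥(GA K (clsB 8))) := by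
      rintro ⟨⟨a, ha⟩, t⟩ ⟨⟨a', ha'⟩, t'⟩ hab
      have e : a * (X 25 t.1 * X 30 t.2) = a' * (X 25 t'.1 * X 30 t'.2) := congrArg Subtype.val hab
      have e1 : a'⁻¹ * a = (X 25 t'.1 * X 30 t'.2) * (X 25 t.1 * X 30 t.2)⁻¹ := by
        calc a'⁻¹ * a = a'⁻¹ * (a * (X 25 t.1 * X 30 t.2)) * (X 25 t.1 * X 30 t.2)⁻¹ := by group
          _ = _ := by rw [e]; group
      have e2 : a'⁻¹ * a = 1 := by
        apply long_inf hK (Subgroup.mul_mem _ (Subgroup.inv_mem _ ha'.2) ha.2)
        rw [e1]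
        exact Subgroup.mul_mem _ (hl _) (Subgroup.inv_mem _ (hl _))
      have e3 : a = a' := (inv_mul_eq_one.1 e2).symm
      subst e3
      have e4 := mul_left_cancel e
      have e5 := word_unique (K := K) (fun r => if r = 25 then t.1 else t.2)
        (fun r => if r = 25 then t'.1 else t'.2) [25, 30] (by decide) (by decide)
        (by simpa [wrd_cons, wrd_nil] using e4)
      have e6 := e5 25 (by decide)
      have e7 := e5 30 (by decide)
      simp only [if_true] at e6
      simp at e7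
      have : t = t' := Prod.ext e6 e7
      subst this
      rfl
    have h1 := Nat.card_le_card_of_injective _ hinj
    rw [Nat.card_prod, Nat.card_prod, Nat.card_eq_fintype_card (α := K)] at h1
    have h2 := h1.trans card_GA8
    have h3 : Nat.card {x : GL chevF4.Idx K // x ∈ GA K (clsB 8) ∧ x ∈ twistedF4 K (2 ^ m)} *
        (Fintype.card K * Fintype.card K) ≤ Fintype.card K ^ 2 * (Fintype.card K * Fintype.card K) := by
      calc _ ≤ _ := h2
        _ = _ := by ring
    exact Nat.le_of_mul_le_mul_right h3 (Nat.mul_pos Fintype.card_pos Fintype.card_pos)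
  · have hc : Fintype.card K ^ 2 = Nat.card (K × K) := by
      rw [Nat.card_prod, Nat.card_eq_fintype_card, pow_two]
    rw [hc]
    refine Nat.card_le_card_of_injective (fun t : K × K =>
      (⟨W (b2ClassWord (2 ^ m) f4a f4b f4ab f4aab t.1 t.2), ?_,
      b2_mem t.1 t.2⟩ : {x : GL chevF4.Idx K // x ∈ GA K (clsB 8) ∧ x ∈ twistedF4 K (2 ^ m)})) ?_
    · apply W_mem_GA
      intro p hp
      simp only [b2ClassWord, List.mem_cons, List.not_mem_nil, or_false] at hp
      rcases hp with rfl | rfl | rfl | rfl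
      · exact ⟨by show (27 : ℕ) < 48; norm_num, by show clsB 8 27 = true; decide +kernel⟩
      · exact ⟨by show (25 : ℕ) < 48; norm_num, by show clsB 8 25 = true; decide +kernel⟩
      · exact ⟨by show (28 : ℕ) < 48; norm_num, by show clsB 8 28 = true; decide +kernel⟩
      · exact ⟨by show (30 : ℕ) < 48; norm_num, by show clsB 8 30 = true; decide +kernel⟩
    · intro t t' h
      obtain ⟨h1, h2⟩ := b2_inj _ _ _ _ _ (congrArg Subtype.val h)
      exact Prod.ext h1 h2

end Cfsg.Agent.ChevalleyStructure.TwF4.OrderCls
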