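import Cfsg.Agent.ChevalleyStructure.TwF4.TwGen

/-!
# The torus part of ²F₄(2^(2m+1))

`mem_iff`: an element of the diagonal subgroup lies in `twistedF4 K (2^m)` iff it is `T (t^e, s^e, s, t)`, `e = 2^m`.
`card_H1`: there are `(q-1)²` of them.
-/

set_option autoImplicit false

namespace Cfsg.Agent.ChevalleyStructure.TwF4.TorusFix

open Cfsg.Lie Cfsg.Agent.ChevalleyStructure.F4NTab
  Cfsg.Agent.ChevalleyStructure.TwF4.Torus Cfsg.Agent.ChevalleyStructure.TwF4.TwGen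

/-- coordinate of a root -/
def rt (r : ℕ) (h : r < 48 := by norm_num) : chevF4.Idx := Sum.inr (⟨r, h⟩ : Fin chevF4.nroots)

theorem S33 : F4Fixed.S (rt 33) = true := by decide +kernel
theorem S27 : F4Fixed.S (rt 27) = true := by decide +kernel
theorem bar33 : F4Fixed.bar (rt 33) = rt 24 := by decide +kernel
theorem bar27 : F4Fixed.bar (rt 27) = rt 25 := by decide +kernel

variable {K : Type*} [Field K]

theorem T_rt (c : Fin 4 → Kˣ) {r : ℕ} (h : r < 48) :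
    ((T c : GL chevF4.Idx K) : Matrix chevF4.Idx chevF4.Idx K) (rt r h) (rt r h) = (chi c r : K) :=
  T_inr c _

variable [Fintype K] {m : ℕ} (hK : Fintype.card K = 2 ^ (2 * m + 1))

include hK

theorem pow_unit (x : Kˣ) : x ^ (2 * 2 ^ m * 2 ^ m) = x := by
  apply Units.ext
  rw [Units.val_pow_eq_pow_val, show 2 * 2 ^ m * 2 ^ m = 2 ^ (2 * m + 1) by ring, ← hK, FiniteField.pow_card]

theorem T_mem_iff (c : Fin 4 → Kˣ) :
    T c ∈ twistedF4 K (2 ^ m) ↔ ∃ s t : Kˣ, c = tc (2 ^ m) s t := by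
  haveI := F4Fixed.charP_two hK
  constructor
  · intro h
    obtain ⟨-, h2⟩ := F4Fixed.twistedF4_fix hK h
    have e1 := h2 (rt 33) (rt 33) S33 S33
    have e2 := h2 (rt 27) (rt 27) S27 S27
    rw [bar33, T_rt, T_rt] at e1
    rw [bar27, T_rt, T_rt] at e2
    have e1' : chi c 33 = (chi c 24) ^ 2 ^ m := Units.ext (by rw [e1]; push_cast; rfl)
    have e2' : chi c 27 = (chi c 25) ^ 2 ^ m := Units.ext (by rw [e2]; push_cast; rfl)
    rw [chi33, chi24] at e1'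
    rw [chi27, chi25] at e2'
    obtain ⟨f1, f2⟩ := solve (pow_unit hK) _ _ _ _ e1' e2'
    refine ⟨c 2, c 3, ?_⟩
    funext l
    fin_cases l
    · exact f1
    · exact f2
    · rfl
    · rfl
  · rintro ⟨s, t, rfl⟩
    exact T_tc_mem (by positivity) (pow_unit hK) s t

theorem mem_iff (g : GL chevF4.Idx K) :
    g ∈ chevF4.diagonalSubgroup K ⊓ twistedF4 K (2 ^ m) ↔ ∃ s t : Kˣ, g = T (tc (2 ^ m) s t) := by
  haveI := F4Fixed.charP_two hK
  rw [Subgroup.mem_inf, diagonal_eq_range]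
  constructor
  · rintro ⟨⟨c, rfl⟩, h⟩
    obtain ⟨s, t, rfl⟩ := (T_mem_iff hK c).1 h
    exact ⟨s, t, rfl⟩
  · rintro ⟨s, t, rfl⟩
    exact ⟨⟨_, rfl⟩, (T_mem_iff hK _).2 ⟨s, t, rfl⟩⟩

/-- `(s, t) ↦ T (t^e, s^e, s, t)` -/
noncomputable def equivH1 : Kˣ × Kˣ ≃ ↥(chevF4.diagonalSubgroup K ⊓ twistedF4 K (2 ^ m)) :=
  Equiv.ofBijective (fun p => ⟨T (tc (2 ^ m) p.1 p.2), (mem_iff hK _).2 ⟨_, _, rfl⟩⟩) (by
    haveI := F4Fixed.charP_two hK
    constructor
    · rintro ⟨s, t⟩ ⟨s', t'⟩ h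
      have h1 := congrArg Subtype.val h
      have h2 := T_injective h1
      have h3 := congrFun h2 2
      have h4 := congrFun h2 3
      exact Prod.ext h3 h4
    · rintro ⟨g, hg⟩
      obtain ⟨s, t, rfl⟩ := (mem_iff hK g).1 hg
      exact ⟨(s, t), rfl⟩)

theorem card_H1 : Nat.card ↥(chevF4.diagonalSubgroup K ⊓ twistedF4 K (2 ^ m)) = (2 ^ (2 * m + 1) - 1) ^ 2 := by
  rw [← Nat.card_congr (equivH1 hK), Nat.card_prod, Nat.card_units, Nat.card_eq_fintype_card, hK, pow_two]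

end Cfsg.Agent.ChevalleyStructure.TwF4.TorusFix
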