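import Cfsg.Agent.ChevalleyStructure.TwistedAction
import Cfsg.Agent.ChevalleyStructure.TwistedWeylSumF4
import Cfsg.Agent.ChevalleyStructure.TwF4.OrderCls
import Cfsg.Agent.ChevalleyStructure.TwF4.NRoot
import Cfsg.Agent.S1037
import Cfsg.Agent.S1110

/-!
# The order of `²F₄(q)` from its `TwistedData`

`Input T m` collects what is needed about an instance `T` of `TwistedBN.TwistedData` for `²F₄`;
`card_G` computes the order.
-/

set_option autoImplicit false
set_option maxHeartbeats 400000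

namespace Cfsg.Agent.ChevalleyStructure.TwF4.OrderMain

open Cfsg.Lie
open Cfsg.Agent.ChevalleyStructure.TwF4.Rel Cfsg.Agent.ChevalleyStructure.TwF4.Groups
open Cfsg.Agent.ChevalleyStructure.TwF4.OrderCls
open Cfsg.Agent.ChevalleyStructure.TwistedBN
open Cfsg.Agent.ChevalleyStructure.TwistedOrder
open Cfsg.Agent.ChevalleyStructure.TwF4.NStruct (permHom permHom_eq_one_iff R)
open Cfsg.Agent.ChevalleyStructure.TwF4.NRoot (P1 P2 P1_val P2_val permHom_n1 permHom_n2 N_conj_X)
open Cfsg.Agent.ChevalleyStructure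

universe u

variable {K : Type u} [Field K] [CharP K 2]

/-- What is needed from the `TwistedData` of `²F₄`. -/
structure Input (T : TwistedData (GL chevF4.Idx K) (Fin 2)) (e : ℕ) : Prop where
  hU : T.U = chevF4.posUnipotent K
  hH : T.H = chevF4.diagonalSubgroup K
  hN : T.N = chevF4.monomialSubgroup K
  hG : T.G = twistedF4 K e
  hn0 : T.n 0 = n1 K
  hn1 : T.n 1 = n2 K
  hX0 : T.X 0 = (GA K (clsB 1) : Set (GL chevF4.Idx K))
  hX1 : T.X 1 = (GA K (clsB 8) : Set (GL chevF4.Idx K))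
  hY0 : T.Y 0 = (GA K (clsB 9) : Set (GL chevF4.Idx K))
  hY1 : T.Y 1 = (GA K (clsB 16) : Set (GL chevF4.Idx K))

/-! ### combinatorics of the classes -/

/-- number of the class of the `i`-th relative simple root -/
def kk : Fin 2 → ℕ
  | 0 => 1
  | 1 => 8

/-- the relative simple reflections on root indices -/
def ww : Fin 2 → ℕ → ℕ
  | 0 => w1
  | 1 => w2

/-- the permutations -/
def PP : Fin 2 → Equiv.Perm R
  | 0 => P1
  | 1 => P2

theorem PP_val (i : Fin 2) (s : R) : (PP i s).val = ww i s.val := by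
  match i with
  | 0 => exact P1_val s
  | 1 => exact P2_val s

theorem ww_neg (i : Fin 2) (r : ℕ) (hr : r < 48) : ww i (47 - r) = 47 - ww i r := by
  match i with
  | 0 => exact ((Act_n1 (K := ZMod 2)).1 r hr).2
  | 1 => exact ((Act_n2 (K := ZMod 2)).1 r hr).2

theorem ww_lt (i : Fin 2) (r : ℕ) (hr : r < 48) : ww i r < 48 := by
  match i with
  | 0 => exact w1_lt r hr
  | 1 => exact w2_lt r hr

theorem cls_ww (i : Fin 2) (r s : ℕ) (hr : r < 48) (hs : s < 48) :
    cls (ww i r) = cls (ww i s) ↔ cls r = cls s := by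
  have h1 := cls_fact r hr
  have h2 := cls_fact s hs
  match i with
  | 0 =>
    show cls (w1 r) = cls (w1 s) ↔ _
    rw [h1.2.2.2.1, h2.2.2.2.1]
    split_ifs <;> omega
  | 1 =>
    show cls (w2 r) = cls (w2 s) ↔ _
    rw [h1.2.2.2.2.1, h2.2.2.2.2.1]
    split_ifs <;> omega

theorem cls_ww_kk (i : Fin 2) (r : ℕ) (hr : r < 48) (h : cls r = kk i) : cls (ww i r) = cls (47 - r) := by
  have h1 := cls_fact r hr
  match i with
  | 0 =>
    have h' : cls r = 1 := h
    show cls (w1 r) = _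
    rw [h1.2.2.2.1, h1.2.2.2.2.2]
    split_ifs <;> omega
  | 1 =>
    have h' : cls r = 8 := h
    show cls (w2 r) = _
    rw [h1.2.2.2.2.1, h1.2.2.2.2.2]
    split_ifs <;> omega

theorem pos_ww (i : Fin 2) (r : ℕ) (hr : r < 48) (hp : 24 ≤ r) (h : cls r ≠ kk i) : 24 ≤ ww i r := by
  have h1 := cls_fact r hr
  have h2 := cls_fact (ww i r) (ww_lt i r hr)
  rw [← h2.2.2.1]
  have h3 := h1.2.2.1.2 hp
  match i with
  | 0 =>
    have h' : cls r ≠ 1 := h
    show cls (w1 r) ≤ 8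
    rw [h1.2.2.2.1]
    split_ifs <;> omega
  | 1 =>
    have h' : cls r ≠ 8 := h
    show cls (w2 r) ≤ 8
    rw [h1.2.2.2.2.1]
    split_ifs <;> omega

theorem kk_pos (i : Fin 2) (r : ℕ) (hr : r < 48) (h : cls r = kk i) : 24 ≤ r := by
  have h1 := cls_fact r hr
  rw [← h1.2.2.1, h]
  match i with
  | 0 => show 1 ≤ 8; norm_num
  | 1 => show 8 ≤ 8; norm_num

theorem isLong_ww (i : Fin 2) (r : ℕ) (hr : r < 48) : Fix.isLong (ww i r) = Fix.isLong r := by
  have h := Fix.bar_facts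
  rw [List.all_eq_true] at h
  have h1 := h r (List.mem_range.2 hr)
  simp only [Bool.and_eq_true, beq_iff_eq] at h1
  match i with
  | 0 => exact h1.1.2
  | 1 => exact h1.2

/-- classes are permuted, negatives go to negatives -/
theorem closure_prop {w : Equiv.Perm R} (hw : w ∈ Subgroup.closure (Set.range PP)) :
    (∀ r s : R, cls (w r).val = cls (w s).val ↔ cls r.val = cls s.val) ∧
    (∀ a b : R, b.val = 47 - a.val → (w b).val = 47 - (w a).val) := by
  induction hw using Subgroup.closure_induction with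
  | mem x hx =>
    obtain ⟨i, rfl⟩ := hx
    refine ⟨fun r s => ?_, fun a b hab => ?_⟩
    · rw [PP_val, PP_val]
      exact cls_ww i _ _ r.2 s.2
    · rw [PP_val, PP_val, hab]
      exact ww_neg i _ a.2
  | one => exact ⟨fun _ _ => Iff.rfl, fun _ _ h => h⟩
  | mul x y _ _ ihx ihy =>
    exact ⟨fun r s => (ihx.1 _ _).trans (ihy.1 _ _), fun a b hab => ihx.2 _ _ (ihy.2 a b hab)⟩
  | inv x _ ih =>
    refine ⟨fun r s => ?_, fun a b hab => ?_⟩
    · have h := ih.1 (x⁻¹ r) (x⁻¹ s)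
      rw [← Equiv.Perm.mul_apply, ← Equiv.Perm.mul_apply, mul_inv_cancel, Equiv.Perm.one_apply,
        Equiv.Perm.one_apply] at h
      exact h.symm
    · have hlt : 47 - ((x⁻¹ a : R) : ℕ) < 48 := by omega
      have h4 := ih.2 (x⁻¹ a) ⟨47 - (x⁻¹ a : R), hlt⟩ rfl
      have h5 : x ⟨47 - (x⁻¹ a : R), hlt⟩ = b := by
        apply Fin.ext
        rw [h4, ← Equiv.Perm.mul_apply, mul_inv_cancel, Equiv.Perm.one_apply, hab]
      rw [← h5, ← Equiv.Perm.mul_apply, inv_mul_cancel, Equiv.Perm.one_apply]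

/-- the class as a finset -/
def Dl (i : Fin 2) : Finset R := Finset.univ.filter fun a : R => cls a.val = kk i

theorem mem_Dl {i : Fin 2} {a : R} : a ∈ Dl i ↔ cls a.val = kk i := by
  unfold Dl
  simp

theorem pos_iff (r : ℕ) (hr : r < 48) : 24 ≤ r ↔ cls r ≤ 8 := (cls_fact r hr).2.2.1.symm

theorem cases {w : Equiv.Perm R} (hw : w ∈ Subgroup.closure (Set.range PP)) (i : Fin 2) :
    ((∀ a ∈ Dl i, 24 ≤ (w a).val) ∧ ∀ a ∈ Dl i, ¬ 24 ≤ (w (PP i a)).val) ∨
    ((∀ a ∈ Dl i, ¬ 24 ≤ (w a).val) ∧ ∀ a ∈ Dl i, 24 ≤ (w (PP i a)).val) := by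
  obtain ⟨c1, c2⟩ := closure_prop hw
  have hall : ∀ a ∈ Dl i, ∀ b ∈ Dl i, (24 ≤ (w b).val ↔ 24 ≤ (w a).val) := by
    intro a ha b hb
    rw [pos_iff _ (w b).2, pos_iff _ (w a).2, (c1 b a).2 ((mem_Dl.1 hb).trans (mem_Dl.1 ha).symm)]
  have hneg : ∀ a ∈ Dl i, (24 ≤ (w (PP i a)).val ↔ ¬ 24 ≤ (w a).val) := by
    intro a ha
    have hlt : 47 - (a : ℕ) < 48 := by omega
    have h1 : cls (PP i a).val = cls ((⟨47 - a.val, hlt⟩ : R) : ℕ) := by
      rw [PP_val]
      exact cls_ww_kk i _ a.2 (mem_Dl.1 ha)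
    have h2 := (c1 _ _).2 h1
    have h3 := c2 a ⟨47 - a.val, hlt⟩ rfl
    rw [pos_iff _ (w (PP i a)).2, h2, h3, pos_iff _ (w a).2]
    have h4 := cls_fact (w a).val (w a).2
    rw [h4.2.2.2.2.2]
    split_ifs <;> omega
  by_cases hp : ∃ a ∈ Dl i, 24 ≤ (w a).val
  · obtain ⟨a, ha, hwa⟩ := hp
    left
    refine ⟨fun b hb => (hall a ha b hb).2 hwa, fun b hb => ?_⟩
    rw [hneg b hb]
    exact not_not.2 ((hall a ha b hb).2 hwa)
  · push Not at hp
    right
    refine ⟨fun b hb => Nat.not_le.2 (hp b hb), fun b hb => ?_⟩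
    rw [hneg b hb]
    exact Nat.not_le.2 (hp b hb)

theorem card_short0 : ((Dl 0).filter fun a : R => ¬ Fix.isLong a.val = true).card = 1 := by
  decide +kernel

theorem card_short1 : ((Dl 1).filter fun a : R => ¬ Fix.isLong a.val = true).card = 2 := by
  decide +kernel

/-- weights: `q` on the short roots -/
def cc (q : ℕ) (r : R) : ℕ := if Fix.isLong r.val = true then 1 else q

theorem prod_Dl (q : ℕ) (i : Fin 2) : ∏ a ∈ Dl i, cc q a =
    q ^ ((Dl i).filter fun a : R => ¬ Fix.isLong a.val = true).card := by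
  unfold cc
  rw [Finset.prod_ite, Finset.prod_const_one, one_mul, Finset.prod_const]

/-! ### the root action -/

variable {T : TwistedData (GL chevF4.Idx K) (Fin 2)} {m : ℕ}

/-- the action of `T.N` on the roots -/
noncomputable def act (T : TwistedData (GL chevF4.Idx K) (Fin 2)) (hN : T.N = chevF4.monomialSubgroup K) :
    T.N →* Equiv.Perm R :=
  (permHom K).comp (MulEquiv.subgroupCongr hN).toMonoidHom

theorem act_apply (hN : T.N = chevF4.monomialSubgroup K) (g : T.N)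
    (hg : (g : GL chevF4.Idx K) ∈ chevF4.monomialSubgroup K) :
    act T hN g = permHom K ⟨(g : GL chevF4.Idx K), hg⟩ := rfl

theorem act_n {e : ℕ} (I : Input T e) (i : Fin 2) : act T I.hN ⟨T.n i, T.n_mem_N i⟩ = PP i := by
  have hmem : T.n i ∈ chevF4.monomialSubgroup K := I.hN ▸ T.n_mem_N i
  rw [act_apply I.hN _ hmem]
  match i with
  | 0 =>
    have h0 := I.hn0
    have hmem' : n1 K ∈ chevF4.monomialSubgroup K := h0 ▸ hmem
    have : (⟨T.n 0, hmem⟩ : ↥(chevF4.monomialSubgroup K)) = ⟨n1 K, hmem'⟩ := Subtype.ext h0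
    exact (congrArg _ this).trans (permHom_n1 hmem')
  | 1 =>
    have h0 := I.hn1
    have hmem' : n2 K ∈ chevF4.monomialSubgroup K := h0 ▸ hmem
    have : (⟨T.n 1, hmem⟩ : ↥(chevF4.monomialSubgroup K)) = ⟨n2 K, hmem'⟩ := Subtype.ext h0
    exact (congrArg _ this).trans (permHom_n2 hmem')

theorem X_eq {e : ℕ} (I : Input T e) (i : Fin 2) : T.X i = (GA K (clsB (kk i)) : Set (GL chevF4.Idx K)) := by
  match i with
  | 0 => exact I.hX0
  | 1 => exact I.hX1

theorem Y_neg {e : ℕ} (I : Input T e) (i : Fin 2) : ∀ y ∈ T.Y i, y ∈ chevF4.negUnipotent K := by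
  have h : ∀ k, (∀ r < 48, clsB k r = true → r < 24) → GA K (clsB k) ≤ chevF4.negUnipotent K := by
    intro k hk
    rw [negUnipotent_eq]
    exact GA_mono fun r hr h => decide_eq_true (hk r hr h)
  match i with
  | 0 =>
    intro y hy
    rw [I.hY0] at hy
    exact h 9 (by decide +kernel) hy
  | 1 =>
    intro y hy
    rw [I.hY1] at hy
    exact h 16 (by decide +kernel) hy

/-- the `RootAction` -/
noncomputable def rootAction [Fintype K] (hK : Fintype.card K = 2 ^ (2 * m + 1)) (I : Input T (2 ^ m)) :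
    RootAction T R (cc (Fintype.card K)) where
  Xr := fun r => GA K (one' r.val)
  ρ := act T I.hN
  ρ_conj := by
    intro n r x hx
    obtain ⟨t, rfl⟩ := mem_one _ x hx
    have hn : (n : GL chevF4.Idx K) ∈ chevF4.monomialSubgroup K := I.hN ▸ n.2
    obtain ⟨c, hc⟩ := N_conj_X ⟨(n : GL chevF4.Idx K), hn⟩ r
    have h := hc t
    rw [act_apply I.hN _ hn, show (n : GL chevF4.Idx K) * X r.val t * (n : GL chevF4.Idx K)⁻¹ = _ from h]
    exact X_mem_GA (Fin.isLt _) (decide_eq_true rfl) _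
  ker := by
    intro n
    have hn : (n : GL chevF4.Idx K) ∈ chevF4.monomialSubgroup K := I.hN ▸ n.2
    rw [act_apply I.hN _ hn, permHom_eq_one_iff, I.hH]
  pos := fun r => 24 ≤ r.val
  Xr_le := by
    intro r hr
    rw [I.hU, posUnipotent_eq, GA_le_iff]
    intro s hs hsr t
    have : s = r.val := of_decide_eq_true hsr
    exact X_mem_GA hs (decide_eq_true (this ▸ hr)) t
  Δ := Dl
  Δ_pos := fun i a ha => kk_pos i _ a.2 (mem_Dl.1 ha)
  Xi_le := by
    intro i x hx _
    rw [X_eq I] at hx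
    have h : GA K (clsB (kk i)) ≤ Subgroup.closure {y : GL chevF4.Idx K | ∃ r ∈ Dl i, y ∈ GA K (one' r.val)} := by
      rw [GA_le_iff]
      intro r hr hc t
      exact Subgroup.subset_closure ⟨⟨r, hr⟩, mem_Dl.2 (of_decide_eq_true hc),
        X_mem_GA hr (decide_eq_true rfl) t⟩
    exact h hx
  refl_neg := by
    intro i a ha
    rw [act_n I, PP_val, pos_iff _ (ww_lt i _ a.2), cls_ww_kk i _ a.2 (mem_Dl.1 ha)]
    have h4 := cls_fact a.val a.2
    have h5 := kk_pos i _ a.2 (mem_Dl.1 ha)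
    rw [h4.2.2.2.2.2]
    have h6 := h4.2.2.1.2 h5
    rw [if_pos h6]
    omega
  refl_pos := by
    intro i a ha ha'
    rw [act_n I, PP_val]
    exact pos_ww i _ a.2 ha fun h => ha' (mem_Dl.2 h)
  cases := by
    intro w hw i
    have h : (Set.range fun i => act T I.hN ⟨T.n i, T.n_mem_N i⟩) = Set.range PP := by
      congr 1
      funext j
      exact act_n I j
    rw [h] at hw
    rw [act_n I]
    exact cases hw i
  X_mul := by
    intro i x hx y hy
    rw [X_eq I] at hx hy ⊢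
    exact (GA K (clsB (kk i))).mul_mem ((GA K (clsB (kk i))).inv_mem hx) hy
  Y_inf := by
    intro i y hy _ hB
    have hV := Y_neg I i y hy
    rw [I.hU, I.hH] at hB
    have h := (Cfsg.Agent.S1037.result (F := K) chevF4 (by simp)).1
    have : y ∈ (⊥ : Subgroup (GL chevF4.Idx K)) := by
      rw [← h]
      exact ⟨hB, hV⟩
    exact Subgroup.mem_bot.1 this
  c_inv := by
    intro i a
    rw [act_n I]
    unfold cc
    rw [PP_val, isLong_ww i _ a.2]
  card_X := by
    intro i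
    rw [prod_Dl]
    match i with
    | 0 =>
      rw [card_short0, pow_one, ← card_X1 hK, I.hX0, I.hG]
      rfl
    | 1 =>
      rw [card_short1, ← card_X8 hK, I.hX1, I.hG]
      rfl

open Classical in
/-- **The order of `²F₄(q)`.** -/
theorem card_G [Fintype K] (hK : Fintype.card K = 2 ^ (2 * m + 1)) (I : Input T (2 ^ m)) :
    Nat.card ↥(twistedF4 K (2 ^ m)) =
      (2 ^ (2 * m + 1)) ^ 12 * (2 ^ (2 * m + 1) - 1) * ((2 ^ (2 * m + 1)) ^ 3 + 1) *
        ((2 ^ (2 * m + 1)) ^ 4 - 1) * ((2 ^ (2 * m + 1)) ^ 6 + 1) := by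
  have hfin : Finite (GL chevF4.Idx K) := inferInstance
  have hfin' : Finite T.G := inferInstance
  have h := (rootAction hK I).card_G
  have hsum := TwistedWeylSumF4.sum_twistedF4 (q := Fintype.card K)
    (fun i => (PP i : Equiv.Perm (Fin 48)))
    (fun r => P1_val r) (fun r => P2_val r) (pos := fun r => 24 ≤ r.val) (fun _ => Iff.rfl)
    (c := fun r : Fin 48 => cc (Fintype.card K) r) (fun _ => rfl)
  have h1 : (Set.range fun i => (rootAction hK I).ρ (RootAction.nN i)) =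
      Set.range (fun i => (PP i : Equiv.Perm (Fin 48))) := by
    congr 1
    funext j
    exact act_n I j
  rw [h1] at h
  have h2 : Nat.card ↥(T.U ⊓ T.G) = Fintype.card K ^ 12 := by
    rw [I.hU, I.hG, Cfsg.Agent.S1090.result hK, hK]
  have h3 : Nat.card ↥(T.H ⊓ T.G) = (Fintype.card K - 1) ^ 2 := by
    rw [I.hH, I.hG, Cfsg.Agent.S1110.result hK, hK]
  rw [h2, h3] at h
  have h4 : Nat.card ↥(twistedF4 K (2 ^ m)) = Nat.card T.G := by rw [I.hG]
  rw [h4, h, ← hK]
  have key : ∀ z : ℕ, z = (1 + Fintype.card K) * (1 + Fintype.card K ^ 2) * (1 + Fintype.card K ^ 3) *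
        (1 + Fintype.card K ^ 6) → z * (Fintype.card K ^ 12 * (Fintype.card K - 1) ^ 2) =
      Fintype.card K ^ 12 * (Fintype.card K - 1) * (Fintype.card K ^ 3 + 1) *
        (Fintype.card K ^ 4 - 1) * (Fintype.card K ^ 6 + 1) := by
    rintro z rfl
    obtain ⟨k, hk⟩ : ∃ k, Fintype.card K = k + 1 := ⟨Fintype.card K - 1, by
      have := Fintype.card_pos (α := K); omega⟩
    rw [hk]
    have h6 : (k + 1) ^ 4 - 1 = k * (k + 2) * ((k + 1) ^ 2 + 1) := by
      have : (k + 1) ^ 4 = k * (k + 2) * ((k + 1) ^ 2 + 1) + 1 := by ring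
      omega
    rw [h6, Nat.add_sub_cancel]
    ring
  apply key
  refine (TwistedAction.sum_univ_inst _ _ _ _ _).trans hsum

end Cfsg.Agent.ChevalleyStructure.TwF4.OrderMain
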