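import Cfsg.Agent.ChevalleyStructure.TwF4.Groups
import Cfsg.Agent.ChevalleyStructure.HDiagF4

/-!
Rank one facts for the twisted groups of type `²F₄`: the Bruhat decomposition of the minimal
`ρ`-stable parabolic subgroups of `F₄(K)` (characteristic 2) and its consequence for the elements of
`Fix φ`.
-/

set_option autoImplicit false
set_option linter.unusedSectionVars false

namespace Cfsg.Agent.ChevalleyStructure.TwF4.RankOne

open Cfsg.Lie Cfsg.Agent.ChevalleyStructure.TwF4.Bits Cfsg.Agent.ChevalleyStructure.TwF4.Tables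
open Cfsg.Agent.ChevalleyStructure.TwF4.Rel Cfsg.Agent.ChevalleyStructure.TwF4.Fix
open Cfsg.Agent.ChevalleyStructure.TwF4.Groups

open scoped Pointwise

/-! ### packed matrices of words in `x_r(1)` -/

/-- packed matrix of the product of the `x_r(1)`, `r ∈ l` -/
def mat1 (l : List ℕ) : ℕ := l.foldr (fun r M => (M ^^^ lmul (Els r) M) ^^^ lmul (Fls r) M) idN

/-- letters of the word `n_{p_{i+1}} ⋯` -/
def letters (w : List ℕ) : List ℕ := w.flatMap fun i => [sp i, 47 - sp i, sp i]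

/-- closure of the list `L` of words under left multiplication by the `n_i`, `i ∈ J` -/
def chkClosed (J : List ℕ) (L : List (List ℕ)) : Bool :=
  J.all fun i => L.all fun w => L.any fun w' => mat1 (letters (i :: w)) == mat1 (letters w')

/-- the words for the class `{p₁, p₄}` -/
def L1 : List (List ℕ) := [[], [0], [3], [0, 3]]
/-- the words for the class of `{p₂, p₃}` -/
def L2 : List (List ℕ) := [[], [1], [2], [1, 2], [2, 1], [1, 2, 1], [2, 1, 2], [1, 2, 1, 2]]

theorem chkClosed_L1 : chkClosed [0, 3] L1 = true := by decide +kernel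
theorem chkClosed_L2 : chkClosed [1, 2] L2 = true := by decide +kernel

/-- the corner check showing that `n_w` cannot occur for an element of `Fix` -/
def corner (w : List ℕ) (i j : ℕ) : Bool :=
  (bitAt (mat1 (letters (w.map fun k => 3 - k))) (nthN ioN i) (nthN ioN j)) &&
  (List.range 26).all fun k => (List.range 26).all fun l =>
    !(decide (k ≤ i) && decide (j ≤ l)) || !(bitAt (mat1 (letters w)) (nthN ioN k) (nthN ioN l))

/-- exclusion of the words other than `[]` and the longest one -/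
def chkCorner (L : List (List ℕ)) (w0 : List ℕ) : Bool :=
  L.all fun w => decide (w = []) || decide (w = w0) ||
    (List.range 26).any fun i => (List.range 26).any fun j => corner w i j

theorem chkCorner_L1 : chkCorner L1 [0, 3] = true := by decide +kernel
theorem chkCorner_L2 : chkCorner L2 [1, 2, 1, 2] = true := by decide +kernel

variable {K : Type*} [Field K] [CharP K 2]

/-- the product of the `x_r(1)` -/
def W1 (K : Type*) [Field K] [CharP K 2] (l : List ℕ) : GL chevF4.Idx K := W (l.map fun r => (r, 1))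

theorem W1_cons (r : ℕ) (l : List ℕ) : W1 K (r :: l) = X r 1 * W1 K l := by
  unfold W1
  rw [List.map_cons, W_cons]

theorem W1_append (l l' : List ℕ) : W1 K (l ++ l') = W1 K l * W1 K l' := by
  unfold W1
  rw [List.map_append, W_append]

theorem coe_W1 (l : List ℕ) (hl : ∀ r ∈ l, r < 48) :
    ((W1 K l : GL chevF4.Idx K) : Matrix chevF4.Idx chevF4.Idx K) = sem pos K (mat1 l) := by
  induction l with
  | nil => exact sem_idN.symm
  | cons r l ih =>
    have h1 : mat1 (r :: l) = (mat1 l ^^^ lmul (Els r) (mat1 l)) ^^^ lmul (Fls r) (mat1 l) := rfl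
    rw [h1, W1_cons, Units.val_mul, coe_X, ih (fun q hq => hl q (List.mem_cons_of_mem _ hq)),
      sem_xor, sem_xor, sem_lmul posOK _ (okS_Els r), sem_lmul posOK _ (okS_Fls r),
      x_eq r (hl r List.mem_cons_self), one_pow, one_smul, one_smul, Matrix.add_mul,
      Matrix.add_mul, Matrix.one_mul]

/-- the product of the `n_{p_{i+1}}`, `i ∈ w` -/
def NW (K : Type*) [Field K] [CharP K 2] (w : List ℕ) : GL chevF4.Idx K :=
  (w.map fun i => nG K (sp i)).prod

theorem NW_cons (i : ℕ) (w : List ℕ) : NW K (i :: w) = nG K (sp i) * NW K w := by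
  unfold NW
  rw [List.map_cons, List.prod_cons]

theorem NW_eq_W1 (w : List ℕ) : NW K w = W1 K (letters w) := by
  induction w with
  | nil => rfl
  | cons i w ih =>
    have h1 : letters (i :: w) = [sp i, 47 - sp i, sp i] ++ letters w := rfl
    have h2 : W1 K [sp i, 47 - sp i, sp i] = nG K (sp i) := by
      rw [W1_cons, W1_cons, W1_cons]
      unfold nG W1
      rw [List.map_nil, W_nil, mul_one, mul_assoc]
    rw [NW_cons, h1, W1_append, h2, ih]

theorem letters_lt (w : List ℕ) : ∀ r ∈ letters w, r < 48 := by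
  intro r hr
  unfold letters at hr
  rw [List.mem_flatMap] at hr
  obtain ⟨i, _, hi⟩ := hr
  have h1 : sp i < 48 := by unfold sp; split <;> omega
  simp only [List.mem_cons, List.not_mem_nil, or_false] at hi
  omega

theorem NW_eq_of_mat1 (w w' : List ℕ) (h : (mat1 (letters w) == mat1 (letters w')) = true) :
    NW K w = NW K w' := by
  rw [NW_eq_W1, NW_eq_W1]
  apply Units.ext
  rw [coe_W1 _ (letters_lt w), coe_W1 _ (letters_lt w'), eq_of_beq h]

theorem nG_mul_NW_mem (J : List ℕ) (L : List (List ℕ)) (h : chkClosed J L = true) (i : ℕ)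
    (hi : i ∈ J) (w : List ℕ) (hw : w ∈ L) : ∃ w' ∈ L, nG K (sp i) * NW K w = NW K w' := by
  unfold chkClosed at h
  rw [List.all_eq_true] at h
  have h1 := h i hi
  rw [List.all_eq_true] at h1
  have h2 := h1 w hw
  rw [List.any_eq_true] at h2
  obtain ⟨w', hw', h3⟩ := h2
  refine ⟨w', hw', ?_⟩
  rw [← NW_cons]
  exact NW_eq_of_mat1 _ _ h3

theorem Act_NW_inv (w : List ℕ) (hw : ∀ i ∈ w, i < 4) : ∃ π, Act (NW K w)⁻¹ π := by
  induction w with
  | nil => exact ⟨_, by rw [show NW K [] = 1 from rfl, inv_one]; exact Act_one⟩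
  | cons i w ih =>
    obtain ⟨π, hπ⟩ := ih (fun j hj => hw j (List.mem_cons_of_mem _ hj))
    have hi := hw i List.mem_cons_self
    rw [NW_cons, mul_inv_rev, nG_inv i hi]
    exact ⟨_, Act_mul hπ (Act_nG i hi)⟩

/-! ### the diagonal subgroup -/

theorem Act_W {g : GL chevF4.Idx K} {π : ℕ → ℕ} (hg : Act g π) (w : List (ℕ × K))
    (hw : ∀ p ∈ w, p.1 < 48) : g * W w * g⁻¹ = W (w.map fun p => (π p.1, p.2)) := by
  induction w with
  | nil => simp
  | cons p w ih =>
    rw [List.map_cons, W_cons, W_cons, ← ih (fun q hq => hw q (List.mem_cons_of_mem _ hq)),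
      ← hg.2 p.1 (hw p List.mem_cons_self) p.2]
    group

theorem neg_eq (r : ℕ) (hr : r < 48) : chevF4.neg r = 47 - r := by
  have h := Cfsg.Agent.ChevalleyStructure.Unitriangular.neg_add
    (Cfsg.Agent.ChevalleyStructure.Unitriangular.orderCheck_F4) (r := r) hr
  change chevF4.neg r + r + 1 = 48 at h
  omega

/-- the word of `h_r(t)` -/
def hW (r : ℕ) (t : K) : List (ℕ × K) :=
  [(r, t), (47 - r, -t⁻¹), (r, t), (r, -1), (47 - r, -(-1)⁻¹), (r, -1)]

theorem hWord_eq (r : ℕ) (hr : r < 48) (t : K) : chevF4.hWord r t = hW r t := by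
  unfold ChevalleyDatum.hWord ChevalleyDatum.nWord hW
  rw [neg_eq r hr]
  rfl

/-- `h_r(t)` in `GL` -/
def hG (r : ℕ) (t : K) : GL chevF4.Idx K := W (hW r t)

theorem coe_hG (r : ℕ) (hr : r < 48) (t : K) :
    ((hG r t : GL chevF4.Idx K) : Matrix chevF4.Idx chevF4.Idx K) = chevF4.hMat K r t := by
  unfold hG ChevalleyDatum.hMat
  rw [coe_W, hWord_eq r hr]

theorem hG_mem (r : ℕ) (hr : r < 48) (t : K) (ht : t ≠ 0) :
    hG r t ∈ chevF4.diagonalSubgroup K :=
  Subgroup.subset_closure ⟨r, t, hr, ht, coe_hG r hr t⟩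

theorem diag_le_iff {S : Subgroup (GL chevF4.Idx K)} :
    chevF4.diagonalSubgroup K ≤ S ↔ ∀ r < 48, ∀ t : K, t ≠ 0 → hG r t ∈ S := by
  unfold ChevalleyDatum.diagonalSubgroup
  rw [Subgroup.closure_le]
  constructor
  · intro h r hr t ht
    exact h ⟨r, t, hr, ht, coe_hG r hr t⟩
  · rintro h g ⟨r, t, hr, ht, hg⟩
    have : g = hG r t := Units.ext (by rw [hg, coe_hG r hr])
    rw [this]
    exact h r hr t ht

theorem Act_hG {g : GL chevF4.Idx K} {π : ℕ → ℕ} (hg : Act g π) (r : ℕ) (hr : r < 48) (t : K) :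
    g * hG r t * g⁻¹ = hG (π r) t := by
  unfold hG
  rw [Act_W hg _ (by
    intro p hp
    simp only [hW, List.mem_cons, List.not_mem_nil, or_false] at hp
    rcases hp with rfl | rfl | rfl | rfl | rfl | rfl <;> simp <;> omega)]
  have h1 := (hg.1 r hr).2
  simp only [hW, List.map_cons, List.map_nil, h1]

/-- acting elements normalise `H` -/
theorem Act_conj_H {g : GL chevF4.Idx K} {π : ℕ → ℕ} (hg : Act g π) :
    ∀ h ∈ chevF4.diagonalSubgroup K, g * h * g⁻¹ ∈ chevF4.diagonalSubgroup K := by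
  have h1 : chevF4.diagonalSubgroup K ≤
      (chevF4.diagonalSubgroup K).comap (MulAut.conj g).toMonoidHom := by
    rw [diag_le_iff]
    intro r hr t ht
    show g * hG r t * g⁻¹ ∈ chevF4.diagonalSubgroup K
    rw [Act_hG hg r hr t]
    exact hG_mem _ (hg.1 r hr).1 t ht
  exact fun h hh => h1 hh

theorem diag_le_DD [Finite K] : chevF4.diagonalSubgroup K ≤ DD K := by
  rw [diag_le_iff]
  intro r hr t ht
  have h1 := Cfsg.Agent.ChevalleyStructure.HDiagF4.hMat_chevF4 (F := K) (r := r) hr ht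
  rw [mem_DD, coe_hG r hr, h1]
  refine ⟨fun i j => ?_, fun i j h => ?_, fun i j h => ?_⟩
  · exact Matrix.diagonal_apply_ne _ (fun e => io_ne_ro j i e.symm)
  · exact Matrix.diagonal_apply_ne _ (fun e => h (io_inj e))
  · exact Matrix.diagonal_apply_ne _ (fun e => h (ro_inj e))

/-- `X_{-p}(t) = X_p(t⁻¹) h_p(t⁻¹) n_p X_p(t⁻¹)` for `t ≠ 0` -/
theorem X_neg_eq (i : ℕ) (hi : i < 4) (t : K) (ht : t ≠ 0) :
    X (47 - sp i) t = X (sp i) t⁻¹ * hG (sp i) t⁻¹ * nG K (sp i) * X (sp i) t⁻¹ := by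
  have h1 : hG (sp i) t⁻¹ = X (sp i) t⁻¹ * X (47 - sp i) t * X (sp i) t⁻¹ * nG K (sp i) := by
    unfold hG hW nG
    simp only [W_cons, W_nil, mul_one, inv_inv, CharTwo.neg_eq, inv_one, mul_assoc]
  rw [h1]
  have h2 := X_mul_self (K := K) (sp i) t⁻¹
  have h3 := nG_mul_self (K := K) i hi
  calc X (47 - sp i) t = (X (sp i) t⁻¹ * X (sp i) t⁻¹) * X (47 - sp i) t *
      (X (sp i) t⁻¹ * (nG K (sp i) * nG K (sp i)) * X (sp i) t⁻¹) := by
        rw [h2, h3, mul_one, h2, one_mul, mul_one]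
    _ = _ := by group

/-! ### Bruhat decomposition of the parabolic subgroups -/

section Bruhat

variable (hHX : ∀ h ∈ chevF4.diagonalSubgroup K, ∀ r < 48, ∀ t : K, ∃ t' : K,
  h * X r t * h⁻¹ = X r t')

include hHX

theorem H_norm_GA (A : ℕ → Bool) : ∀ h ∈ chevF4.diagonalSubgroup K, ∀ x ∈ GA K A,
    h * x * h⁻¹ ∈ GA K A := by
  intro h hh
  apply conj_GA
  intro r hr hA t
  obtain ⟨t', ht'⟩ := hHX h hh r hr t
  rw [ht']
  exact X_mem_GA hr hA t'

theorem H_le_normalizer (A : ℕ → Bool) :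
    chevF4.diagonalSubgroup K ≤ Subgroup.normalizer (GA K A : Set (GL chevF4.Idx K)) := by
  intro h hh
  rw [Subgroup.mem_normalizer_iff]
  intro x
  constructor
  · exact fun hx => H_norm_GA hHX A h hh x hx
  · intro hx
    have h1 := H_norm_GA hHX A h⁻¹ ((chevF4.diagonalSubgroup K).inv_mem hh) _ hx
    have h2 : h⁻¹ * (h * x * h⁻¹) * h⁻¹⁻¹ = x := by group
    rwa [h2] at h1

theorem mem_borel_iff (g : GL chevF4.Idx K) : g ∈ chevF4.borelSubgroup K ↔
    ∃ u ∈ GA K posB, ∃ h ∈ chevF4.diagonalSubgroup K, g = u * h := by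
  have h1 : ((chevF4.borelSubgroup K : Subgroup (GL chevF4.Idx K)) : Set (GL chevF4.Idx K)) =
      (GA K posB : Set (GL chevF4.Idx K)) * (chevF4.diagonalSubgroup K : Set (GL chevF4.Idx K)) := by
    unfold ChevalleyDatum.borelSubgroup
    rw [posUnipotent_eq]
    exact Subgroup.coe_mul_of_right_le_normalizer_left _ _ (H_le_normalizer hHX posB)
  rw [← SetLike.mem_coe, h1]
  constructor
  · rintro ⟨u, hu, h, hh, rfl⟩
    exact ⟨u, hu, h, hh, rfl⟩
  · rintro ⟨u, hu, h, hh, rfl⟩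
    exact ⟨u, hu, h, hh, rfl⟩

omit hHX in
theorem U_le_borel : GA K posB ≤ chevF4.borelSubgroup K := by
  rw [← posUnipotent_eq]; exact le_sup_left

omit hHX in
theorem H_le_borel : chevF4.diagonalSubgroup K ≤ chevF4.borelSubgroup K := le_sup_right

/-- `n_p b m ∈ B n_p m B ∪ B m B` -/
theorem step (i : ℕ) (hi : i < 4) (m : GL chevF4.Idx K) (π : ℕ → ℕ) (hm : Act m⁻¹ π)
    (b : GL chevF4.Idx K) (hb : b ∈ chevF4.borelSubgroup K) :
    (∃ b1 ∈ chevF4.borelSubgroup K, ∃ b2 ∈ chevF4.borelSubgroup K,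
      nG K (sp i) * b * m = b1 * (nG K (sp i) * m) * b2) ∨
    (∃ b1 ∈ chevF4.borelSubgroup K, ∃ b2 ∈ chevF4.borelSubgroup K,
      nG K (sp i) * b * m = b1 * m * b2) := by
  obtain ⟨u, hu, h, hh, hb1⟩ := (mem_borel_iff hHX b⁻¹).1 ((chevF4.borelSubgroup K).inv_mem hb)
  obtain ⟨v, hv, x, hx, hux⟩ := decomp_simple i hi u⁻¹ ((GA K posB).inv_mem hu)
  obtain ⟨t, rfl⟩ := mem_GA_sp i x hx
  have hb2 : b = h⁻¹ * (v * X (sp i) t) := by
    rw [← hux, ← mul_inv_rev, ← hb1, inv_inv]
  have hAn := Act_nG (K := K) i hi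
  have h1 : nG K (sp i) * h⁻¹ * (nG K (sp i))⁻¹ ∈ chevF4.borelSubgroup K :=
    H_le_borel (Act_conj_H hAn _ ((chevF4.diagonalSubgroup K).inv_mem hh))
  have h2 : nG K (sp i) * v * (nG K (sp i))⁻¹ ∈ chevF4.borelSubgroup K := by
    apply U_le_borel
    refine Act_conj hAn (A := neB i) (B := posB) ?_ v hv
    intro r hr hA
    have h3 := (refl_fact i r hi hr).2.1 hA
    unfold neB at h3
    rw [Bool.and_eq_true] at h3
    exact h3.1
  set b' := (nG K (sp i) * h⁻¹ * (nG K (sp i))⁻¹) * (nG K (sp i) * v * (nG K (sp i))⁻¹) with hb'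
  have hb'B : b' ∈ chevF4.borelSubgroup K := (chevF4.borelSubgroup K).mul_mem h1 h2
  have key : nG K (sp i) * b * m = b' * (nG K (sp i) * X (sp i) t * m) := by
    rw [hb2, hb']
    group
  rw [key]
  obtain ⟨hneg, hpos, hlt⟩ := neg_lt_24 i hi
  by_cases hc : 24 ≤ π (sp i)
  · left
    refine ⟨b', hb'B, m⁻¹ * X (sp i) t * m, ?_, by group⟩
    have h3 := hm.2 (sp i) hlt t
    rw [inv_inv] at h3
    rw [h3]
    exact U_le_borel (X_mem_GA (hm.1 _ hlt).1 (decide_eq_true hc) t)
  · by_cases ht : t = 0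
    · left
      refine ⟨b', hb'B, 1, (chevF4.borelSubgroup K).one_mem, ?_⟩
      rw [ht, X_zero]
      group
    · right
      have hlt' : 47 - sp i < 48 := by omega
      have h5 : π (47 - sp i) = 47 - π (sp i) := (hm.1 _ hlt).2
      have h3 := hm.2 (47 - sp i) hlt' t⁻¹
      rw [inv_inv, h5] at h3
      have h4 : X (47 - π (sp i)) t⁻¹ ∈ chevF4.borelSubgroup K := by
        apply U_le_borel
        apply X_mem_GA
        · omega
        · exact decide_eq_true (by omega)
      refine ⟨b' * (X (sp i) t⁻¹ * hG (sp i) t⁻¹), ?_, X (47 - π (sp i)) t⁻¹, h4, ?_⟩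
      · refine (chevF4.borelSubgroup K).mul_mem hb'B ((chevF4.borelSubgroup K).mul_mem ?_ ?_)
        · exact U_le_borel (X_mem_GA hlt (decide_eq_true hpos) _)
        · exact H_le_borel (hG_mem _ hlt _ (inv_ne_zero ht))
      · have h6 : nG K (sp i) * X (sp i) t = X (47 - sp i) t * nG K (sp i) := by
          rw [nG_mul_X i (sp i) hi hlt, (refl_fact i (sp i) hi hlt).2.2.1]
        have h7 : nG K (sp i) * X (sp i) t⁻¹ = X (47 - sp i) t⁻¹ * nG K (sp i) := by
          rw [nG_mul_X i (sp i) hi hlt, (refl_fact i (sp i) hi hlt).2.2.1]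
        have h8 := nG_mul_self (K := K) i hi
        rw [h6, X_neg_eq i hi t ht, ← h3]
        calc b' * (X (sp i) t⁻¹ * hG (sp i) t⁻¹ * nG K (sp i) * X (sp i) t⁻¹ * nG K (sp i) * m)
            = b' * (X (sp i) t⁻¹ * hG (sp i) t⁻¹) * (nG K (sp i) * X (sp i) t⁻¹) * nG K (sp i) * m := by
              group
          _ = b' * (X (sp i) t⁻¹ * hG (sp i) t⁻¹) * X (47 - sp i) t⁻¹ *
                (nG K (sp i) * nG K (sp i)) * m := by rw [h7]; group
          _ = b' * (X (sp i) t⁻¹ * hG (sp i) t⁻¹) * m * (m⁻¹ * X (47 - sp i) t⁻¹ * m) := by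
              rw [h8]; group

/-- Bruhat decomposition of the group generated by `B` and the `n_i`, `i ∈ J` -/
theorem levi_bruhat (J : List ℕ) (L : List (List ℕ)) (hc : chkClosed J L = true)
    (hJ : ∀ i ∈ J, i < 4) (hL : ∀ w ∈ L, ∀ i ∈ w, i < 4) (hnil : [] ∈ L)
    (g : GL chevF4.Idx K)
    (hg : g ∈ Subgroup.closure ((chevF4.borelSubgroup K : Set (GL chevF4.Idx K)) ∪
      {x | ∃ i ∈ J, x = nG K (sp i)})) :
    ∃ w ∈ L, ∃ b ∈ chevF4.borelSubgroup K, ∃ b' ∈ chevF4.borelSubgroup K, g = b * NW K w * b' := by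
  have key : ∀ x ∈ ((chevF4.borelSubgroup K : Set (GL chevF4.Idx K)) ∪
      {x | ∃ i ∈ J, x = nG K (sp i)}), ∀ y : GL chevF4.Idx K,
      (∃ w ∈ L, ∃ b ∈ chevF4.borelSubgroup K, ∃ b' ∈ chevF4.borelSubgroup K, y = b * NW K w * b') →
      ∃ w ∈ L, ∃ b ∈ chevF4.borelSubgroup K, ∃ b' ∈ chevF4.borelSubgroup K,
        x * y = b * NW K w * b' := by
    rintro x (hx | ⟨i, hi, rfl⟩) y ⟨w, hw, b, hb, b', hb', rfl⟩
    · exact ⟨w, hw, x * b, (chevF4.borelSubgroup K).mul_mem hx hb, b', hb', by group⟩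
    · obtain ⟨π, hπ⟩ := Act_NW_inv (K := K) w (hL w hw)
      rcases step hHX i (hJ i hi) (NW K w) π hπ b hb with
        ⟨b1, hb1, b2, hb2, h⟩ | ⟨b1, hb1, b2, hb2, h⟩
      · obtain ⟨w', hw', h2⟩ := nG_mul_NW_mem (K := K) J L hc i hi w hw
        refine ⟨w', hw', b1, hb1, b2 * b', (chevF4.borelSubgroup K).mul_mem hb2 hb', ?_⟩
        calc nG K (sp i) * (b * NW K w * b') = (nG K (sp i) * b * NW K w) * b' := by group
          _ = _ := by rw [h, h2]; group
      · refine ⟨w, hw, b1, hb1, b2 * b', (chevF4.borelSubgroup K).mul_mem hb2 hb', ?_⟩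
        calc nG K (sp i) * (b * NW K w * b') = (nG K (sp i) * b * NW K w) * b' := by group
          _ = _ := by rw [h]; group
  induction hg using Subgroup.closure_induction_left with
  | one => exact ⟨[], hnil, 1, (chevF4.borelSubgroup K).one_mem, 1,
      (chevF4.borelSubgroup K).one_mem, by simp [NW]⟩
  | mul_left x hx y _ ih => exact key x hx y ih
  | inv_mul_cancel x hx y _ ih =>
    rcases hx with hx | ⟨i, hi, rfl⟩
    · exact key x⁻¹ (Or.inl ((chevF4.borelSubgroup K).inv_mem hx)) y ih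
    · rw [nG_inv i (hJ i hi)]
      exact key _ (Or.inr ⟨i, hi, rfl⟩) y ih

end Bruhat

/-! ### consequences for `Fix` -/

section FixPart

variable [Finite K]

theorem borel_le_BB : chevF4.borelSubgroup K ≤ BB K := by
  unfold ChevalleyDatum.borelSubgroup
  rw [posUnipotent_eq]
  exact sup_le ((GA_pos_le_UU (fun r _ h => of_decide_eq_true h)).trans UU_le_BB)
    (diag_le_DD.trans DD_le_BB)

omit [CharP K 2] [Finite K] in
theorem corner_zero {T M T' : Matrix (Fin 26) (Fin 26) K} (hT : LowT T) (hT' : LowT T')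
    (i j : Fin 26) (h : ∀ k l : Fin 26, k ≤ i → j ≤ l → M k l = 0) : (T * M * T') i j = 0 := by
  rw [Matrix.mul_apply]
  apply Finset.sum_eq_zero
  intro l _
  by_cases hl : l < j
  · rw [hT' l j hl, mul_zero]
  · rw [Matrix.mul_apply, Finset.sum_eq_zero, zero_mul]
    intro k _
    by_cases hk : i < k
    · rw [hT i k hk, zero_mul]
    · rw [h k l (not_lt.1 hk) (not_lt.1 hl), mul_zero]

theorem Amat_W1_apply (l : List ℕ) (hl : ∀ r ∈ l, r < 48) (i j : Fin 26) :
    Amat ((W1 K l : GL chevF4.Idx K) : Matrix chevF4.Idx chevF4.Idx K) i j =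
      if bitAt (mat1 l) (nthN ioN i) (nthN ioN j) then 1 else 0 := by
  rw [Amat_apply, coe_W1 l hl, sem_apply, pos_io, pos_io]
  rfl

theorem sp_bar (i : ℕ) (hi : i < 4) : bar (sp i) = sp (3 - i) ∧ bar (47 - sp i) = 47 - sp (3 - i) := by
  have h3 : i = 0 ∨ i = 1 ∨ i = 2 ∨ i = 3 := by omega
  rcases h3 with rfl | rfl | rfl | rfl <;> decide

theorem gam_letters (w : List ℕ) (hw : ∀ i ∈ w, i < 4) :
    gam ((letters w).map fun r => (r, (1 : K))) =
      (letters (w.map fun k => 3 - k)).map fun r => (r, (1 : K)) := by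
  induction w with
  | nil => rfl
  | cons i w ih =>
    have ih' := ih (fun j hj => hw j (List.mem_cons_of_mem _ hj))
    have h1 := sp_bar i (hw i List.mem_cons_self)
    have h2 : letters (i :: w) = [sp i, 47 - sp i, sp i] ++ letters w := rfl
    have h3 : letters ((i :: w).map fun k => 3 - k) =
      [sp (3 - i), 47 - sp (3 - i), sp (3 - i)] ++ letters (w.map fun k => 3 - k) := rfl
    have h4 : ∀ r : ℕ, lam r (1 : K) = 1 := fun r => by unfold lam; split <;> simp
    rw [h2, h3, List.map_append, List.map_append, ← ih']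
    unfold gam
    rw [List.map_append]
    simp only [List.map_cons, List.map_nil, h1.1, h1.2, h4]

theorem Cmat_NW (w : List ℕ) (hw : ∀ i ∈ w, i < 4) :
    Cmat ((NW K w : GL chevF4.Idx K) : Matrix chevF4.Idx chevF4.Idx K) =
      Amat ((NW K (w.map fun k => 3 - k) : GL chevF4.Idx K) : Matrix chevF4.Idx chevF4.Idx K) := by
  rw [NW_eq_W1, NW_eq_W1]
  unfold W1
  rw [Cmat_W, gam_letters w hw]
  intro p hp
  rw [List.mem_map] at hp
  obtain ⟨r, hr, rfl⟩ := hp
  exact letters_lt w r hr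

theorem Amat_NW_map (φ : K →+* K) (w : List ℕ) :
    (Amat ((NW K w : GL chevF4.Idx K) : Matrix chevF4.Idx chevF4.Idx K)).map φ =
      Amat ((NW K w : GL chevF4.Idx K) : Matrix chevF4.Idx chevF4.Idx K) := by
  rw [NW_eq_W1]
  unfold W1
  rw [Amat_W_map]
  congr 3
  unfold phiW
  rw [List.map_map]
  apply List.map_congr_left
  intro r _
  simp

/-- if `b n_w b' ∈ Fix` then `w` is `[]` or the longest word -/
theorem word_of_Fix (φ : K →+* K) (L : List (List ℕ)) (w0 : List ℕ) (hc : chkCorner L w0 = true)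
    (hL : ∀ w ∈ L, ∀ i ∈ w, i < 4) (w : List ℕ) (hw : w ∈ L) (b b' : GL chevF4.Idx K)
    (hb : b ∈ BB K) (hb' : b' ∈ BB K) (h : b * NW K w * b' ∈ Fix φ) : w = [] ∨ w = w0 := by
  unfold chkCorner at hc
  rw [List.all_eq_true] at hc
  have h1 := hc w hw
  simp only [Bool.or_eq_true, decide_eq_true_eq, List.any_eq_true] at h1
  rcases h1 with h1 | ⟨i, hi, j, hj, h1⟩
  · exact h1
  · exfalso
    rw [List.mem_range] at hi hj
    unfold corner at h1
    rw [Bool.and_eq_true, List.all_eq_true] at h1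
    obtain ⟨h2, h3⟩ := h1
    have hNB : NW K w ∈ BlkG K := by rw [NW_eq_W1]; exact W_mem_BlkG _
    have hNB' : Blk ((NW K w : GL chevF4.Idx K) : Matrix chevF4.Idx chevF4.Idx K) := hNB
    have hFix := ((mem_Fix φ _).1 h).2
    rw [Units.val_mul, Units.val_mul, Cmat_mul (Blk_mul hb.1 hNB'), Cmat_mul hb.1,
      Amat_mul hb'.1, Amat_mul hNB', Matrix.map_mul, Matrix.map_mul, Amat_NW_map,
      Cmat_NW w (hL w hw)] at hFix
    have hbi := (BB K).inv_mem hb
    have hbi' := (BB K).inv_mem hb'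
    have e1 : Cmat ((b⁻¹ : GL chevF4.Idx K) : Matrix chevF4.Idx chevF4.Idx K) *
        Cmat (b : Matrix chevF4.Idx chevF4.Idx K) = 1 := by
      rw [← Cmat_mul hbi.1, ← Units.val_mul, inv_mul_cancel, Units.val_one, Cmat_one]
    have e2 : Cmat (b' : Matrix chevF4.Idx chevF4.Idx K) *
        Cmat ((b'⁻¹ : GL chevF4.Idx K) : Matrix chevF4.Idx chevF4.Idx K) = 1 := by
      rw [← Cmat_mul hb'.1, ← Units.val_mul, mul_inv_cancel, Units.val_one, Cmat_one]
    have key : Amat ((NW K (w.map fun k => 3 - k) : GL chevF4.Idx K) :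
        Matrix chevF4.Idx chevF4.Idx K) =
        (Cmat ((b⁻¹ : GL chevF4.Idx K) : Matrix chevF4.Idx chevF4.Idx K) *
          (Amat (b : Matrix chevF4.Idx chevF4.Idx K)).map φ) *
        Amat ((NW K w : GL chevF4.Idx K) : Matrix chevF4.Idx chevF4.Idx K) *
        ((Amat (b' : Matrix chevF4.Idx chevF4.Idx K)).map φ *
          Cmat ((b'⁻¹ : GL chevF4.Idx K) : Matrix chevF4.Idx chevF4.Idx K)) := by
      set P := Amat ((NW K (w.map fun k => 3 - k) : GL chevF4.Idx K) :
        Matrix chevF4.Idx chevF4.Idx K)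
      calc P = (Cmat ((b⁻¹ : GL chevF4.Idx K) : Matrix chevF4.Idx chevF4.Idx K) *
          Cmat (b : Matrix chevF4.Idx chevF4.Idx K)) * P *
          (Cmat (b' : Matrix chevF4.Idx chevF4.Idx K) *
            Cmat ((b'⁻¹ : GL chevF4.Idx K) : Matrix chevF4.Idx chevF4.Idx K)) := by
            rw [e1, e2, Matrix.one_mul, Matrix.mul_one]
        _ = Cmat ((b⁻¹ : GL chevF4.Idx K) : Matrix chevF4.Idx chevF4.Idx K) *
          (Cmat (b : Matrix chevF4.Idx chevF4.Idx K) * P *
          Cmat (b' : Matrix chevF4.Idx chevF4.Idx K)) *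
            Cmat ((b'⁻¹ : GL chevF4.Idx K) : Matrix chevF4.Idx chevF4.Idx K) := by
            simp only [Matrix.mul_assoc]
        _ = _ := by rw [hFix]; simp only [Matrix.mul_assoc]
    have hz : Amat ((NW K (w.map fun k => 3 - k) : GL chevF4.Idx K) :
        Matrix chevF4.Idx chevF4.Idx K) ⟨i, hi⟩ ⟨j, hj⟩ = 0 := by
      rw [key]
      apply corner_zero (LowT_mul hbi.2.2 (LowT_map φ hb.2.1)) (LowT_mul (LowT_map φ hb'.2.1) hbi'.2.2)
      intro k l hk hl
      rw [NW_eq_W1, Amat_W1_apply _ (letters_lt w)]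
      have h4 := h3 k.val (List.mem_range.2 k.2)
      rw [List.all_eq_true] at h4
      have h5 := h4 l.val (List.mem_range.2 l.2)
      have hk' : k.val ≤ i := hk
      have hl' : j ≤ l.val := hl
      simp only [hk', hl', decide_true, Bool.and_self, Bool.not_true, Bool.false_or,
        Bool.not_eq_true'] at h5
      rw [h5]
      simp
    rw [NW_eq_W1, Amat_W1_apply _ (letters_lt _)] at hz
    have h2' : bitAt (mat1 (letters (w.map fun k => 3 - k))) (nthN ioN ((⟨i, hi⟩ : Fin 26) : ℕ))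
      (nthN ioN ((⟨j, hj⟩ : Fin 26) : ℕ)) = true := h2
    rw [h2'] at hz
    simp at hz

end FixPart

end Cfsg.Agent.ChevalleyStructure.TwF4.RankOne
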