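import Cfsg.Agent.ChevalleyStructure.TwF4.Tables

/-!
Root elements `X r t` of type `F₄` over a field of characteristic 2 as elements of `GL`, with all
relations between positive root elements and conjugation by the elements `n_p`.
-/

set_option autoImplicit false
set_option linter.unusedSectionVars false

namespace Cfsg.Agent.ChevalleyStructure.TwF4.Rel

open Cfsg.Lie Cfsg.Agent.ChevalleyStructure.TwF4.Bits Cfsg.Agent.ChevalleyStructure.TwF4.Tables

/-- lookup in a list of numbers by structural recursion -/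
def nthN : List ℕ → ℕ → ℕ
  | [], _ => 0
  | a :: _, 0 => a
  | _ :: l, n + 1 => nthN l n

/-- lookup in a list of lists of lists -/
def nth2 {α : Type} : List (List (List α)) → ℕ → List (List α)
  | [], _ => []
  | a :: _, 0 => a
  | _ :: l, n + 1 => nth2 l n

/-- for positive roots `r ≠ s` (indices `24, …, 47`) the letters `(k, a, b)` with
`x_r(t) x_s(u) = x_s(u) (∏ x_k(t^a u^b)) x_r(t)`; entry `[r - 24][s - 24]` -/
def tabC : List (List (List (ℕ × ℕ × ℕ))) := [
  [[], [(26, 1, 1)], [], [], [(29, 1, 1), (32, 1, 2)], [], [(31, 1, 1)], [], [], [], [], [(36, 1, 1), (43, 1, 2)], [], [(38, 1, 1), (45, 1, 2)], [], [], [], [(42, 1, 1)], [], [], [], [], [(47, 1, 1)], []],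
  [[(26, 1, 1)], [], [], [(28, 1, 1), (30, 1, 2)], [], [], [], [(32, 1, 1)], [], [], [(35, 1, 1), (41, 1, 2)], [], [], [], [(39, 1, 1), (47, 1, 2)], [], [], [], [(43, 1, 1)], [], [], [(46, 1, 1)], [], []],
  [[], [], [], [(29, 1, 1), (31, 1, 2)], [], [], [(32, 1, 1)], [], [], [], [(36, 1, 1), (42, 1, 2)], [], [], [(39, 1, 1), (46, 1, 2)], [], [], [], [(43, 1, 1)], [], [], [], [(47, 1, 1)], [], []],
  [[], [(28, 1, 1), (30, 2, 1)], [(29, 1, 1), (31, 2, 1)], [], [], [], [], [], [], [(34, 1, 1)], [], [(37, 1, 1)], [(38, 1, 1)], [], [], [(40, 1, 1)], [], [], [], [(44, 1, 1), (45, 2, 1)], [], [], [], []],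
  [[(29, 1, 1), (32, 2, 1)], [], [], [], [], [], [], [], [], [(35, 1, 1)], [(37, 1, 1)], [], [(39, 1, 1)], [], [(40, 1, 1)], [], [], [], [(44, 1, 1), (46, 2, 1)], [], [], [], [], []],
  [[], [], [], [], [], [], [], [], [], [(36, 1, 1)], [(38, 1, 1)], [(39, 1, 1)], [], [(40, 1, 1)], [], [], [], [(44, 1, 1), (47, 2, 1)], [], [], [], [], [], []],
  [[(31, 1, 1)], [], [(32, 1, 1)], [], [], [], [], [], [], [(37, 1, 1), (41, 1, 2)], [], [], [(40, 1, 1), (47, 1, 2)], [], [], [], [], [], [(45, 1, 1)], [(46, 1, 1)], [], [], [], []],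
  [[], [(32, 1, 1)], [], [], [], [], [], [], [], [(38, 1, 1), (42, 1, 2)], [], [(40, 1, 1), (46, 1, 2)], [], [], [], [], [], [(45, 1, 1)], [], [(47, 1, 1)], [], [], [], []],
  [[], [], [], [], [], [], [], [], [], [(39, 1, 1), (43, 1, 2)], [(40, 1, 1), (45, 1, 2)], [], [], [], [], [], [], [(46, 1, 1)], [(47, 1, 1)], [], [], [], [], []],
  [[], [], [], [(34, 1, 1)], [(35, 1, 1)], [(36, 1, 1)], [(37, 1, 1), (41, 2, 1)], [(38, 1, 1), (42, 2, 1)], [(39, 1, 1), (43, 2, 1)], [], [], [], [], [], [], [], [(44, 1, 1)], [], [], [], [], [], [], []],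
  [[], [(35, 1, 1), (41, 2, 1)], [(36, 1, 1), (42, 2, 1)], [], [(37, 1, 1)], [(38, 1, 1)], [], [], [(40, 1, 1), (45, 2, 1)], [], [], [], [], [], [], [(44, 1, 1)], [], [], [], [], [], [], [], []],
  [[(36, 1, 1), (43, 2, 1)], [], [], [(37, 1, 1)], [], [(39, 1, 1)], [], [(40, 1, 1), (46, 2, 1)], [], [], [], [], [], [], [(44, 1, 1)], [], [], [], [], [], [], [], [], []],
  [[], [], [], [(38, 1, 1)], [(39, 1, 1)], [], [(40, 1, 1), (47, 2, 1)], [], [], [], [], [], [], [(44, 1, 1)], [], [], [], [], [], [], [], [], [], []],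
  [[(38, 1, 1), (45, 2, 1)], [], [(39, 1, 1), (46, 2, 1)], [], [], [(40, 1, 1)], [], [], [], [], [], [], [(44, 1, 1)], [], [], [], [], [], [], [], [], [], [], []],
  [[], [(39, 1, 1), (47, 2, 1)], [], [], [(40, 1, 1)], [], [], [], [], [], [], [(44, 1, 1)], [], [], [], [], [], [], [], [], [], [], [], []],
  [[], [], [], [(40, 1, 1)], [], [], [], [], [], [], [(44, 1, 1)], [], [], [], [], [], [], [], [], [], [], [], [], []],
  [[], [], [], [], [], [], [], [], [], [(44, 1, 1)], [], [], [], [], [], [], [], [], [], [], [], [], [], []],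
  [[(42, 1, 1)], [], [(43, 1, 1)], [], [], [(44, 1, 1), (47, 1, 2)], [], [(45, 1, 1)], [(46, 1, 1)], [], [], [], [], [], [], [], [], [], [], [], [], [], [], []],
  [[], [(43, 1, 1)], [], [], [(44, 1, 1), (46, 1, 2)], [], [(45, 1, 1)], [], [(47, 1, 1)], [], [], [], [], [], [], [], [], [], [], [], [], [], [], []],
  [[], [], [], [(44, 1, 1), (45, 1, 2)], [], [], [(46, 1, 1)], [(47, 1, 1)], [], [], [], [], [], [], [], [], [], [], [], [], [], [], [], []],
  [[], [], [], [], [], [], [], [], [], [], [], [], [], [], [], [], [], [], [], [], [], [], [], []],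
  [[], [(46, 1, 1)], [(47, 1, 1)], [], [], [], [], [], [], [], [], [], [], [], [], [], [], [], [], [], [], [], [], []],
  [[(47, 1, 1)], [], [], [], [], [], [], [], [], [], [], [], [], [], [], [], [], [], [], [], [], [], [], []],
  [[], [], [], [], [], [], [], [], [], [], [], [], [], [], [], [], [], [], [], [], [], [], [], []]]

/-- the reflection in the fundamental root p_1 (index 33) -/
def wT0 : List ℕ := [0, 1, 2, 7, 15, 16, 17, 3, 8, 9, 10, 18, 19, 20, 33, 4, 5, 6, 11, 12, 13, 21, 22, 23, 24, 25, 26, 34, 35, 36, 41, 42, 43, 14, 27, 28, 29, 37, 38, 39, 44, 30, 31, 32, 40, 45, 46, 47]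

/-- the reflection in the fundamental root p_2 (index 27) -/
def wT1 : List ℕ := [0, 1, 4, 3, 2, 5, 6, 8, 7, 11, 12, 9, 10, 14, 13, 15, 21, 22, 18, 19, 27, 16, 17, 23, 24, 30, 31, 20, 28, 29, 25, 26, 32, 34, 33, 37, 38, 35, 36, 40, 39, 41, 42, 45, 44, 43, 46, 47]

/-- the reflection in the fundamental root p_3 (index 25) -/
def wT2 : List ℕ := [0, 2, 1, 3, 5, 4, 6, 7, 9, 8, 10, 11, 13, 12, 14, 16, 15, 17, 18, 20, 19, 23, 25, 21, 26, 22, 24, 28, 27, 29, 30, 32, 31, 33, 35, 34, 36, 37, 39, 38, 40, 41, 43, 42, 44, 46, 45, 47]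

/-- the reflection in the fundamental root p_4 (index 24) -/
def wT3 : List ℕ := [1, 0, 2, 3, 4, 6, 5, 7, 8, 10, 9, 12, 11, 13, 14, 15, 17, 16, 19, 18, 20, 22, 21, 24, 23, 26, 25, 27, 29, 28, 31, 30, 32, 33, 34, 36, 35, 38, 37, 39, 40, 42, 41, 43, 44, 45, 47, 46]

/-- the longest element of the class `{p₁, p₄}` on root indices -/
def w1T : List ℕ := [1, 0, 2, 7, 15, 17, 16, 3, 8, 10, 9, 19, 18, 20, 33, 4, 6, 5, 12, 11, 13, 22, 21, 24, 23, 26, 25, 34, 36, 35, 42, 41, 43, 14, 27, 29, 28, 38, 37, 39, 44, 31, 30, 32, 40, 45, 47, 46]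

/-- the longest element of the class of `{p₂, p₃}` on root indices -/
def w2T : List ℕ := [0, 5, 4, 3, 2, 1, 6, 11, 9, 8, 14, 7, 13, 12, 10, 23, 21, 30, 18, 28, 27, 16, 25, 15, 32, 22, 31, 20, 19, 29, 17, 26, 24, 37, 35, 34, 40, 33, 39, 38, 36, 41, 46, 45, 44, 43, 42, 47]

/-- the root `r̄` corresponding to `r` under the exceptional symmetry -/
def barT : List ℕ := [3, 7, 8, 0, 9, 11, 18, 1, 2, 4, 15, 5, 16, 21, 23, 10, 12, 19, 6, 17, 22, 13, 20, 14, 33, 27, 34, 25, 30, 41, 28, 35, 37, 24, 26, 31, 42, 32, 43, 45, 46, 29, 36, 38, 47, 39, 40, 44]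

/-- the class (direction) `1, …, 16` of a root; positive roots have classes `1, …, 8` -/
def clsT : List ℕ := [12, 14, 13, 12, 11, 10, 12, 14, 13, 11, 15, 10, 14, 10, 9, 15, 14, 16, 12, 16, 16, 10, 16, 9, 1, 8, 2, 8, 8, 4, 8, 6, 7, 1, 2, 6, 2, 7, 3, 5, 6, 4, 2, 3, 4, 5, 6, 4]

/-- commutator letters -/
def cm (r s : ℕ) : List (ℕ × ℕ × ℕ) := nth (nth2 tabC (r - 24)) (s - 24)

/-- reflection of the root `r` in the fundamental root with number `i < 4` -/
def refl (i r : ℕ) : ℕ :=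
  match i with
  | 0 => nthN wT0 r
  | 1 => nthN wT1 r
  | 2 => nthN wT2 r
  | _ => nthN wT3 r

/-- index of the fundamental root with number `i < 4` -/
def sp (i : ℕ) : ℕ :=
  match i with
  | 0 => 33
  | 1 => 27
  | 2 => 25
  | _ => 24

/-- action of `n₁` on root indices -/
def w1 (r : ℕ) : ℕ := nthN w1T r
/-- action of `n₂` on root indices -/
def w2 (r : ℕ) : ℕ := nthN w2T r
/-- the symmetry `r ↦ r̄` -/
def bar (r : ℕ) : ℕ := nthN barT r
/-- the class of a root -/
def cls (r : ℕ) : ℕ := nthN clsT r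

/-! ### kernel checks -/

/-- additivity check -/
def chkAdd (r : ℕ) : Bool :=
  eqP (wordP [(r, 1, 0), (r, 0, 1)])
    (addP (wordP [(r, 1, 0)]) (addP (wordP [(r, 0, 1)]) [[idN]]))

theorem chkAdd_all : ((List.range 48).all chkAdd) = true := by decide +kernel

/-- commutator check -/
def chkC (r s : ℕ) : Bool := chkWord [(r, 1, 0), (s, 0, 1)] ((s, 0, 1) :: (cm r s ++ [(r, 1, 0)]))

theorem chkC_all : ((List.range 24).all fun r => (List.range 24).all fun s =>
    decide (r = s) || chkC (24 + r) (24 + s)) = true := by decide +kernel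

/-- letters of `n_p` -/
def nL (p : ℕ) : List (ℕ × ℕ × ℕ) := [(p, 0, 0), (47 - p, 0, 0), (p, 0, 0)]

/-- conjugation check -/
def chkN (i r : ℕ) : Bool := chkWord (nL (sp i) ++ [(r, 1, 0)]) ((refl i r, 1, 0) :: nL (sp i))

theorem chkN_all : ((List.range 4).all fun i => (List.range 48).all fun r => chkN i r) = true := by
  decide +kernel

theorem chkN_sq : ((List.range 4).all fun i => chkWord (nL (sp i) ++ nL (sp i)) []) = true := by
  decide +kernel

theorem chkN_braid :
    (chkWord (nL 33 ++ nL 24) (nL 24 ++ nL 33) &&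
      chkWord (nL 27 ++ nL 25 ++ nL 27 ++ nL 25) (nL 25 ++ nL 27 ++ nL 25 ++ nL 27)) = true := by
  decide +kernel

/-! ### group elements -/

variable {K : Type*} [Field K] [CharP K 2]

theorem x_ge (r : ℕ) (hr : ¬ r < 48) (t : K) : chevF4.x K r t = 1 := by
  unfold ChevalleyDatum.x
  exact dif_neg hr

theorem add_self' {I : Type*} (A : Matrix I I K) : A + A = 0 := by
  ext i j
  rw [Matrix.add_apply, Matrix.zero_apply, CharTwo.add_self_eq_zero]

theorem x_add (r : ℕ) (t u : K) :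
    chevF4.x K r t * chevF4.x K r u = chevF4.x K r (t + u) := by
  by_cases hr : r < 48
  · have h := chkAdd_all
    rw [List.all_eq_true] at h
    have h1 := h r (List.mem_range.2 hr)
    unfold chkAdd at h1
    have h2 := ev_eq_of_eqP (pos := pos) t u _ _ h1
    have e1 : ev pos t u (wordP [(r, 1, 0), (r, 0, 1)]) = chevF4.x K r t * chevF4.x K r u := by
      rw [ev_wordP t u _ (by simp [hr])]
      simp [wordK, ChevalleyDatum.wordMat]
    have e2 : ev pos t u (wordP [(r, 1, 0)]) = chevF4.x K r t := by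
      rw [ev_wordP t u _ (by simp [hr])]
      simp [wordK, ChevalleyDatum.wordMat]
    have e3 : ev pos t u (wordP [(r, 0, 1)]) = chevF4.x K r u := by
      rw [ev_wordP t u _ (by simp [hr])]
      simp [wordK, ChevalleyDatum.wordMat]
    rw [ev_add, ev_add, e1, e2, e3, ev_idP] at h2
    rw [h2, x_eq r hr, x_eq r hr, x_eq r hr, add_smul]
    have h3 : (t + u) ^ 2 = t ^ 2 + u ^ 2 := CharTwo.add_sq t u
    rw [h3, add_smul]
    have h4 := add_self' (K := K) (1 : Matrix chevF4.Idx chevF4.Idx K)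
    calc _ = (1 + 1) + (1 + (t • semS pos K (Els r) + u • semS pos K (Els r)) +
        (t ^ 2 • semS pos K (Fls r) + u ^ 2 • semS pos K (Fls r))) := by abel
      _ = _ := by rw [h4, zero_add]
  · rw [x_ge r hr, x_ge r hr, x_ge r hr, Matrix.one_mul]

theorem x_zero (r : ℕ) : chevF4.x K r 0 = 1 := by
  by_cases hr : r < 48
  · rw [x_eq r hr]; simp
  · exact x_ge r hr 0

theorem x_mul_self (r : ℕ) (t : K) : chevF4.x K r t * chevF4.x K r t = 1 := by
  rw [x_add, CharTwo.add_self_eq_zero, x_zero]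

/-- the root element `x_r(t)` in `GL` -/
def X (r : ℕ) (t : K) : GL chevF4.Idx K where
  val := chevF4.x K r t
  inv := chevF4.x K r t
  val_inv := x_mul_self r t
  inv_val := x_mul_self r t

@[simp] theorem coe_X (r : ℕ) (t : K) :
    ((X r t : GL chevF4.Idx K) : Matrix chevF4.Idx chevF4.Idx K) = chevF4.x K r t := rfl

theorem eq_X_iff (g : GL chevF4.Idx K) (r : ℕ) (t : K) :
    g = X r t ↔ (g : Matrix chevF4.Idx chevF4.Idx K) = chevF4.x K r t := by
  rw [← coe_X]
  exact Units.ext_iff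

theorem X_add (r : ℕ) (t u : K) : X r t * X r u = X r (t + u) := Units.ext (x_add r t u)

theorem X_zero (r : ℕ) : X r (0 : K) = 1 := Units.ext (x_zero r)

theorem X_inv (r : ℕ) (t : K) : (X r t)⁻¹ = X r t := by
  rw [inv_eq_iff_mul_eq_one, X_add, CharTwo.add_self_eq_zero, X_zero]

theorem X_mul_self (r : ℕ) (t : K) : X r t * X r t = 1 := by
  rw [X_add, CharTwo.add_self_eq_zero, X_zero]

/-- the product of a word in `GL` -/
def W (w : List (ℕ × K)) : GL chevF4.Idx K := (w.map fun p => X p.1 p.2).prod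

@[simp] theorem W_nil : W ([] : List (ℕ × K)) = 1 := rfl

theorem W_cons (p : ℕ × K) (w : List (ℕ × K)) : W (p :: w) = X p.1 p.2 * W w := by
  simp [W]

theorem W_append (w w' : List (ℕ × K)) : W (w ++ w') = W w * W w' := by
  simp [W]

theorem coe_W (w : List (ℕ × K)) :
    ((W w : GL chevF4.Idx K) : Matrix chevF4.Idx chevF4.Idx K) = chevF4.wordMat K w := by
  induction w with
  | nil => rfl
  | cons p w ih =>
    rw [W_cons, Units.val_mul, ih, coe_X]
    unfold ChevalleyDatum.wordMat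
    rw [List.map_cons, List.prod_cons]

theorem W_eq_of_chkWord (w w' : List (ℕ × ℕ × ℕ)) (h : chkWord w w' = true) (t u : K) :
    W (wordK t u w) = W (wordK t u w') := by
  apply Units.ext
  rw [coe_W, coe_W]
  exact wordMat_eq_of_chkWord w w' h t u

/-- commutator relations for positive roots -/
theorem comm_rel (r s : ℕ) (hr : 24 ≤ r) (hr' : r < 48) (hs : 24 ≤ s) (hs' : s < 48) (hrs : r ≠ s)
    (t u : K) : X r t * X s u = X s u * W (wordK t u (cm r s)) * X r t := by
  have h := chkC_all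
  rw [List.all_eq_true] at h
  have h1 := h (r - 24) (List.mem_range.2 (by omega))
  rw [List.all_eq_true] at h1
  have h2 := h1 (s - 24) (List.mem_range.2 (by omega))
  have e1 : 24 + (r - 24) = r := by omega
  have e2 : 24 + (s - 24) = s := by omega
  have e3 : ¬ (r - 24 = s - 24) := by omega
  rw [e1, e2, Bool.or_eq_true] at h2
  have h3 : chkC r s = true := by
    rcases h2 with h2 | h2
    · exact absurd (of_decide_eq_true h2) e3
    · exact h2
  have h4 := W_eq_of_chkWord _ _ h3 t u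
  have e4 : wordK t u [(r, 1, 0), (s, 0, 1)] = [(r, t), (s, u)] := by simp [wordK]
  have e5 : wordK t u ((s, 0, 1) :: (cm r s ++ [(r, 1, 0)])) =
      (s, u) :: (wordK t u (cm r s) ++ [(r, t)]) := by simp [wordK]
  rw [e4, e5, W_cons, W_cons, W_cons, W_append, W_cons] at h4
  simpa [mul_assoc] using h4

/-- the element `n_r(1) = x_r(1) x_{-r}(1) x_r(1)` (characteristic 2) -/
def nG (K : Type*) [Field K] [CharP K 2] (r : ℕ) : GL chevF4.Idx K :=
  X r 1 * X (47 - r) 1 * X r 1

theorem W_nL (t u : K) (r : ℕ) : W (wordK t u (nL r)) = nG K r := by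
  simp [wordK, nL, W_cons, nG, mul_assoc]

theorem wordK_append (t u : K) (w w' : List (ℕ × ℕ × ℕ)) :
    wordK t u (w ++ w') = wordK t u w ++ wordK t u w' := by
  simp [wordK]

/-- conjugation of a root element by `n_p`, `p` fundamental -/
theorem nG_mul_X (i r : ℕ) (hi : i < 4) (hr : r < 48) (t : K) :
    nG K (sp i) * X r t = X (refl i r) t * nG K (sp i) := by
  have h := chkN_all
  rw [List.all_eq_true] at h
  have h1 := h i (List.mem_range.2 hi)
  rw [List.all_eq_true] at h1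
  have h2 := h1 r (List.mem_range.2 hr)
  have h4 := W_eq_of_chkWord _ _ h2 t 1
  have e1 : wordK t 1 ((refl i r, 1, 0) :: nL (sp i)) = (refl i r, t) :: wordK t 1 (nL (sp i)) := by
    simp [wordK]
  have e2 : wordK t 1 [(r, 1, 0)] = [(r, t)] := by simp [wordK]
  rw [wordK_append, W_append, e1, W_cons, W_nL, e2, W_cons, W_nil, mul_one] at h4
  exact h4

theorem nG_mul_self (i : ℕ) (hi : i < 4) : nG K (sp i) * nG K (sp i) = 1 := by
  have h := chkN_sq
  rw [List.all_eq_true] at h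
  have h1 := W_eq_of_chkWord _ _ (h i (List.mem_range.2 hi)) (1 : K) 1
  rw [wordK_append, W_append, W_nL] at h1
  exact h1

theorem nG_inv (i : ℕ) (hi : i < 4) : (nG K (sp i))⁻¹ = nG K (sp i) := by
  rw [inv_eq_iff_mul_eq_one, nG_mul_self i hi]

theorem nG_conj (i r : ℕ) (hi : i < 4) (hr : r < 48) (t : K) :
    nG K (sp i) * X r t * (nG K (sp i))⁻¹ = X (refl i r) t := by
  rw [nG_mul_X i r hi hr, mul_inv_cancel_right]

/-- `n_{p₁}` and `n_{p₄}` commute -/
theorem nG_comm : nG K 33 * nG K 24 = nG K 24 * nG K 33 := by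
  have h := chkN_braid
  rw [Bool.and_eq_true] at h
  have h1 := W_eq_of_chkWord _ _ h.1 (1 : K) 1
  rw [wordK_append, wordK_append, W_append, W_append, W_nL, W_nL] at h1
  exact h1

/-- braid relation for `n_{p₂}`, `n_{p₃}` -/
theorem nG_braid : nG K 27 * nG K 25 * nG K 27 * nG K 25 = nG K 25 * nG K 27 * nG K 25 * nG K 27 := by
  have h := chkN_braid
  rw [Bool.and_eq_true] at h
  have h1 := W_eq_of_chkWord _ _ h.2 (1 : K) 1
  simp only [wordK_append, W_append, W_nL] at h1
  exact h1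

/-- `n₁ = n_{p₁} n_{p₄}` -/
def n1 (K : Type*) [Field K] [CharP K 2] : GL chevF4.Idx K := nG K 33 * nG K 24

/-- `n₂ = n_{p₂} n_{p₃} n_{p₂} n_{p₃}` -/
def n2 (K : Type*) [Field K] [CharP K 2] : GL chevF4.Idx K :=
  nG K 27 * nG K 25 * nG K 27 * nG K 25

theorem refl_lt (i r : ℕ) (hi : i < 4) (hr : r < 48) : refl i r < 48 := by
  have h : ((List.range 4).all fun i => (List.range 48).all fun r => decide (refl i r < 48)) = true := by
    decide +kernel
  rw [List.all_eq_true] at h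
  have h1 := h i (List.mem_range.2 hi)
  rw [List.all_eq_true] at h1
  exact of_decide_eq_true (h1 r (List.mem_range.2 hr))

theorem w_tab : ((List.range 48).all fun r =>
    decide (w1 r = refl 0 (refl 3 r)) && decide (w2 r = refl 1 (refl 2 (refl 1 (refl 2 r)))) &&
      decide (w1 r < 48) && decide (w2 r < 48) && decide (bar r < 48)) = true := by
  decide +kernel

theorem w1_eq (r : ℕ) (hr : r < 48) : w1 r = refl 0 (refl 3 r) := by
  have h := w_tab
  rw [List.all_eq_true] at h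
  have h1 := h r (List.mem_range.2 hr)
  simp only [Bool.and_eq_true, decide_eq_true_eq] at h1
  exact h1.1.1.1.1

theorem w2_eq (r : ℕ) (hr : r < 48) : w2 r = refl 1 (refl 2 (refl 1 (refl 2 r))) := by
  have h := w_tab
  rw [List.all_eq_true] at h
  have h1 := h r (List.mem_range.2 hr)
  simp only [Bool.and_eq_true, decide_eq_true_eq] at h1
  exact h1.1.1.1.2

theorem w1_lt (r : ℕ) (hr : r < 48) : w1 r < 48 := by
  have h := w_tab
  rw [List.all_eq_true] at h
  have h1 := h r (List.mem_range.2 hr)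
  simp only [Bool.and_eq_true, decide_eq_true_eq] at h1
  exact h1.1.1.2

theorem w2_lt (r : ℕ) (hr : r < 48) : w2 r < 48 := by
  have h := w_tab
  rw [List.all_eq_true] at h
  have h1 := h r (List.mem_range.2 hr)
  simp only [Bool.and_eq_true, decide_eq_true_eq] at h1
  exact h1.1.2

theorem n1_mul_X (r : ℕ) (hr : r < 48) (t : K) : n1 K * X r t = X (w1 r) t * n1 K := by
  have h3 := nG_mul_X (K := K) 3 r (by omega) hr t
  have h0 := nG_mul_X (K := K) 0 (refl 3 r) (by omega) (refl_lt 3 r (by omega) hr) t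
  rw [w1_eq r hr]
  change nG K 24 * X r t = X (refl 3 r) t * nG K 24 at h3
  change nG K 33 * X (refl 3 r) t = X (refl 0 (refl 3 r)) t * nG K 33 at h0
  unfold n1
  rw [mul_assoc, h3, ← mul_assoc, h0, mul_assoc]

theorem n2_mul_X (r : ℕ) (hr : r < 48) (t : K) : n2 K * X r t = X (w2 r) t * n2 K := by
  have l1 := refl_lt 2 r (by omega) hr
  have l2 := refl_lt 1 _ (by omega) l1
  have l3 := refl_lt 2 _ (by omega) l2
  have h1 := nG_mul_X (K := K) 2 r (by omega) hr t
  have h2 := nG_mul_X (K := K) 1 (refl 2 r) (by omega) l1 t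
  have h3 := nG_mul_X (K := K) 2 (refl 1 (refl 2 r)) (by omega) l2 t
  have h4 := nG_mul_X (K := K) 1 (refl 2 (refl 1 (refl 2 r))) (by omega) l3 t
  rw [w2_eq r hr]
  change nG K 25 * X r t = X (refl 2 r) t * nG K 25 at h1
  change nG K 27 * X (refl 2 r) t = X (refl 1 (refl 2 r)) t * nG K 27 at h2
  change nG K 25 * X (refl 1 (refl 2 r)) t = X (refl 2 (refl 1 (refl 2 r))) t * nG K 25 at h3
  change nG K 27 * X (refl 2 (refl 1 (refl 2 r))) t =
    X (refl 1 (refl 2 (refl 1 (refl 2 r)))) t * nG K 27 at h4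
  unfold n2
  rw [mul_assoc, h1, ← mul_assoc, mul_assoc _ (nG K 27) (X _ t), h2, ← mul_assoc,
    mul_assoc _ (nG K 25) (X _ t), h3, ← mul_assoc, h4]
  simp only [mul_assoc]

theorem n1_mul_self : n1 K * n1 K = 1 := by
  have h0 := nG_mul_self (K := K) 0 (by omega)
  have h3 := nG_mul_self (K := K) 3 (by omega)
  change nG K 33 * nG K 33 = 1 at h0
  change nG K 24 * nG K 24 = 1 at h3
  unfold n1
  calc nG K 33 * nG K 24 * (nG K 33 * nG K 24) = nG K 33 * (nG K 24 * nG K 33) * nG K 24 := by group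
    _ = (nG K 33 * nG K 33) * (nG K 24 * nG K 24) := by rw [← nG_comm]; group
    _ = 1 := by rw [h0, h3, mul_one]

theorem n2_mul_self : n2 K * n2 K = 1 := by
  have h1 := nG_mul_self (K := K) 1 (by omega)
  have h2 := nG_mul_self (K := K) 2 (by omega)
  change nG K 27 * nG K 27 = 1 at h1
  change nG K 25 * nG K 25 = 1 at h2
  have h3 : n2 K * n2 K =
      nG K 25 * nG K 27 * nG K 25 * nG K 27 * (nG K 27 * nG K 25 * nG K 27 * nG K 25) :=
    congrArg (· * n2 K) nG_braid
  rw [h3]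
  calc nG K 25 * nG K 27 * nG K 25 * nG K 27 * (nG K 27 * nG K 25 * nG K 27 * nG K 25)
      = nG K 25 * nG K 27 * nG K 25 * (nG K 27 * nG K 27) * nG K 25 * nG K 27 * nG K 25 := by group
    _ = nG K 25 * nG K 27 * (nG K 25 * nG K 25) * nG K 27 * nG K 25 := by rw [h1]; group
    _ = nG K 25 * (nG K 27 * nG K 27) * nG K 25 := by rw [h2]; group
    _ = 1 := by rw [h1, mul_one, h2]

theorem n1_inv : (n1 K)⁻¹ = n1 K := by rw [inv_eq_iff_mul_eq_one, n1_mul_self]

theorem n2_inv : (n2 K)⁻¹ = n2 K := by rw [inv_eq_iff_mul_eq_one, n2_mul_self]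

theorem n1_conj (r : ℕ) (hr : r < 48) (t : K) : n1 K * X r t * (n1 K)⁻¹ = X (w1 r) t := by
  rw [n1_mul_X r hr, mul_inv_cancel_right]

theorem n2_conj (r : ℕ) (hr : r < 48) (t : K) : n2 K * X r t * (n2 K)⁻¹ = X (w2 r) t := by
  rw [n2_mul_X r hr, mul_inv_cancel_right]

end Cfsg.Agent.ChevalleyStructure.TwF4.Rel
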