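import Cfsg.Prelude.Def_ChevStructure
import Cfsg.Prelude.Def_ChevF4
import Cfsg.Agent.ChevalleyStructure.TwF4.Bits

/-!
The root elements of type `F₄` in characteristic 2: `x_r(t) = 1 + t E_r + t² F_r` with explicit
sparse `0/1`-matrices `E_r`, `F_r`.
-/

set_option autoImplicit false
set_option linter.unusedSectionVars false

namespace Cfsg.Agent.ChevalleyStructure.TwF4.Tables

open Cfsg.Lie Cfsg.Agent.ChevalleyStructure.TwF4.Bits

/-- positions of the ones of the coefficient of `t` in `x_r(t)` modulo 2 -/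
def tabE : List Sparse := [
  [(4, 3), (5, 28), (6, 30), (7, 33), (8, 35), (9, 36), (11, 40), (12, 42), (13, 43), (15, 44), (19, 46), (20, 47), (22, 48), (25, 49), (27, 50), (0, 51), (2, 51)],
  [(5, 2), (5, 3), (4, 27), (6, 29), (7, 32), (8, 34), (10, 36), (11, 39), (12, 41), (14, 43), (16, 44), (19, 45), (21, 47), (23, 48), (26, 49), (0, 50), (2, 50), (3, 50), (28, 51)],
  [(6, 2), (4, 25), (5, 26), (7, 31), (9, 34), (10, 35), (11, 38), (13, 41), (14, 42), (17, 44), (20, 45), (21, 46), (24, 48), (0, 49), (3, 49), (29, 50), (30, 51)],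
  [(7, 0), (11, 37), (12, 38), (13, 39), (14, 40), (15, 41), (16, 42), (17, 43), (18, 44), (22, 45), (23, 46), (24, 47), (1, 48), (31, 49), (32, 50), (33, 51)],
  [(8, 2), (4, 20), (5, 21), (7, 24), (9, 29), (10, 30), (12, 37), (15, 39), (16, 40), (18, 43), (25, 45), (26, 46), (0, 47), (1, 47), (3, 47), (31, 48), (34, 50), (35, 51)],
  [(9, 2), (9, 3), (4, 19), (6, 21), (7, 23), (8, 26), (10, 28), (13, 37), (15, 38), (17, 40), (18, 42), (27, 45), (0, 46), (1, 46), (2, 46), (3, 46), (29, 47), (32, 48), (34, 49), (36, 51)],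
  [(10, 3), (5, 19), (6, 20), (7, 22), (8, 25), (9, 27), (14, 37), (16, 38), (17, 39), (18, 41), (0, 45), (1, 45), (2, 45), (28, 46), (30, 47), (33, 48), (35, 49), (36, 50)],
  [(11, 0), (11, 1), (7, 18), (12, 31), (13, 32), (14, 33), (15, 34), (16, 35), (17, 36), (22, 41), (23, 42), (24, 43), (0, 44), (1, 44), (37, 48), (38, 49), (39, 50), (40, 51)],
  [(12, 1), (12, 2), (7, 17), (11, 24), (13, 29), (14, 30), (15, 32), (16, 33), (18, 36), (22, 39), (23, 40), (0, 43), (31, 44), (37, 47), (38, 48), (41, 50), (42, 51)],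
  [(13, 1), (13, 2), (13, 3), (7, 16), (11, 23), (12, 26), (14, 28), (15, 31), (17, 33), (18, 35), (22, 38), (24, 40), (0, 42), (32, 44), (37, 46), (39, 48), (41, 49), (43, 51)],
  [(14, 1), (14, 3), (7, 15), (11, 22), (12, 25), (13, 27), (16, 31), (17, 32), (18, 34), (23, 38), (24, 39), (0, 41), (33, 44), (37, 45), (40, 48), (42, 49), (43, 50)],
  [(15, 0), (15, 1), (15, 3), (7, 14), (11, 21), (12, 23), (13, 24), (16, 28), (17, 30), (18, 33), (22, 37), (0, 40), (1, 40), (31, 42), (32, 43), (38, 46), (39, 47), (41, 48), (44, 51)],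
  [(16, 0), (16, 1), (16, 2), (16, 3), (7, 13), (11, 20), (12, 22), (14, 24), (15, 27), (17, 29), (18, 32), (23, 37), (0, 39), (1, 39), (31, 41), (33, 43), (38, 45), (40, 47), (42, 48), (44, 50)],
  [(17, 0), (17, 1), (17, 2), (7, 12), (11, 19), (13, 22), (14, 23), (15, 25), (16, 26), (18, 31), (24, 37), (0, 38), (1, 38), (32, 41), (33, 42), (39, 45), (40, 46), (43, 48), (44, 49)],
  [(18, 1), (7, 11), (12, 19), (13, 20), (14, 21), (15, 22), (16, 23), (17, 24), (0, 37), (31, 38), (32, 39), (33, 40), (41, 45), (42, 46), (43, 47), (44, 48)],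
  [(19, 2), (4, 9), (5, 10), (11, 17), (12, 18), (20, 29), (21, 30), (22, 32), (23, 33), (25, 34), (26, 35), (1, 36), (3, 36), (37, 43), (38, 44), (45, 50), (46, 51)],
  [(20, 2), (20, 3), (4, 8), (6, 10), (11, 16), (13, 18), (19, 26), (21, 28), (22, 31), (24, 33), (27, 34), (1, 35), (2, 35), (3, 35), (29, 36), (37, 42), (39, 44), (45, 49), (47, 51)],
  [(21, 3), (5, 8), (6, 9), (11, 15), (14, 18), (19, 25), (20, 27), (23, 31), (24, 32), (1, 34), (2, 34), (28, 35), (30, 36), (37, 41), (40, 44), (46, 49), (47, 50)],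
  [(22, 0), (22, 3), (7, 10), (11, 14), (12, 16), (13, 17), (15, 18), (23, 28), (24, 30), (1, 33), (31, 35), (32, 36), (37, 40), (38, 42), (39, 43), (41, 44), (48, 51)],
  [(23, 0), (23, 2), (23, 3), (7, 9), (11, 13), (12, 15), (14, 17), (16, 18), (22, 27), (24, 29), (1, 32), (31, 34), (33, 36), (37, 39), (38, 41), (40, 43), (42, 44), (48, 50)],
  [(24, 0), (24, 2), (7, 8), (11, 12), (13, 15), (14, 16), (17, 18), (22, 25), (23, 26), (1, 31), (32, 34), (33, 35), (37, 38), (39, 41), (40, 42), (43, 44), (48, 49)],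
  [(25, 2), (25, 3), (4, 6), (8, 10), (12, 14), (15, 17), (19, 21), (22, 24), (26, 28), (27, 29), (2, 30), (3, 30), (31, 33), (34, 36), (38, 40), (41, 43), (45, 47), (49, 51)],
  [(26, 3), (5, 6), (8, 9), (12, 13), (16, 17), (19, 20), (23, 24), (25, 27), (2, 29), (28, 30), (31, 32), (35, 36), (38, 39), (42, 43), (46, 47), (49, 50)],
  [(27, 2), (4, 5), (9, 10), (13, 14), (15, 16), (20, 21), (22, 23), (25, 26), (3, 28), (29, 30), (32, 33), (34, 35), (39, 40), (41, 42), (45, 46), (50, 51)],
  [(28, 2), (5, 4), (10, 9), (14, 13), (16, 15), (21, 20), (23, 22), (26, 25), (3, 27), (30, 29), (33, 32), (35, 34), (40, 39), (42, 41), (46, 45), (51, 50)],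
  [(29, 3), (6, 5), (9, 8), (13, 12), (17, 16), (20, 19), (24, 23), (27, 25), (2, 26), (30, 28), (32, 31), (36, 35), (39, 38), (43, 42), (47, 46), (50, 49)],
  [(30, 2), (30, 3), (6, 4), (10, 8), (14, 12), (17, 15), (21, 19), (24, 22), (2, 25), (3, 25), (28, 26), (29, 27), (33, 31), (36, 34), (40, 38), (43, 41), (47, 45), (51, 49)],
  [(31, 0), (31, 2), (7, 6), (12, 11), (15, 13), (16, 14), (18, 17), (22, 20), (23, 21), (1, 24), (32, 29), (33, 30), (38, 37), (41, 39), (42, 40), (44, 43), (48, 47)],
  [(32, 0), (32, 2), (32, 3), (7, 5), (13, 11), (15, 12), (17, 14), (18, 16), (22, 19), (24, 21), (1, 23), (31, 26), (33, 28), (39, 37), (41, 38), (43, 40), (44, 42), (48, 46)],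
  [(33, 0), (33, 3), (7, 4), (14, 11), (16, 12), (17, 13), (18, 15), (23, 19), (24, 20), (1, 22), (31, 25), (32, 27), (40, 37), (42, 38), (43, 39), (44, 41), (48, 45)],
  [(34, 3), (8, 5), (9, 6), (15, 11), (18, 14), (25, 19), (27, 20), (1, 21), (2, 21), (31, 23), (32, 24), (35, 28), (36, 30), (41, 37), (44, 40), (49, 46), (50, 47)],
  [(35, 2), (35, 3), (8, 4), (10, 6), (16, 11), (18, 13), (26, 19), (1, 20), (2, 20), (3, 20), (28, 21), (31, 22), (33, 24), (34, 27), (36, 29), (42, 37), (44, 39), (49, 45), (51, 47)],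
  [(36, 2), (9, 4), (10, 5), (17, 11), (18, 12), (1, 19), (3, 19), (29, 20), (30, 21), (32, 22), (33, 23), (34, 25), (35, 26), (43, 37), (44, 38), (50, 45), (51, 46)],
  [(37, 1), (11, 7), (12, 8), (13, 9), (14, 10), (22, 15), (23, 16), (24, 17), (0, 18), (38, 31), (39, 32), (40, 33), (41, 34), (42, 35), (43, 36), (48, 44)],
  [(38, 0), (38, 1), (38, 2), (11, 6), (12, 7), (15, 9), (16, 10), (22, 13), (23, 14), (0, 17), (1, 17), (31, 18), (37, 24), (39, 29), (40, 30), (41, 32), (42, 33), (44, 36), (48, 43)],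
  [(39, 0), (39, 1), (39, 2), (39, 3), (11, 5), (13, 7), (15, 8), (17, 10), (22, 12), (24, 14), (0, 16), (1, 16), (32, 18), (37, 23), (38, 26), (40, 28), (41, 31), (43, 33), (44, 35), (48, 42)],
  [(40, 0), (40, 1), (40, 3), (11, 4), (14, 7), (16, 8), (17, 9), (23, 12), (24, 13), (0, 15), (1, 15), (33, 18), (37, 22), (38, 25), (39, 27), (42, 31), (43, 32), (44, 34), (48, 41)],
  [(41, 1), (41, 3), (12, 5), (13, 6), (15, 7), (18, 10), (22, 11), (0, 14), (31, 16), (32, 17), (37, 21), (38, 23), (39, 24), (42, 28), (43, 30), (44, 33), (48, 40)],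
  [(42, 1), (42, 2), (42, 3), (12, 4), (14, 6), (16, 7), (18, 9), (23, 11), (0, 13), (31, 15), (33, 17), (37, 20), (38, 22), (40, 24), (41, 27), (43, 29), (44, 32), (48, 39)],
  [(43, 1), (43, 2), (13, 4), (14, 5), (17, 7), (18, 8), (24, 11), (0, 12), (32, 15), (33, 16), (37, 19), (39, 22), (40, 23), (41, 25), (42, 26), (44, 31), (48, 38)],
  [(44, 0), (44, 1), (15, 4), (16, 5), (17, 6), (18, 7), (0, 11), (1, 11), (31, 12), (32, 13), (33, 14), (38, 19), (39, 20), (40, 21), (41, 22), (42, 23), (43, 24), (48, 37)],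
  [(45, 3), (19, 5), (20, 6), (22, 7), (25, 8), (27, 9), (0, 10), (1, 10), (2, 10), (37, 14), (38, 16), (39, 17), (41, 18), (46, 28), (47, 30), (48, 33), (49, 35), (50, 36)],
  [(46, 2), (46, 3), (19, 4), (21, 6), (23, 7), (26, 8), (0, 9), (1, 9), (2, 9), (3, 9), (28, 10), (37, 13), (38, 15), (40, 17), (42, 18), (45, 27), (47, 29), (48, 32), (49, 34), (51, 36)],
  [(47, 2), (20, 4), (21, 5), (24, 7), (0, 8), (1, 8), (3, 8), (29, 9), (30, 10), (37, 12), (39, 15), (40, 16), (43, 18), (45, 25), (46, 26), (48, 31), (50, 34), (51, 35)],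
  [(48, 0), (22, 4), (23, 5), (24, 6), (1, 7), (31, 8), (32, 9), (33, 10), (37, 11), (38, 12), (39, 13), (40, 14), (41, 15), (42, 16), (43, 17), (44, 18)],
  [(49, 2), (25, 4), (26, 5), (0, 6), (3, 6), (31, 7), (34, 9), (35, 10), (38, 11), (41, 13), (42, 14), (44, 17), (45, 20), (46, 21), (48, 24), (50, 29), (51, 30)],
  [(50, 2), (50, 3), (27, 4), (0, 5), (2, 5), (3, 5), (29, 6), (32, 7), (34, 8), (36, 10), (39, 11), (41, 12), (43, 14), (44, 16), (45, 19), (47, 21), (48, 23), (49, 26), (51, 28)],
  [(51, 3), (0, 4), (2, 4), (28, 5), (30, 6), (33, 7), (35, 8), (36, 9), (40, 11), (42, 12), (43, 13), (44, 15), (46, 19), (47, 20), (48, 22), (49, 25), (50, 27)]]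

/-- positions of the ones of the coefficient of `t ^ 2` in `x_r(t)` modulo 2 -/
def tabF : List Sparse := [
  [(4, 51)],
  [(5, 50)],
  [(6, 49)],
  [(4, 45), (5, 46), (6, 47), (7, 48), (8, 49), (9, 50), (10, 51)],
  [(8, 47)],
  [(9, 46)],
  [(10, 45)],
  [(4, 34), (5, 35), (6, 36), (11, 44), (19, 49), (20, 50), (21, 51)],
  [(4, 29), (5, 30), (8, 36), (12, 43), (19, 47), (25, 50), (26, 51)],
  [(4, 26), (6, 28), (9, 35), (13, 42), (20, 46), (27, 49), (29, 51)],
  [(5, 25), (6, 27), (10, 34), (14, 41), (21, 45), (28, 49), (30, 50)],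
  [(4, 21), (8, 28), (9, 30), (15, 40), (25, 46), (27, 47), (34, 51)],
  [(5, 20), (8, 27), (10, 29), (16, 39), (26, 45), (28, 47), (35, 50)],
  [(6, 19), (9, 25), (10, 26), (17, 38), (29, 45), (30, 46), (36, 49)],
  [(8, 19), (9, 20), (10, 21), (18, 37), (34, 45), (35, 46), (36, 47)],
  [(19, 36)],
  [(20, 35)],
  [(21, 34)],
  [(4, 10), (19, 28), (20, 30), (22, 33), (25, 35), (27, 36), (45, 51)],
  [(5, 9), (19, 27), (21, 29), (23, 32), (26, 34), (28, 36), (46, 50)],
  [(6, 8), (20, 25), (21, 26), (24, 31), (29, 34), (30, 35), (47, 49)],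
  [(25, 30)],
  [(26, 29)],
  [(27, 28)],
  [(28, 27)],
  [(29, 26)],
  [(30, 25)],
  [(8, 6), (25, 20), (26, 21), (31, 24), (34, 29), (35, 30), (49, 47)],
  [(9, 5), (27, 19), (29, 21), (32, 23), (34, 26), (36, 28), (50, 46)],
  [(10, 4), (28, 19), (30, 20), (33, 22), (35, 25), (36, 27), (51, 45)],
  [(34, 21)],
  [(35, 20)],
  [(36, 19)],
  [(19, 8), (20, 9), (21, 10), (37, 18), (45, 34), (46, 35), (47, 36)],
  [(19, 6), (25, 9), (26, 10), (38, 17), (45, 29), (46, 30), (49, 36)],
  [(20, 5), (27, 8), (29, 10), (39, 16), (45, 26), (47, 28), (50, 35)],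
  [(21, 4), (28, 8), (30, 9), (40, 15), (46, 25), (47, 27), (51, 34)],
  [(25, 5), (27, 6), (34, 10), (41, 14), (45, 21), (49, 28), (50, 30)],
  [(26, 4), (28, 6), (35, 9), (42, 13), (46, 20), (49, 27), (51, 29)],
  [(29, 4), (30, 5), (36, 8), (43, 12), (47, 19), (50, 25), (51, 26)],
  [(34, 4), (35, 5), (36, 6), (44, 11), (49, 19), (50, 20), (51, 21)],
  [(45, 10)],
  [(46, 9)],
  [(47, 8)],
  [(45, 4), (46, 5), (47, 6), (48, 7), (49, 8), (50, 9), (51, 10)],
  [(49, 6)],
  [(50, 5)],
  [(51, 4)]]

/-- lookup in a list of lists by structural recursion -/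
def nth {α : Type} : List (List α) → ℕ → List α
  | [], _ => []
  | a :: _, 0 => a
  | _ :: l, n + 1 => nth l n

/-- the coefficient of `t` in `x_r(t)` -/
def Els (r : ℕ) : Sparse := nth tabE r
/-- the coefficient of `t ^ 2` in `x_r(t)` -/
def Fls (r : ℕ) : Sparse := nth tabF r

/-- position of a basis vector: `h_i ↦ i`, `e_s ↦ 4 + s` -/
def pos : chevF4.Idx → ℕ := Sum.elim (fun i => i.val) (fun s => 4 + s.val)

theorem pos_inl (i : Fin chevF4.rank) : pos (Sum.inl i) = i.val := rfl
theorem pos_inr (s : Fin chevF4.nroots) : pos (Sum.inr s) = 4 + s.val := rfl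

theorem posOK : PosOK pos where
  inj := by
    rintro (i | i) (j | j) h
    · rw [pos_inl, pos_inl] at h
      rw [Fin.ext h]
    · rw [pos_inl, pos_inr] at h
      have := i.2
      change i.val < 4 at this
      omega
    · rw [pos_inl, pos_inr] at h
      have := j.2
      change j.val < 4 at this
      omega
    · rw [pos_inr, pos_inr] at h
      rw [Fin.ext (by omega : i.val = j.val)]
  lt := by
    rintro (i | i)
    · have := i.2
      change i.val < 4 at this
      rw [pos_inl]; omega
    · have := i.2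
      change i.val < 48 at this
      rw [pos_inr]; omega
  surj := by
    intro n hn
    by_cases h : n < 4
    · exact ⟨Sum.inl (⟨n, h⟩ : Fin 4), rfl⟩
    · refine ⟨Sum.inr (⟨n - 4, by omega⟩ : Fin 48), ?_⟩
      change 4 + (n - 4) = n
      omega

/-- the column `c` of `x_r(t) - 1` as a list of (row, exponent of t, coefficient) -/
def colZ (r c : ℕ) : List (ℕ × ℕ × ℤ) :=
  if c < 4 then [(4 + r, 1, - (chevF4.cartanSR.getD c #[]).getD r 0)]
  else if c - 4 = r then []
  else if c - 4 = chevF4.negIdx.getD r 0 then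
    ((List.range 4).map fun i => (i, 1, (chevF4.coroot.getD r #[]).getD i 0)) ++ [(4 + r, 2, -1)]
  else ((chevF4.chain.getD r #[]).toList.filter (fun e => e.1 = c - 4)).flatMap fun e =>
    e.2.toList.zipIdx.map fun q => (4 + q.1.1, q.2 + 1, q.1.2)

theorem sum_flatMap {α β : Type*} {M : Type*} [AddCommMonoid M] (l : List α) (f : α → List β)
    (g : β → M) : ((l.flatMap f).map g).sum = (l.map fun a => ((f a).map g).sum).sum := by
  induction l with
  | nil => simp
  | cons a l ih => simp [ih]

theorem sum_filter_eq {α : Type*} {M : Type*} [AddCommMonoid M] (l : List α) (p : α → Prop)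
    [DecidablePred p] (g : α → M) :
    ((l.filter fun a => decide (p a)).map g).sum = (l.map fun a => if p a then g a else 0).sum := by
  induction l with
  | nil => simp
  | cons a l ih =>
    by_cases h : p a
    · simp [h, ih]
    · simp [h, ih]

variable {K : Type*} [Field K]

theorem xMat_eq_colZ (r : Fin chevF4.nroots) (t : K) (i j : chevF4.Idx) :
    chevF4.xMat K r t i j = (if i = j then 1 else 0) +
      ((colZ r.val (pos j)).map fun x => if x.1 = pos i then (x.2.2 : K) * t ^ x.2.1 else 0).sum := by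
  have hr := r.2
  change r.val < 48 at hr
  unfold ChevalleyDatum.xMat colZ
  rw [Matrix.of_apply]
  rcases j with j | s
  · have hj := j.2
    change j.val < 4 at hj
    rw [pos_inl, if_pos hj]
    rcases i with i | u
    · have hi := i.2
      change i.val < 4 at hi
      have h1 : ¬ (4 + r.val = i.val) := by omega
      simp [pos_inl, h1]
    · by_cases h : u = r
      · subst h
        simp [pos_inr]
      · have h1 : ¬ (r.val = u.val) := fun e => h (Fin.ext e.symm)
        simp [pos_inr, h, h1]
  · have hs := s.2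
    change s.val < 48 at hs
    have h4 : ¬ (4 + s.val < 4) := by omega
    have h5 : 4 + s.val - 4 = s.val := by omega
    rw [pos_inr, if_neg h4, h5]
    by_cases hsr : s = r
    · subst hsr
      rcases i with i | u
      · simp
      · simp
    · have hsr' : ¬ (s.val = r.val) := fun e => hsr (Fin.ext e)
      simp only [if_neg hsr, if_neg hsr']
      by_cases hn : s.val = chevF4.negIdx.getD r.val 0
      · simp only [if_pos hn]
        rcases i with i | u
        · have hi := i.2
          change i.val < 4 at hi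
          have h1 : ¬ (4 + r.val = i.val) := by omega
          simp only [pos_inl, List.map_append, List.sum_append, List.map_map, List.map_cons,
            List.map_nil, List.sum_cons, List.sum_nil, h1, if_false, add_zero, Function.comp_def]
          have h3 : i.val = 0 ∨ i.val = 1 ∨ i.val = 2 ∨ i.val = 3 := by omega
          rcases h3 with h3 | h3 | h3 | h3 <;> simp [List.range_succ, h3]
        · have e0 : ¬ (0 = 4 + u.val) := by omega
          have e1 : ¬ (1 = 4 + u.val) := by omega
          have e2 : ¬ (2 = 4 + u.val) := by omega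
          have e3 : ¬ (3 = 4 + u.val) := by omega
          simp only [pos_inr, List.map_append, List.sum_append, List.map_cons,
            List.map_nil, List.sum_cons, List.sum_nil, add_zero,
            List.range_succ, List.range_zero, List.nil_append]
          by_cases h : u = s
          · subst h
            have h6 : ¬ (r.val = u.val) := fun e => hsr' e.symm
            simp [h6, e0, e1, e2, e3]
          · by_cases h' : u = r
            · subst h'
              simp [h, e0, e1, e2, e3]
            · have h6 : ¬ (r.val = u.val) := fun e => h' (Fin.ext e.symm)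
              simp [h, h', h6, e0, e1, e2, e3]
      · simp only [if_neg hn]
        rcases i with i | u
        · have hi := i.2
          change i.val < 4 at hi
          rw [pos_inl, sum_flatMap]
          symm
          rw [if_neg (by simp), zero_add]
          apply List.sum_eq_zero
          intro x hx
          rw [List.mem_map] at hx
          obtain ⟨e, _, rfl⟩ := hx
          rw [List.map_map]
          apply List.sum_eq_zero
          intro y hy
          rw [List.mem_map] at hy
          obtain ⟨q, _, rfl⟩ := hy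
          have : ¬ (4 + q.1.1 = i.val) := by omega
          simp [this]
        · rw [pos_inr, sum_flatMap]
          have h7 : (Sum.inr u = (Sum.inr s : chevF4.Idx)) ↔ u = s := by simp
          simp only [h7]
          congr 1
          unfold ChevalleyDatum.chainCoeff
          rw [sum_flatMap]
          congr 1
          apply List.map_congr_left
          intro e _
          rw [List.map_map, List.map_map, sum_filter_eq]
          congr 1
          apply List.map_congr_left
          intro q _
          simp [Function.comp_def]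

/-- the odd part of the column `c` of `x_r(t) - 1` -/
def colOdd (r c : ℕ) : List (ℕ × ℕ) :=
  ((colZ r c).filter (fun x => decide (x.2.2 % 2 ≠ 0))).map fun x => (x.1, x.2.1)

/-- the column `c` according to the tables `tabE`, `tabF` -/
def colT (r c : ℕ) : List (ℕ × ℕ) :=
  (((Els r).filter fun e => decide (e.2 = c)).map fun e => (e.1, 1)) ++
    ((Fls r).filter fun e => decide (e.2 = c)).map fun e => (e.1, 2)

/-- the tables `tabE`, `tabF` agree with the datum modulo 2 -/
def chkTab : Bool :=
  (List.range 48).all fun r => (List.range 52).all fun c => decide (colOdd r c = colT r c)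

set_option maxRecDepth 100000 in
theorem chkTab_true : chkTab = true := by decide +kernel

theorem colOdd_eq (r c : ℕ) (hr : r < 48) (hc : c < 52) : colOdd r c = colT r c := by
  have h := chkTab_true
  unfold chkTab at h
  rw [List.all_eq_true] at h
  have h1 := h r (List.mem_range.2 hr)
  rw [List.all_eq_true] at h1
  exact of_decide_eq_true (h1 c (List.mem_range.2 hc))

theorem cast_mod_two [CharP K 2] (z : ℤ) : (z : K) = if z % 2 ≠ 0 then 1 else 0 := by
  have h2 : ((2 : ℤ) : K) = 0 := by
    have := CharP.cast_eq_zero K 2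
    exact_mod_cast this
  have h : (z : K) = ((z % 2 : ℤ) : K) := by
    conv_lhs => rw [← Int.emod_add_mul_ediv z 2]
    rw [Int.cast_add, Int.cast_mul, h2, zero_mul, add_zero]
  rw [h]
  rcases Int.emod_two_eq_zero_or_one z with h1 | h1 <;> simp [h1]

theorem sum_odd [CharP K 2] (l : List (ℕ × ℕ × ℤ)) (n : ℕ) (t : K) :
    (l.map fun x => if x.1 = n then (x.2.2 : K) * t ^ x.2.1 else 0).sum =
      (((l.filter (fun x => decide (x.2.2 % 2 ≠ 0))).map fun x => (x.1, x.2.1)).map
        fun x => if x.1 = n then t ^ x.2 else 0).sum := by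
  rw [List.map_map, sum_filter_eq]
  congr 1
  apply List.map_congr_left
  intro x _
  rw [cast_mod_two x.2.2]
  by_cases h : x.1 = n <;> by_cases h' : x.2.2 % 2 = 0 <;> simp [h, h']

theorem semS_apply' (l : Sparse) (i j : chevF4.Idx) :
    semS pos K l i j = ((l.filter fun e => decide (e.2 = pos j)).map
      fun e => if e.1 = pos i then (1 : K) else 0).sum := by
  rw [semS_apply, sum_filter_eq]
  congr 1
  apply List.map_congr_left
  intro e _
  by_cases h : e.1 = pos i <;> by_cases h' : e.2 = pos j <;> simp [h, h']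

theorem xMat_eq [CharP K 2] (r : Fin chevF4.nroots) (t : K) :
    chevF4.xMat K r t = 1 + t • semS pos K (Els r.val) + t ^ 2 • semS pos K (Fls r.val) := by
  ext i j
  rw [xMat_eq_colZ, sum_odd]
  have h := colOdd_eq r.val (pos j) r.2 (posOK.lt j)
  unfold colOdd at h
  rw [h]
  unfold colT
  rw [List.map_append, List.sum_append, List.map_map, List.map_map, Matrix.add_apply,
    Matrix.add_apply, Matrix.smul_apply, Matrix.smul_apply, semS_apply', semS_apply',
    smul_eq_mul, smul_eq_mul, ← List.sum_map_mul_left, ← List.sum_map_mul_left, add_assoc]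
  congr 1
  congr 1 <;>
  · congr 1
    apply List.map_congr_left
    intro e _
    by_cases h : e.1 = pos i <;> simp [h]

/-- `x_r(t)` for an index `r < 48` -/
theorem x_eq [CharP K 2] (r : ℕ) (hr : r < 48) (t : K) :
    chevF4.x K r t = 1 + t • semS pos K (Els r) + t ^ 2 • semS pos K (Fls r) := by
  have h : r < chevF4.nroots := hr
  unfold ChevalleyDatum.x
  rw [dif_pos h]
  exact xMat_eq ⟨r, h⟩ t

/-- all entries of the tables are in range -/
theorem okS_Els (r : ℕ) : okS (Els r) = true := by
  by_cases hr : r < 48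
  · have h : ((List.range 48).all fun r => okS (Els r)) = true := by decide +kernel
    rw [List.all_eq_true] at h
    exact h r (List.mem_range.2 hr)
  · have h : Els r = [] := by
      obtain ⟨k, rfl⟩ : ∃ k, r = 48 + k := ⟨r - 48, by omega⟩
      rw [Nat.add_comm]
      rfl
    rw [h]
    rfl

theorem okS_Fls (r : ℕ) : okS (Fls r) = true := by
  by_cases hr : r < 48
  · have h : ((List.range 48).all fun r => okS (Fls r)) = true := by decide +kernel
    rw [List.all_eq_true] at h
    exact h r (List.mem_range.2 hr)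
  · have h : Fls r = [] := by
      obtain ⟨k, rfl⟩ : ∃ k, r = 48 + k := ⟨r - 48, by omega⟩
      rw [Nat.add_comm]
      rfl
    rw [h]
    rfl

/-- the packed identity -/
theorem sem_idN : sem pos K idN = 1 := by
  have h : ((List.range 52).all fun i => (List.range 52).all fun j =>
      decide (idN.testBit (52 * i + j) = decide (i = j))) = true := by decide +kernel
  ext i j
  rw [List.all_eq_true] at h
  have h1 := h (pos i) (List.mem_range.2 (posOK.lt i))
  rw [List.all_eq_true] at h1
  have h2 := of_decide_eq_true (h1 (pos j) (List.mem_range.2 (posOK.lt j)))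
  rw [sem_apply, h2, Matrix.one_apply]
  by_cases hij : i = j
  · simp [hij]
  · have : ¬ (pos i = pos j) := fun e => hij (posOK.inj e)
    simp [hij, this]

/-! ### Words in root elements with parameters `t^a u^b` -/

/-- multiply on the left by `x_r(t^a u^b)` -/
def stepX (r a b : ℕ) (P : List (List ℕ)) : List (List ℕ) :=
  addP P (addP (shift a b (lmulP (Els r) P)) (shift (2 * a) (2 * b) (lmulP (Fls r) P)))

theorem ev_stepX [CharP K 2] (r a b : ℕ) (hr : r < 48) (t u : K) (P : List (List ℕ)) :
    ev pos t u (stepX r a b P) = chevF4.x K r (t ^ a * u ^ b) * ev pos t u P := by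
  unfold stepX
  rw [ev_add, ev_add, ev_shift, ev_shift, ev_lmul posOK _ (okS_Els r), ev_lmul posOK _ (okS_Fls r),
    x_eq r hr, Matrix.add_mul, Matrix.add_mul, Matrix.one_mul, Matrix.smul_mul, Matrix.smul_mul,
    mul_pow, ← pow_mul, ← pow_mul, mul_comm a 2, mul_comm b 2, add_assoc]

/-- the polynomial matrix of a word; a letter `(r, a, b)` stands for `x_r(t^a u^b)` -/
def wordP (w : List (ℕ × ℕ × ℕ)) : List (List ℕ) :=
  w.foldr (fun e P => stepX e.1 e.2.1 e.2.2 P) [[idN]]

/-- the word over `K` -/
def wordK (t u : K) (w : List (ℕ × ℕ × ℕ)) : List (ℕ × K) :=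
  w.map fun e => (e.1, t ^ e.2.1 * u ^ e.2.2)

theorem ev_idP (t u : K) : ev pos t u [[idN]] = 1 := by
  simp [ev, evL, sem_idN]

theorem ev_wordP [CharP K 2] (t u : K) (w : List (ℕ × ℕ × ℕ))
    (hw : (w.all fun e => decide (e.1 < 48)) = true) :
    ev pos t u (wordP w) = chevF4.wordMat K (wordK t u w) := by
  induction w with
  | nil => simp [wordP, wordK, ev_idP, ChevalleyDatum.wordMat]
  | cons e w ih =>
    have h1 : e.1 < 48 ∧ (w.all fun e => decide (e.1 < 48)) = true := by simpa using hw
    have h2 : ev pos t u (wordP (e :: w)) =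
        chevF4.x K e.1 (t ^ e.2.1 * u ^ e.2.2) * ev pos t u (wordP w) :=
      ev_stepX _ _ _ h1.1 t u _
    rw [h2, ih h1.2]
    rfl

/-- check of a word identity -/
def chkWord (w w' : List (ℕ × ℕ × ℕ)) : Bool :=
  (w.all fun e => decide (e.1 < 48)) && (w'.all fun e => decide (e.1 < 48)) &&
    eqP (wordP w) (wordP w')

theorem wordMat_eq_of_chkWord [CharP K 2] (w w' : List (ℕ × ℕ × ℕ)) (h : chkWord w w' = true)
    (t u : K) : chevF4.wordMat K (wordK t u w) = chevF4.wordMat K (wordK t u w') := by
  unfold chkWord at h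
  rw [Bool.and_eq_true, Bool.and_eq_true] at h
  rw [← ev_wordP t u w h.1.1, ← ev_wordP t u w' h.1.2]
  exact ev_eq_of_eqP t u _ _ h.2

end Cfsg.Agent.ChevalleyStructure.TwF4.Tables
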