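import Cfsg.Agent.ChevalleyStructure.TwF4.Rel
import Cfsg.Prelude.Def_LieTwisted

/-!
`²F₄(2)`: the derived subgroup has index at most 2 and is perfect.
-/

set_option autoImplicit false

namespace Cfsg.Agent.ChevalleyStructure.TwF4.TitsPerfect

open Cfsg.Lie Cfsg.Agent.ChevalleyStructure.TwF4.Bits Cfsg.Agent.ChevalleyStructure.TwF4.Tables
open Cfsg.Agent.ChevalleyStructure.TwF4.Rel

/-! ### abstract part -/

section Abstract

variable {G : Type*} [Group G]

/-- the relations used between generators `a A c C` of `²F₄(2)` -/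
structure Relations (a A c C : G) (n₁ n₂ y2 y2' y4 y4' y6 y6' y3 y5 y7 : G) : Prop where
  top : Subgroup.closure {a, A, c, C} = ⊤
  hA : n₁ * a * n₁⁻¹ = A
  hC : n₂ * c * n₂⁻¹ = C
  hn₂ : n₂ = (c * c) * (C * C * C) * c
  h2 : n₁ * c * n₁⁻¹ = y2
  h2' : n₁ * (c * c) * n₁⁻¹ = y2'
  h6 : n₂ * y2 * n₂⁻¹ = y6
  h6' : n₂ * y2' * n₂⁻¹ = y6'
  h4 : n₁ * y6 * n₁⁻¹ = y4
  h4' : n₁ * y6' * n₁⁻¹ = y4'
  h7 : n₂ * a * n₂⁻¹ = y7
  h3 : n₁ * y7 * n₁⁻¹ = y3
  h5 : n₂ * y3 * n₂⁻¹ = y5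
  r1 : a⁻¹ * y6'⁻¹ * a * y6' = y4'
  r2 : y2⁻¹ * y4⁻¹ * y2 * y4 = y3
  r3 : y2'⁻¹ * (c * c)⁻¹ * y2' * (c * c) = y4' * y5 * y6'

variable {a A c C n₁ n₂ y2 y2' y4 y4' y6 y6' y3 y5 y7 : G}

theorem index_dvd_two (h : Relations a A c C n₁ n₂ y2 y2' y4 y4' y6 y6' y3 y5 y7)
    (N : Subgroup G) [hN : N.Normal] (ha : a ∈ N) (hc : c * c ∈ N) : N.index ∣ 2 := by
  have hA : A ∈ N := h.hA ▸ hN.conj_mem a ha n₁
  have hCC : C * C ∈ N := by
    have h1 : C * C = n₂ * (c * c) * n₂⁻¹ := by rw [← h.hC]; group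
    rw [h1]
    exact hN.conj_mem _ hc _
  let π := QuotientGroup.mk' N
  have e1 : ∀ x : G, x ∈ N → π x = 1 := fun x hx => (QuotientGroup.eq_one_iff x).2 hx
  have hπc : π c * π c = 1 := by rw [← map_mul]; exact e1 _ hc
  have hπC : π C * π C = 1 := by rw [← map_mul]; exact e1 _ hCC
  have hcC : π C = π c := by
    have h1 : π n₂ = π C * π c := by
      rw [h.hn₂]
      simp only [map_mul]
      rw [hπc, hπC, one_mul, one_mul]
    have h2 : π n₂ * π c * (π n₂)⁻¹ = π C := by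
      rw [← map_inv, ← map_mul, ← map_mul, h.hC]
    rw [h1] at h2
    have h3 : π C * π c * π c * (π C * π c)⁻¹ = (π c)⁻¹ * (π C)⁻¹ * π C := by
      rw [mul_assoc (π C), hπc, mul_one]
      have h4 : (π C)⁻¹ = π C := by rw [inv_eq_iff_mul_eq_one, hπC]
      have h5 : (π c)⁻¹ = π c := by rw [inv_eq_iff_mul_eq_one, hπc]
      rw [mul_inv_rev, h4, h5]
      have h6 := h2
      rw [mul_assoc (π C), hπc, mul_one, mul_inv_rev, h4, h5] at h6
      -- h6 : π C * (π c * π C) = π C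
      have h7 : π c * π C = 1 := by
        have := mul_left_cancel (a := π C) (b := π c * π C) (c := 1) (by rw [h6, mul_one])
        exact this
      rw [h6, h7, one_mul]
    have h8 := h2.symm.trans h3
    rw [mul_assoc, inv_mul_cancel, mul_one] at h8
    rw [h8, inv_eq_iff_mul_eq_one, hπc]
  have hgen : ∀ q : G ⧸ N, q ∈ Subgroup.zpowers (π c) := by
    intro q
    obtain ⟨g, rfl⟩ := QuotientGroup.mk'_surjective N q
    have hg : g ∈ Subgroup.closure {a, A, c, C} := by rw [h.top]; trivial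
    have hle : Subgroup.closure {a, A, c, C} ≤ (Subgroup.zpowers (π c)).comap π := by
      rw [Subgroup.closure_le]
      intro x hx
      simp only [Set.mem_insert_iff, Set.mem_singleton_iff] at hx
      show π x ∈ Subgroup.zpowers (π c)
      rcases hx with hx | hx | hx | hx
      · rw [hx, e1 _ ha]; exact one_mem _
      · rw [hx, e1 _ hA]; exact one_mem _
      · rw [hx]; exact Subgroup.mem_zpowers _
      · rw [hx, hcC]; exact Subgroup.mem_zpowers _
    exact hle hg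
  have h1 : Nat.card (G ⧸ N) = orderOf (π c) := by
    rw [← Nat.card_zpowers]
    refine Nat.card_congr ⟨fun q => ⟨q, hgen q⟩, fun q => q.1, fun q => rfl, fun q => rfl⟩
  rw [Subgroup.index, h1]
  exact orderOf_dvd_of_pow_eq_one (by rw [pow_two, hπc])

theorem mem_commutator (h : Relations a A c C n₁ n₂ y2 y2' y4 y4' y6 y6' y3 y5 y7)
    (N : Subgroup G) [hN : N.Normal] : (y3 ∈ N → a ∈ N) ∧ (y4' ∈ N → c * c ∈ N) ∧
      (c * c ∈ N → y2' ∈ N ∧ y4' ∈ N ∧ y6' ∈ N) ∧ (y5 ∈ N → a ∈ N) := by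
  have cj : ∀ x g : G, g * x * g⁻¹ ∈ N → x ∈ N := by
    intro x g hx
    have := hN.conj_mem _ hx g⁻¹
    simpa [mul_assoc] using this
  have h31 : y3 ∈ N → a ∈ N := by
    intro h3
    rw [← h.h3] at h3
    have h4 := cj _ _ h3
    rw [← h.h7] at h4
    exact cj _ _ h4
  refine ⟨h31, ?_, ?_, ?_⟩
  · intro h4
    rw [← h.h4'] at h4
    have h5 := cj _ _ h4
    rw [← h.h6'] at h5
    have h6 := cj _ _ h5
    rw [← h.h2'] at h6
    exact cj _ _ h6
  · intro hc
    have h1 : y2' ∈ N := h.h2' ▸ hN.conj_mem _ hc _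
    have h2 : y6' ∈ N := h.h6' ▸ hN.conj_mem _ h1 _
    exact ⟨h1, h.h4' ▸ hN.conj_mem _ h2 _, h2⟩
  · intro h5
    rw [← h.h5] at h5
    exact h31 (cj _ _ h5)

theorem comm_mem {H K : Subgroup G} {x y : G} (hx : x ∈ H) (hy : y ∈ K) :
    x⁻¹ * y⁻¹ * x * y ∈ ⁅H, K⁆ := by
  have := Subgroup.commutator_mem_commutator (inv_mem hx) (inv_mem hy)
  rw [commutatorElement_def, inv_inv, inv_inv] at this
  exact this

theorem mem_derived (h : Relations a A c C n₁ n₂ y2 y2' y4 y4' y6 y6' y3 y5 y7) :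
    a ∈ commutator G ∧ c * c ∈ commutator G := by
  have hm := mem_commutator h (commutator G)
  refine ⟨hm.1 ?_, hm.2.1 ?_⟩
  · rw [← h.r2]
    exact comm_mem (Subgroup.mem_top _) (Subgroup.mem_top _)
  · rw [← h.r1]
    exact comm_mem (Subgroup.mem_top _) (Subgroup.mem_top _)

theorem mem_derived_two (h : Relations a A c C n₁ n₂ y2 y2' y4 y4' y6 y6' y3 y5 y7) :
    a ∈ ⁅commutator G, commutator G⁆ ∧ c * c ∈ ⁅commutator G, commutator G⁆ := by
  have hd := mem_derived h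
  have hm := mem_commutator h (commutator G)
  have hm2 := mem_commutator h ⁅commutator G, commutator G⁆
  obtain ⟨h2, h4, h6⟩ := hm.2.2.1 hd.2
  have hcc : c * c ∈ ⁅commutator G, commutator G⁆ := by
    refine hm2.2.1 ?_
    rw [← h.r1]
    exact comm_mem hd.1 h6
  refine ⟨hm2.2.2.2 ?_, hcc⟩
  obtain ⟨k2, k4, k6⟩ := hm2.2.2.1 hcc
  have h1 : y4' * y5 * y6' ∈ ⁅commutator G, commutator G⁆ := by
    rw [← h.r3]
    exact comm_mem h2 hd.2
  have h7 : y5 = y4'⁻¹ * (y4' * y5 * y6') * y6'⁻¹ := by group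
  rw [h7]
  exact mul_mem (mul_mem (inv_mem k4) h1) (inv_mem k6)

theorem index_commutator_dvd (h : Relations a A c C n₁ n₂ y2 y2' y4 y4' y6 y6' y3 y5 y7) :
    (commutator G).index ∣ 2 := by
  have hd := mem_derived h
  exact index_dvd_two h _ hd.1 hd.2

theorem index_derived_two_dvd (h : Relations a A c C n₁ n₂ y2 y2' y4 y4' y6 y6' y3 y5 y7) :
    (⁅commutator G, commutator G⁆ : Subgroup G).index ∣ 2 := by
  have hd := mem_derived_two h
  exact index_dvd_two h _ hd.1 hd.2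

/-- if the derived subgroup has index `2`, it is perfect -/
theorem derived_two_eq (h : Relations a A c C n₁ n₂ y2 y2' y4 y4' y6 y6' y3 y5 y7)
    (h2 : (commutator G).index = 2) : ⁅commutator G, commutator G⁆ = commutator G := by
  have hle : ⁅commutator G, commutator G⁆ ≤ commutator G :=
    Subgroup.commutator_le_left _ _
  have h1 := index_derived_two_dvd h
  have h3 := Subgroup.relIndex_mul_index hle
  rw [h2] at h3
  have h4 : (⁅commutator G, commutator G⁆ : Subgroup G).relIndex (commutator G) = 1 := by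
    have h5 : (⁅commutator G, commutator G⁆ : Subgroup G).relIndex (commutator G) * 2 ∣ 1 * 2 := by
      rw [h3, one_mul]; exact h1
    exact Nat.dvd_one.1 (Nat.dvd_of_mul_dvd_mul_right (by norm_num) h5)
  exact le_antisymm hle (Subgroup.relIndex_eq_one.1 h4)

end Abstract

/-! ### the concrete words -/

/-- `²F₄(2)` -/
abbrev G2 : Subgroup (GL chevF4.Idx (ZMod 2)) := twistedF4 (ZMod 2) 1

/-- product of the `x_r(1)`, `r ∈ l` -/
def wd (l : List ℕ) : GL chevF4.Idx (ZMod 2) := W (l.map fun r => (r, (1 : ZMod 2)))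

theorem wd_append (l l' : List ℕ) : wd l * wd l' = wd (l ++ l') := by
  unfold wd
  rw [List.map_append, W_append]

theorem wd_cons (r : ℕ) (l : List ℕ) : wd (r :: l) = X r 1 * wd l := by
  unfold wd
  rw [List.map_cons, W_cons]

theorem wd_nil : wd [] = 1 := rfl

theorem wd_inv (l : List ℕ) : (wd l)⁻¹ = wd l.reverse := by
  induction l with
  | nil => rw [wd_nil, inv_one]; rfl
  | cons r l ih =>
    rw [wd_cons, mul_inv_rev, ih, X_inv, List.reverse_cons, ← wd_append, wd_cons, wd_nil, mul_one]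

theorem wd_eq (l l' : List ℕ) (h : chkWord (l.map fun r => (r, 0, 0)) (l'.map fun r => (r, 0, 0)) = true) :
    wd l = wd l' := by
  have h1 := W_eq_of_chkWord (K := ZMod 2) _ _ h 1 1
  have e : ∀ l : List ℕ, wordK (1 : ZMod 2) 1 (l.map fun r => (r, 0, 0)) =
      l.map fun r => (r, (1 : ZMod 2)) := by
    intro l
    simp [wordK]
  rw [e, e] at h1
  exact h1

/-- `x_{p₁}(1) x_{p₄}(1)` -/
def gA : GL chevF4.Idx (ZMod 2) := wd [33, 24]
/-- `x_{-p₁}(1) x_{-p₄}(1)` -/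
def gA' : GL chevF4.Idx (ZMod 2) := wd [14, 23]
/-- `x_{p₂}(1) x_{p₃}(1) x_{p₂+p₃}(1)` -/
def gC : GL chevF4.Idx (ZMod 2) := wd [27, 25, 28]
/-- `x_{-p₂}(1) x_{-p₃}(1) x_{-p₂-p₃}(1)` -/
def gC' : GL chevF4.Idx (ZMod 2) := wd [20, 22, 19]

theorem word_mem (w : List (ℕ × ZMod 2)) (hw : w ∈ f4Words (ZMod 2) 1) : W w ∈ G2 :=
  Subgroup.subset_closure ⟨w, hw, coe_W w⟩

theorem gA_mem : gA ∈ G2 := by
  have h := word_mem [(33, 1), (24, 1)] (Or.inl ⟨1, Or.inl (by simp [f4PairWord, f4p1, f4p4])⟩)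
  exact h

theorem gA'_mem : gA' ∈ G2 := by
  have h := word_mem [(14, 1), (23, 1)] (Or.inl ⟨1, Or.inr (by simp [f4PairWord, f4m1, f4m4])⟩)
  exact h

theorem W_zero_last (w : List (ℕ × ZMod 2)) (r : ℕ) : W (w ++ [(r, 0)]) = W w := by
  rw [W_append, W_cons, W_nil, X_zero, mul_one, mul_one]

theorem gC_mem : gC ∈ G2 := by
  have h := word_mem (b2ClassWord 1 f4a f4b f4ab f4aab 1 0) (Or.inr ⟨1, 0, Or.inl rfl⟩)
  have e : W (b2ClassWord 1 f4a f4b f4ab f4aab 1 (0 : ZMod 2)) = gC := by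
    unfold b2ClassWord gC wd f4a f4b f4ab f4aab
    simp [W_cons, X_zero]
  exact e ▸ h

theorem gC'_mem : gC' ∈ G2 := by
  have h := word_mem (b2ClassWord 1 f4ma f4mb f4mab f4maab 1 0) (Or.inr ⟨1, 0, Or.inr rfl⟩)
  have e : W (b2ClassWord 1 f4ma f4mb f4mab f4maab 1 (0 : ZMod 2)) = gC' := by
    unfold b2ClassWord gC' wd f4ma f4mb f4mab f4maab
    simp [W_cons, X_zero]
  exact e ▸ h

theorem gC_sq : gC * gC = wd [28, 30] := by
  unfold gC
  rw [wd_append]
  exact wd_eq _ _ (by decide +kernel)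

theorem gC'_sq : gC' * gC' = wd [19, 17] := by
  unfold gC'
  rw [wd_append]
  exact wd_eq _ _ (by decide +kernel)

theorem gC_cube : gC * gC * gC = wd [27, 25, 30] := by
  unfold gC
  rw [wd_append, wd_append]
  exact wd_eq _ _ (by decide +kernel)

theorem gC'_cube : gC' * gC' * gC' = wd [20, 22, 17] := by
  unfold gC'
  rw [wd_append, wd_append]
  exact wd_eq _ _ (by decide +kernel)

theorem zmod2 (t : ZMod 2) : t = 0 ∨ t = 1 := by
  revert t
  decide

theorem G2_le : G2 ≤ Subgroup.closure {gA, gA', gC, gC'} := by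
  set H := Subgroup.closure {gA, gA', gC, gC'} with hH
  have hA : gA ∈ H := Subgroup.subset_closure (by simp)
  have hA' : gA' ∈ H := Subgroup.subset_closure (by simp)
  have hC : gC ∈ H := Subgroup.subset_closure (by simp)
  have hC' : gC' ∈ H := Subgroup.subset_closure (by simp)
  show Subgroup.closure _ ≤ H
  rw [Subgroup.closure_le]
  rintro g ⟨w, hw, hg⟩
  have hg' : g = W w := Units.ext (by rw [hg, coe_W])
  subst hg'
  show W w ∈ H
  rcases hw with ⟨t, rfl | rfl⟩ | ⟨t, u, rfl | rfl⟩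
  · rcases zmod2 t with rfl | rfl
    · simp [f4PairWord, W_cons, X_zero]
    · have e : W (f4PairWord 1 f4p1 f4p4 (1 : ZMod 2)) = gA := by
        simp [f4PairWord, f4p1, f4p4, gA, wd]
      rw [e]; exact hA
  · rcases zmod2 t with rfl | rfl
    · simp [f4PairWord, W_cons, X_zero]
    · have e : W (f4PairWord 1 f4m1 f4m4 (1 : ZMod 2)) = gA' := by
        simp [f4PairWord, f4m1, f4m4, gA', wd]
      rw [e]; exact hA'
  · rcases zmod2 t with rfl | rfl <;> rcases zmod2 u with rfl | rfl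
    · simp [b2ClassWord, W_cons, X_zero]
    · have e : W (b2ClassWord 1 f4a f4b f4ab f4aab (0 : ZMod 2) 1) = gC * gC := by
        rw [gC_sq]
        simp [b2ClassWord, f4a, f4b, f4ab, f4aab, wd, W_cons, X_zero]
      rw [e]; exact mul_mem hC hC
    · have e : W (b2ClassWord 1 f4a f4b f4ab f4aab (1 : ZMod 2) 0) = gC := by
        simp [b2ClassWord, f4a, f4b, f4ab, f4aab, gC, wd, W_cons, X_zero]
      rw [e]; exact hC
    · have e : W (b2ClassWord 1 f4a f4b f4ab f4aab (1 : ZMod 2) 1) = gC * gC * gC := by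
        rw [gC_cube]
        have h0 : (1 : ZMod 2) + 1 = 0 := by decide
        simp [b2ClassWord, f4a, f4b, f4ab, f4aab, wd, W_cons, X_zero, h0]
      rw [e]; exact mul_mem (mul_mem hC hC) hC
  · rcases zmod2 t with rfl | rfl <;> rcases zmod2 u with rfl | rfl
    · simp [b2ClassWord, W_cons, X_zero]
    · have e : W (b2ClassWord 1 f4ma f4mb f4mab f4maab (0 : ZMod 2) 1) = gC' * gC' := by
        rw [gC'_sq]
        simp [b2ClassWord, f4ma, f4mb, f4mab, f4maab, wd, W_cons, X_zero]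
      rw [e]; exact mul_mem hC' hC'
    · have e : W (b2ClassWord 1 f4ma f4mb f4mab f4maab (1 : ZMod 2) 0) = gC' := by
        simp [b2ClassWord, f4ma, f4mb, f4mab, f4maab, gC', wd, W_cons, X_zero]
      rw [e]; exact hC'
    · have e : W (b2ClassWord 1 f4ma f4mb f4mab f4maab (1 : ZMod 2) 1) = gC' * gC' * gC' := by
        rw [gC'_cube]
        have h0 : (1 : ZMod 2) + 1 = 0 := by decide
        simp [b2ClassWord, f4ma, f4mb, f4mab, f4maab, wd, W_cons, X_zero, h0]
      rw [e]; exact mul_mem (mul_mem hC' hC') hC'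

/-- `n₁` as a word -/
theorem n1_word : gA * gA' * gA = wd [33, 24, 14, 23, 33, 24] := by
  unfold gA gA'
  rw [wd_append, wd_append]
  exact wd_eq _ _ (by decide +kernel)

/-- `n₂` as a word -/
theorem n2_word : (gC * gC) * (gC' * gC' * gC') * gC = wd [28, 30, 20, 22, 17, 27, 25, 28] := by
  rw [gC_sq, gC'_cube, gC, wd_append, wd_append]
  exact wd_eq _ _ (by decide +kernel)

theorem conj_n1 (l l' : List ℕ)
    (h : chkWord (([33, 24, 14, 23, 33, 24] ++ l ++ [24, 33, 23, 14, 24, 33]).map fun r => (r, 0, 0))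
      (l'.map fun r => (r, 0, 0)) = true) :
    (gA * gA' * gA) * wd l * (gA * gA' * gA)⁻¹ = wd l' := by
  rw [n1_word, wd_inv, wd_append, wd_append]
  exact wd_eq _ _ h

theorem conj_n2 (l l' : List ℕ)
    (h : chkWord (([28, 30, 20, 22, 17, 27, 25, 28] ++ l ++ [28, 25, 27, 17, 22, 20, 30, 28]).map
      fun r => (r, 0, 0)) (l'.map fun r => (r, 0, 0)) = true) :
    ((gC * gC) * (gC' * gC' * gC') * gC) * wd l * ((gC * gC) * (gC' * gC' * gC') * gC)⁻¹ = wd l' := by
  rw [n2_word, wd_inv, wd_append, wd_append]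
  exact wd_eq _ _ h

/-- `gA` in the group -/
def sA : G2 := ⟨gA, gA_mem⟩
/-- `gA'` in the group -/
def sA' : G2 := ⟨gA', gA'_mem⟩
/-- `gC` in the group -/
def sC : G2 := ⟨gC, gC_mem⟩
/-- `gC'` in the group -/
def sC' : G2 := ⟨gC', gC'_mem⟩
/-- `n₁` -/
def m1 : G2 := sA * sA' * sA
/-- `n₂` -/
def m2 : G2 := (sC * sC) * (sC' * sC' * sC') * sC
/-- `y₂(1,0)` -/
def y2 : G2 := m1 * sC * m1⁻¹
/-- `y₂(0,1)` -/
def y2' : G2 := m1 * (sC * sC) * m1⁻¹
/-- `y₆(1,0)` -/
def y6 : G2 := m2 * y2 * m2⁻¹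
/-- `y₆(0,1)` -/
def y6' : G2 := m2 * y2' * m2⁻¹
/-- `y₄(1,0)` -/
def y4 : G2 := m1 * y6 * m1⁻¹
/-- `y₄(0,1)` -/
def y4' : G2 := m1 * y6' * m1⁻¹
/-- `y₇(1)` -/
def y7 : G2 := m2 * sA * m2⁻¹
/-- `y₃(1)` -/
def y3 : G2 := m1 * y7 * m1⁻¹
/-- `y₅(1)` -/
def y5 : G2 := m2 * y3 * m2⁻¹

theorem coe_m1 : (m1 : GL chevF4.Idx (ZMod 2)) = gA * gA' * gA := rfl
theorem coe_m2 : (m2 : GL chevF4.Idx (ZMod 2)) = (gC * gC) * (gC' * gC' * gC') * gC := rfl

theorem coe_y2 : (y2 : GL chevF4.Idx (ZMod 2)) = wd [34, 26, 36] :=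
  conj_n1 [27, 25, 28] _ (by decide +kernel)

theorem coe_y2' : (y2' : GL chevF4.Idx (ZMod 2)) = wd [36, 42] := by
  have h := conj_n1 [28, 30] [36, 42] (by decide +kernel)
  rw [← gC_sq] at h
  exact h

theorem coe_y6 : (y6 : GL chevF4.Idx (ZMod 2)) = wd [35, 31, 40] := by
  have h := conj_n2 [34, 26, 36] [35, 31, 40] (by decide +kernel)
  rw [← coe_y2] at h
  exact h

theorem coe_y6' : (y6' : GL chevF4.Idx (ZMod 2)) = wd [40, 46] := by
  have h := conj_n2 [36, 42] [40, 46] (by decide +kernel)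
  rw [← coe_y2'] at h
  exact h

theorem coe_y4 : (y4 : GL chevF4.Idx (ZMod 2)) = wd [29, 41, 44] := by
  have h := conj_n1 [35, 31, 40] [29, 41, 44] (by decide +kernel)
  rw [← coe_y6] at h
  exact h

theorem coe_y4' : (y4' : GL chevF4.Idx (ZMod 2)) = wd [44, 47] := by
  have h := conj_n1 [40, 46] [44, 47] (by decide +kernel)
  rw [← coe_y6'] at h
  exact h

theorem coe_y7 : (y7 : GL chevF4.Idx (ZMod 2)) = wd [37, 32] :=
  conj_n2 [33, 24] _ (by decide +kernel)

theorem coe_y3 : (y3 : GL chevF4.Idx (ZMod 2)) = wd [38, 43] := by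
  have h := conj_n1 [37, 32] [38, 43] (by decide +kernel)
  rw [← coe_y7] at h
  exact h

theorem coe_y5 : (y5 : GL chevF4.Idx (ZMod 2)) = wd [39, 45] := by
  have h := conj_n2 [38, 43] [39, 45] (by decide +kernel)
  rw [← coe_y3] at h
  exact h

theorem closure_top : Subgroup.closure {sA, sA', sC, sC'} = (⊤ : Subgroup G2) := by
  rw [eq_top_iff]
  intro g _
  have h : (g : GL chevF4.Idx (ZMod 2)) ∈
      (Subgroup.closure {sA, sA', sC, sC'} : Subgroup G2).map G2.subtype := by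
    have h1 : (Subgroup.closure {sA, sA', sC, sC'} : Subgroup G2).map G2.subtype =
        Subgroup.closure {gA, gA', gC, gC'} := by
      rw [MonoidHom.map_closure]
      congr 1
      simp only [Set.image_insert_eq, Set.image_singleton]
      rfl
    rw [h1]
    exact G2_le g.2
  obtain ⟨x, hx, he⟩ := h
  have : x = g := Subtype.ext he
  exact this ▸ hx

theorem relations : Relations sA sA' sC sC' m1 m2 y2 y2' y4 y4' y6 y6' y3 y5 y7 where
  top := closure_top
  hA := Subtype.ext (conj_n1 [33, 24] [14, 23] (by decide +kernel))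
  hC := Subtype.ext (conj_n2 [27, 25, 28] [20, 22, 19] (by decide +kernel))
  hn₂ := rfl
  h2 := rfl
  h2' := rfl
  h6 := rfl
  h6' := rfl
  h4 := rfl
  h4' := rfl
  h7 := rfl
  h3 := rfl
  h5 := rfl
  r1 := by
    apply Subtype.ext
    show gA⁻¹ * (y6' : GL chevF4.Idx (ZMod 2))⁻¹ * gA * y6' = y4'
    rw [coe_y6', coe_y4', gA, wd_inv, wd_inv, wd_append, wd_append, wd_append]
    exact wd_eq _ _ (by decide +kernel)
  r2 := by
    apply Subtype.ext
    show (y2 : GL chevF4.Idx (ZMod 2))⁻¹ * (y4 : GL chevF4.Idx (ZMod 2))⁻¹ * y2 * y4 = y3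
    rw [coe_y2, coe_y4, coe_y3, wd_inv, wd_inv, wd_append, wd_append, wd_append]
    exact wd_eq _ _ (by decide +kernel)
  r3 := by
    apply Subtype.ext
    show (y2' : GL chevF4.Idx (ZMod 2))⁻¹ * (gC * gC)⁻¹ * y2' * (gC * gC) = y4' * y5 * y6'
    rw [coe_y2', coe_y4', coe_y5, coe_y6', gC_sq, wd_inv, wd_inv, wd_append, wd_append, wd_append,
      wd_append, wd_append]
    exact wd_eq _ _ (by decide +kernel)

/-- the derived subgroup of `²F₄(2)` has index at most `2` -/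
theorem index_dvd : (commutator ↥(twistedF4 (ZMod 2) 1)).index ∣ 2 :=
  index_commutator_dvd relations

/-- if the derived subgroup of `²F₄(2)` has index `2`, then it is perfect -/
theorem perfect (h : (commutator ↥(twistedF4 (ZMod 2) 1)).index = 2) :
    ⁅commutator ↥(twistedF4 (ZMod 2) 1), commutator ↥(twistedF4 (ZMod 2) 1)⁆ =
      commutator ↥(twistedF4 (ZMod 2) 1) :=
  derived_two_eq relations h

end Cfsg.Agent.ChevalleyStructure.TwF4.TitsPerfect
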