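import Cfsg.Agent.ChevalleyStructure.F4Char2
import Cfsg.Agent.ChevalleyStructure.F4NTab
import Cfsg.Agent.ChevalleyStructure.TwF4.Rel

/-!
# The torus of F₄ and the matrices of the elements `n_r(1)` in characteristic 2

* `T c` (`c : Fin 4 → Kˣ`): the diagonal element acting on `e_s` by `chi c s = ∏ c_i ^ A_{p_i, s}`;
* `T_conj_X`: `T c * X r t * (T c)⁻¹ = X r (chi c r * t)`;
* `coe_nG`: the matrix of `n_r(1)` for every root `r`, entries `nG_inr`, `nG_inl_inr`;
* `nG_conj_T`: `n_r(1)` normalises the torus;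
* `diagonal_eq_range`: the diagonal subgroup is the range of `T`.
-/

set_option autoImplicit false

namespace Cfsg.Agent.ChevalleyStructure.TwF4.Torus

open Cfsg.Lie Cfsg.Agent.ChevalleyStructure.F4MaskBase Cfsg.Agent.ChevalleyStructure.F4Tab
  Cfsg.Agent.ChevalleyStructure.F4NTab Cfsg.Agent.ChevalleyStructure.F4Char2
open Cfsg.Agent.ChevalleyStructure.TwF4.Rel hiding cm

/-! ### facts read off the kernel checks -/

theorem all_of {p : ℕ → Bool} {n : ℕ} (h : (List.range n).all p = true) {r : ℕ} (hr : r < n) : p r = true :=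
  (List.all_eq_true.1 h) r (List.mem_range.2 hr)

theorem ca_eq {i s : ℕ} (hi : i < 4) (hs : s < 48) : chevF4.cartan i s = ca i s := by
  have h := all_of chk0_all hs
  simp only [chk0, Bool.and_eq_true, List.all_eq_true, beq_iff_eq] at h
  exact (h.1.1.1 i (List.mem_range.2 hi)).1.symm

theorem co_eq {i s : ℕ} (hi : i < 4) (hs : s < 48) : (chevF4.coroot.getD s #[]).getD i 0 = co s i := by
  have h := all_of chk0_all hs
  simp only [chk0, Bool.and_eq_true, List.all_eq_true, beq_iff_eq] at h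
  exact (h.1.1.1 i (List.mem_range.2 hi)).2.symm

theorem ng_eq {s : ℕ} (hs : s < 48) : chevF4.neg s = ng s := by
  have h := all_of chk0_all hs
  simp only [chk0, Bool.and_eq_true, List.all_eq_true, beq_iff_eq] at h
  exact h.1.1.2.symm

theorem cm_lt {s : ℕ} (hs : s < 48) : cm s < 16 := by
  have h := all_of chk0_all hs
  simp only [chk0, Bool.and_eq_true, List.all_eq_true, beq_iff_eq, decide_eq_true_eq] at h
  exact h.1.2

theorem cm_testBit {i s : ℕ} (hi : i < 4) (hs : s < 48) : (cm s).testBit i = !(decide (co s i % 2 = 0)) := by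
  have h := all_of chk0_all hs
  simp only [chk0, Bool.and_eq_true, List.all_eq_true, beq_iff_eq] at h
  exact h.2 i (List.mem_range.2 hi)

theorem len_XT {r : ℕ} (hr : r < 48) : (XT.getD r []).length = 52 := by
  have h := all_of chk1_all hr
  simp only [chk1, Bool.and_eq_true, beq_iff_eq] at h
  exact h.1.1.1.1.1

theorem len_YT {r : ℕ} (hr : r < 48) : (YT.getD r []).length = 52 := by
  have h := all_of chk1_all hr
  simp only [chk1, Bool.and_eq_true, beq_iff_eq] at h
  exact h.1.1.1.1.2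

theorem NT_eq {r : ℕ} (hr : r < 48) : NT r = mulL (mulL (x1 r) (x1 (ng r))) (x1 r) := by
  have h := all_of chk2_all hr
  simp only [chk2, beq_iff_eq] at h
  exact h

theorem wt_lt {r s : ℕ} (hr : r < 48) (hs : s < 48) : wt r s < 48 := by
  have h := all_of chk3_all hr
  simp only [chk3, Bool.and_eq_true, List.all_eq_true, beq_iff_eq, decide_eq_true_eq] at h
  exact (h s (List.mem_range.2 hs)).1

theorem wt_wt {r s : ℕ} (hr : r < 48) (hs : s < 48) : wt r (wt r s) = s := by
  have h := all_of chk3_all hr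
  simp only [chk3, Bool.and_eq_true, List.all_eq_true, beq_iff_eq, decide_eq_true_eq] at h
  exact (h s (List.mem_range.2 hs)).2

theorem lin_getD {a : ℤ} {v s r : List ℤ} (h : lin a v s r = true) (i : ℕ) :
    v.getD i 0 = s.getD i 0 - a * r.getD i 0 := by
  induction v generalizing s r i with
  | nil =>
    match s, r, h with
    | [], [], _ => simp
  | cons x v ih =>
    match s, r, h with
    | y :: s, z :: r, h =>
      simp only [lin, Bool.and_eq_true, beq_iff_eq] at h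
      cases i with
      | zero => simpa using h.1
      | succ i => simpa using ih h.2 i

theorem sel_cm {r s : ℕ} (hr : r < 48) (hs : s < 48) : sel ((NT r).take 4) (cm s) = cm (wt r s) := by
  have h := all_of chk4_all hr
  simp only [chk4, Bool.and_eq_true, List.all_eq_true, beq_iff_eq] at h
  exact (h s (List.mem_range.2 hs)).1.1

theorem ca_wt {r s : ℕ} (hr : r < 48) (hs : s < 48) (l : ℕ) : ca l (wt r s) = ca l s - ct r s * ca l r := by
  have h := all_of chk4_all hr
  simp only [chk4, Bool.and_eq_true, List.all_eq_true, beq_iff_eq] at h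
  exact lin_getD (h s (List.mem_range.2 hs)).1.2 l

theorem co_wt {r s : ℕ} (hr : r < 48) (hs : s < 48) (l : ℕ) : co (wt r s) l = co s l - ct s r * co r l := by
  have h := all_of chk4_all hr
  simp only [chk4, Bool.and_eq_true, List.all_eq_true, beq_iff_eq] at h
  exact lin_getD (h s (List.mem_range.2 hs)).2 l

theorem ct_eq {r s : ℕ} (hr : r < 48) (hs : s < 48) :
    ct r s = co r 0 * ca 0 s + co r 1 * ca 1 s + co r 2 * ca 2 s + co r 3 * ca 3 s := by
  have h := all_of chk4'_all hr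
  simp only [chk4', List.all_eq_true, beq_iff_eq] at h
  exact h s (List.mem_range.2 hs)

theorem mt_sum {r : ℕ} (hr : r < 48) :
    mt r 0 * ca 0 r + mt r 1 * ca 1 r + mt r 2 * ca 2 r + mt r 3 * ca 3 r = 1 := by
  have h := all_of chk5_all hr
  simp only [chk5, Bool.and_eq_true, List.all_eq_true, beq_iff_eq, decide_eq_true_eq] at h
  exact h.1.1.1.1

theorem ng_lt {r : ℕ} (hr : r < 48) : ng r < 48 := by
  have h := all_of chk5_all hr
  simp only [chk5, Bool.and_eq_true, List.all_eq_true, beq_iff_eq, decide_eq_true_eq] at h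
  exact h.1.1.1.2

theorem ct_self {r : ℕ} (hr : r < 48) : ct r r = 2 := by
  have h := all_of chk5_all hr
  simp only [chk5, Bool.and_eq_true, List.all_eq_true, beq_iff_eq, decide_eq_true_eq] at h
  exact h.1.1.2

theorem ng_ng {r : ℕ} (hr : r < 48) : ng (ng r) = r := by
  have h := all_of chk5_all hr
  simp only [chk5, Bool.and_eq_true, List.all_eq_true, beq_iff_eq, decide_eq_true_eq] at h
  exact h.1.2

theorem ca_ng {r : ℕ} (hr : r < 48) {l : ℕ} (hl : l < 4) : ca l (ng r) = - ca l r := by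
  have h := all_of chk5_all hr
  simp only [chk5, Bool.and_eq_true, List.all_eq_true, beq_iff_eq, decide_eq_true_eq] at h
  exact h.2 l (List.mem_range.2 hl)

theorem ng_eq_sub {r : ℕ} (hr : r < 48) : ng r = 47 - r := by
  have h : ((List.range 48).all fun r => ng r == 47 - r) = true := by decide +kernel
  have := all_of h hr
  simpa using this

/-! ### the torus -/

variable {K : Type*} [Field K]

/-- The character of the torus element with coordinates `c` on a vector of Cartan integers. -/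
def chiL (c : Fin 4 → Kˣ) (v : List ℤ) : Kˣ :=
  c 0 ^ v.getD 0 0 * c 1 ^ v.getD 1 0 * c 2 ^ v.getD 2 0 * c 3 ^ v.getD 3 0

/-- The value `∏ c_i ^ A_{p_i, s}` by which the torus element `T c` acts on `e_s`. -/
def chi (c : Fin 4 → Kˣ) (s : ℕ) : Kˣ := c 0 ^ ca 0 s * c 1 ^ ca 1 s * c 2 ^ ca 2 s * c 3 ^ ca 3 s

theorem chi_def (c : Fin 4 → Kˣ) (s : ℕ) :
    chi c s = c 0 ^ ca 0 s * c 1 ^ ca 1 s * c 2 ^ ca 2 s * c 3 ^ ca 3 s := rfl

theorem chiL_CA (c : Fin 4 → Kˣ) (s : ℕ) : chiL c (CA.getD s []) = chi c s := rfl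

theorem chi_one (s : ℕ) : chi (1 : Fin 4 → Kˣ) s = 1 := by simp [chi]

theorem chi_mul (c d : Fin 4 → Kˣ) (s : ℕ) : chi (c * d) s = chi c s * chi d s := by
  simp only [chi, Pi.mul_apply, mul_zpow]
  ac_rfl

theorem chi_inv (c : Fin 4 → Kˣ) (s : ℕ) : chi c⁻¹ s = (chi c s)⁻¹ := by
  rw [eq_inv_iff_mul_eq_one, ← chi_mul, inv_mul_cancel, chi_one]

theorem chiL_lin {a : ℤ} {v s r : List ℤ} (h : lin a v s r = true) (c : Fin 4 → Kˣ) :
    chiL c v = chiL c s * (chiL c r) ^ (-a) := by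
  have h' : ∀ i, v.getD i 0 = s.getD i 0 + r.getD i 0 * (-a) := fun i => by
    rw [lin_getD h i]; ring
  simp only [chiL, h', zpow_add, zpow_mul, mul_zpow]
  ac_rfl

/-- The character of `T c` on a basis vector. -/
def chiIdx (c : Fin 4 → Kˣ) (j : chevF4.Idx) : Kˣ := chiL c (wgt (pos j))

theorem chiIdx_inl (c : Fin 4 → Kˣ) (i : Fin chevF4.rank) : chiIdx c (Sum.inl i) = 1 := by
  have hi : i.val < 4 := i.2
  unfold chiIdx wgt
  rw [pos_inl, if_pos hi]
  simp [chiL]

theorem chiIdx_inr (c : Fin 4 → Kˣ) (s : Fin chevF4.nroots) : chiIdx c (Sum.inr s) = chi c s.val := by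
  unfold chiIdx wgt
  rw [pos_inr, if_neg (by omega), Nat.add_sub_cancel_left]
  rfl

theorem chiIdx_one (j : chevF4.Idx) : chiIdx (1 : Fin 4 → Kˣ) j = 1 := by
  rcases j with i | s
  · exact chiIdx_inl _ i
  · rw [chiIdx_inr, chi_one]

theorem chiIdx_mul (c d : Fin 4 → Kˣ) (j : chevF4.Idx) : chiIdx (c * d) j = chiIdx c j * chiIdx d j := by
  rcases j with i | s
  · rw [chiIdx_inl, chiIdx_inl, chiIdx_inl, mul_one]
  · rw [chiIdx_inr, chiIdx_inr, chiIdx_inr, chi_mul]

/-- The torus element with coordinates `c`. -/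
def T : (Fin 4 → Kˣ) →* GL chevF4.Idx K where
  toFun c :=
    { val := Matrix.diagonal fun j => (chiIdx c j : K)
      inv := Matrix.diagonal fun j => (((chiIdx c j)⁻¹ : Kˣ) : K)
      val_inv := by
        rw [Matrix.diagonal_mul_diagonal]
        simp
      inv_val := by
        rw [Matrix.diagonal_mul_diagonal]
        simp }
  map_one' := by
    apply Units.ext
    show Matrix.diagonal _ = _
    simp [chiIdx_one]
  map_mul' c d := by
    apply Units.ext
    show Matrix.diagonal _ = Matrix.diagonal _ * Matrix.diagonal _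
    rw [Matrix.diagonal_mul_diagonal]
    simp [chiIdx_mul]

theorem coe_T (c : Fin 4 → Kˣ) :
    ((T c : GL chevF4.Idx K) : Matrix chevF4.Idx chevF4.Idx K) = Matrix.diagonal fun j => (chiIdx c j : K) := rfl

theorem T_inr (c : Fin 4 → Kˣ) (s : Fin chevF4.nroots) :
    ((T c : GL chevF4.Idx K) : Matrix chevF4.Idx chevF4.Idx K) (Sum.inr s) (Sum.inr s) = (chi c s.val : K) := by
  rw [coe_T, Matrix.diagonal_apply_eq, chiIdx_inr]

theorem chi_ng (c : Fin 4 → Kˣ) {r : ℕ} (hr : r < 48) : chi c (ng r) = (chi c r)⁻¹ := by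
  unfold chi
  rw [ca_ng hr (by omega), ca_ng hr (by omega), ca_ng hr (by omega), ca_ng hr (by omega)]
  simp only [zpow_neg, mul_inv]

/-- Weights of the nonzero entries of `X_r` (`k = 1`) and `Y_r` (`k = 2`). -/
theorem weight_of_bit {k : ℤ} {r m : ℕ} {i j : chevF4.Idx} (hr : r < 48) (h : chkw k r (pos j) m = true)
    (hb : m.testBit (pos i) = true) (c : Fin 4 → Kˣ) : chiIdx c i = chi c r ^ k * chiIdx c j := by
  have key : lin k (wgt (pos i)) (wgt (pos j)) (CA.getD (ng r) []) = true := by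
    simp only [chkw, Bool.or_eq_true, Bool.and_eq_true, beq_iff_eq, decide_eq_true_eq] at h
    rcases h with (h | ⟨h, h'⟩) | ⟨⟨h, _⟩, h'⟩
    · rw [h, Nat.zero_testBit] at hb
      exact absurd hb (by simp)
    · have hi : pos i < 4 := by
        by_contra hc
        have : m < 2 ^ (pos i) := lt_of_lt_of_le h (by
          calc (16 : ℕ) = 2 ^ 4 := by norm_num
            _ ≤ 2 ^ (pos i) := Nat.pow_le_pow_right (by norm_num) (by omega))
        rw [Nat.testBit_lt_two_pow this] at hb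
        exact absurd hb (by simp)
      have : wgt (pos i) = [0, 0, 0, 0] := if_pos hi
      rw [this]
      exact h'
    · rw [h, Nat.testBit_two_pow] at hb
      have e : Nat.log2 m = pos i := of_decide_eq_true hb
      rw [← e]
      exact h'
  have h1 := chiL_lin key c
  rw [chiL_CA, chi_ng c hr] at h1
  unfold chiIdx
  rw [h1, inv_zpow', neg_neg, mul_comm]

variable [CharP K 2]

theorem T_mul_X (c : Fin 4 → Kˣ) {r : ℕ} (hr : r < 48) (t : K) : T c * X r t = X r (chi c r * t) * T c := by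
  apply Units.ext
  rw [Units.val_mul, Units.val_mul, coe_T, coe_X, coe_X]
  ext i j
  rw [Matrix.diagonal_mul, Matrix.mul_diagonal, x_entry hr, x_entry hr]
  have h := all_of chk6_all hr
  simp only [chk6, Bool.and_eq_true, List.all_eq_true] at h
  have h6 := h (pos j) (List.mem_range.2 (pos_lt j))
  have e0 : (chiIdx c i : K) * (if i = j then 1 else 0) = (if i = j then 1 else 0) * (chiIdx c j : K) := by
    by_cases hij : i = j
    · subst hij; simp
    · simp [hij]
  have e1 : (chiIdx c i : K) * b2 K ((xc r (pos j)).testBit (pos i)) =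
      (chi c r : K) * (chiIdx c j : K) * b2 K ((xc r (pos j)).testBit (pos i)) := by
    cases hb : (xc r (pos j)).testBit (pos i)
    · rw [b2_false, mul_zero, mul_zero]
    · rw [weight_of_bit hr h6.1 hb c, zpow_one, Units.val_mul]
  have e2 : (chiIdx c i : K) * b2 K ((yc r (pos j)).testBit (pos i)) =
      (chi c r : K) ^ 2 * (chiIdx c j : K) * b2 K ((yc r (pos j)).testBit (pos i)) := by
    cases hb : (yc r (pos j)).testBit (pos i)
    · rw [b2_false, mul_zero, mul_zero]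
    · rw [weight_of_bit hr h6.2 hb c, Units.val_mul]
      norm_cast
  linear_combination e0 + t * e1 + t ^ 2 * e2

theorem T_conj_X (c : Fin 4 → Kˣ) {r : ℕ} (hr : r < 48) (t : K) :
    T c * X r t * (T c)⁻¹ = X r (chi c r * t) := by
  rw [T_mul_X c hr, mul_inv_cancel_right]

/-! ### the matrices of the elements `n_r(1)` -/

theorem x1_len {r : ℕ} (hr : r < 48) : (x1 r).length = 52 := by
  unfold x1 addL
  rw [List.length_zipWith, List.length_zipWith, len_XT hr, len_YT hr]
  rfl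

theorem coe_X_one {r : ℕ} (hr : r < 48) : chevF4.x K r 1 = toM K (x1 r) := by
  have h1 : oneL.length = (XT.getD r []).length := by rw [len_XT hr]; rfl
  have h2 : (addL oneL (XT.getD r [])).length = (YT.getD r []).length := by
    unfold addL
    rw [List.length_zipWith, len_XT hr, len_YT hr]; rfl
  rw [x_eq hr, one_smul, one_pow, one_smul]
  unfold x1
  rw [toM_add K _ _ h2, toM_add K _ _ h1, toM_one]
  rfl

theorem coe_nG {r : ℕ} (hr : r < 48) :
    ((nG K r : GL chevF4.Idx K) : Matrix chevF4.Idx chevF4.Idx K) = toM K (NT r) := by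
  have hn : 47 - r < 48 := by omega
  unfold nG
  rw [Units.val_mul, Units.val_mul, coe_X, coe_X, coe_X_one hr, coe_X_one hn, NT_eq hr, ng_eq_sub hr]
  rw [toM_mul K _ _ (by unfold mulL; rw [List.length_map, x1_len hn]),
    toM_mul K _ _ (by rw [x1_len hr])]

theorem NT_getD {r j : ℕ} (hj : j < 52) : (NT r).getD j 0 = nt r j := by
  unfold NT
  rw [List.getD_eq_getElem _ _ (by simpa using hj)]
  simp

theorem nG_inr {r : ℕ} (hr : r < 48) (i : chevF4.Idx) (s : Fin chevF4.nroots) :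
    ((nG K r : GL chevF4.Idx K) : Matrix chevF4.Idx chevF4.Idx K) i (Sum.inr s) =
      if pos i = 4 + wt r s.val then 1 else 0 := by
  rw [coe_nG hr, toM_apply, NT_getD (pos_lt _), pos_inr]
  have h1 : nt r (4 + s.val) = 2 ^ (4 + wt r s.val) := by
    unfold nt
    rw [if_neg (by omega), Nat.add_sub_cancel_left]
  rw [h1, Nat.testBit_two_pow]
  by_cases h : 4 + wt r s.val = pos i
  · rw [if_pos h.symm, decide_eq_true h, b2_true]
  · rw [if_neg (fun e => h e.symm), decide_eq_false h, b2_false]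

theorem nt_lt {r j : ℕ} (hr : r < 48) (hj : j < 4) : nt r j < 16 := by
  unfold nt
  rw [if_pos hj]
  have h1 : (2 : ℕ) ^ j < 2 ^ 4 := Nat.pow_lt_pow_right (by norm_num) hj
  have h2 : (if ca j r % 2 = 0 then 0 else cm r) < 2 ^ 4 := by
    split_ifs
    · norm_num
    · exact cm_lt hr
  exact Nat.xor_lt_two_pow h1 h2

theorem nG_inl_inr {r : ℕ} (hr : r < 48) (u : Fin chevF4.nroots) (l : Fin chevF4.rank) :
    ((nG K r : GL chevF4.Idx K) : Matrix chevF4.Idx chevF4.Idx K) (Sum.inr u) (Sum.inl l) = 0 := by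
  rw [coe_nG hr, toM_apply, NT_getD (pos_lt _), pos_inr, pos_inl]
  have h1 := nt_lt hr (show l.val < 4 from l.2)
  have h2 : nt r l.val < 2 ^ (4 + u.val) := lt_of_lt_of_le h1 (by
    calc (16 : ℕ) = 2 ^ 4 := by norm_num
      _ ≤ 2 ^ (4 + u.val) := Nat.pow_le_pow_right (by norm_num) (by omega))
  rw [Nat.testBit_lt_two_pow h2, b2_false]

theorem co_cast {s l : ℕ} (hs : s < 48) (hl : l < 4) : ((co s l : ℤ) : K) = b2 K ((cm s).testBit l) := by
  rw [cm_testBit hl hs, int_cast_eq]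
  by_cases h : co s l % 2 = 0
  · rw [if_pos h, decide_eq_true h]; rfl
  · rw [if_neg h, decide_eq_false h]; rfl

/-- `n_r(1)` maps the coroot `h_s` to `h_{w_r(s)}` (mod 2). -/
theorem nG_cor {r : ℕ} (hr : r < 48) {s : ℕ} (hs : s < 48) (m : Fin chevF4.rank) :
    ∑ l : Fin chevF4.rank, ((nG K r : GL chevF4.Idx K) : Matrix chevF4.Idx chevF4.Idx K) (Sum.inl m) (Sum.inl l) *
      ((co s l.val : ℤ) : K) = ((co (wt r s) m.val : ℤ) : K) := by
  have hm : m.val < 4 := m.2
  rw [co_cast (wt_lt hr hs) hm, ← sel_cm hr hs, testBit_sel]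
  have hl : ((NT r).take 4).length = 4 := by
    rw [List.length_take]
    unfold NT
    rw [List.length_map, List.length_range]; rfl
  rw [hl, ← Fin.sum_univ_eq_sum_range (fun k => b2 K ((((NT r).take 4).getD k 0).testBit m.val) * b2 K ((cm s).testBit k)) 4]
  refine Finset.sum_congr rfl fun l _ => ?_
  have hl4 : l.val < 4 := l.2
  rw [coe_nG hr, toM_apply, co_cast hs hl4, pos_inl, pos_inl]
  congr 3
  rw [List.getD_eq_getElem?_getD, List.getD_eq_getElem?_getD, List.getElem?_take, if_pos hl4]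

/-! ### `n_r(1)` normalises the torus -/

/-- The transformation of torus coordinates by the reflection in `r`. -/
def tw (r : ℕ) (c : Fin 4 → Kˣ) : Fin 4 → Kˣ := fun l => c l * (chi c r) ^ (-co r l.val)

omit [CharP K 2] in
theorem prod_pow_aux (a : Kˣ) (x y z w x' y' z' w' : ℤ) :
    (a ^ (-x)) ^ x' * (a ^ (-y)) ^ y' * (a ^ (-z)) ^ z' * (a ^ (-w)) ^ w' =
      a ^ (-(x * x' + y * y' + z * z' + w * w')) := by
  rw [← zpow_mul, ← zpow_mul, ← zpow_mul, ← zpow_mul, ← zpow_add, ← zpow_add, ← zpow_add]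
  congr 1
  ring

omit [CharP K 2] in
theorem chi_tw {r s : ℕ} (hr : r < 48) (hs : s < 48) (c : Fin 4 → Kˣ) :
    chi (tw r c) s = chi c s * (chi c r) ^ (-ct r s) := by
  rw [ct_eq hr hs, ← prod_pow_aux]
  conv_lhs => rw [chi_def]
  simp only [tw, mul_zpow]
  conv_rhs => rw [chi_def c s]
  show _ * (chi c r ^ (-co r 0)) ^ ca 0 s * (_ * (chi c r ^ (-co r 1)) ^ ca 1 s) *
    (_ * (chi c r ^ (-co r 2)) ^ ca 2 s) * (_ * (chi c r ^ (-co r 3)) ^ ca 3 s) = _
  ac_rfl

omit [CharP K 2] in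
theorem chi_wt {r s : ℕ} (hr : r < 48) (hs : s < 48) (c : Fin 4 → Kˣ) :
    chi c (wt r s) = chi c s * (chi c r) ^ (-ct r s) := by
  have h' : ∀ l, ca l (wt r s) = ca l s + ca l r * (-ct r s) := fun l => by
    rw [ca_wt hr hs]; ring
  conv_lhs => rw [chi_def]
  simp only [h', zpow_add, zpow_mul]
  conv_rhs => rw [chi_def c s, chi_def c r]
  simp only [mul_zpow]
  ac_rfl

omit [CharP K 2] in
theorem chi_tw_eq {r s : ℕ} (hr : r < 48) (hs : s < 48) (c : Fin 4 → Kˣ) :
    chi (tw r c) s = chi c (wt r s) := by rw [chi_tw hr hs, chi_wt hr hs]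

theorem nG_mul_T {r : ℕ} (hr : r < 48) (c : Fin 4 → Kˣ) : nG K r * T c = T (tw r c) * nG K r := by
  apply Units.ext
  rw [Units.val_mul, Units.val_mul, coe_T, coe_T]
  ext i j
  rw [Matrix.mul_diagonal, Matrix.diagonal_mul]
  rcases j with l | s
  · rw [chiIdx_inl, Units.val_one, mul_one]
    rcases i with m | u
    · rw [chiIdx_inl, Units.val_one, one_mul]
    · rw [nG_inl_inr hr, mul_zero]
  · rw [nG_inr hr]
    by_cases h : pos i = 4 + wt r s.val
    · rw [if_pos h, one_mul, mul_one]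
      rcases i with m | u
      · rw [pos_inl] at h
        have : m.val < 4 := m.2
        omega
      · rw [pos_inr] at h
        have hu : u.val = wt r s.val := by omega
        rw [chiIdx_inr, chiIdx_inr, hu, chi_tw_eq hr (wt_lt hr s.2), wt_wt hr s.2]
    · rw [if_neg h, zero_mul, mul_zero]

theorem nG_conj_T {r : ℕ} (hr : r < 48) (c : Fin 4 → Kˣ) : nG K r * T c * (nG K r)⁻¹ = T (tw r c) := by
  rw [nG_mul_T hr, mul_inv_cancel_right]

theorem nG_mul_self' (r : ℕ) : nG K r * nG K r = 1 := by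
  unfold nG
  calc X r 1 * X (47 - r) 1 * X r 1 * (X r 1 * X (47 - r) 1 * X r (1 : K))
      = X r 1 * X (47 - r) 1 * (X r 1 * X r 1) * X (47 - r) 1 * X r (1 : K) := by group
    _ = X r 1 * (X (47 - r) 1 * X (47 - r) 1) * X r (1 : K) := by rw [X_mul_self]; group
    _ = 1 := by rw [X_mul_self, mul_one, X_mul_self]

theorem nG_inv' (r : ℕ) : (nG K r)⁻¹ = nG K r := by rw [inv_eq_iff_mul_eq_one, nG_mul_self']

/-! ### the elements `h_r(t)` and the diagonal subgroup -/

/-- torus coordinates of `h_r(t)` -/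
def hc (r : ℕ) (t : Kˣ) : Fin 4 → Kˣ := fun l => t ^ (co r l.val)

omit [CharP K 2] in
theorem exists_chi_eq {r : ℕ} (hr : r < 48) (t : Kˣ) : ∃ c : Fin 4 → Kˣ, chi c r = t := by
  refine ⟨fun l => t ^ (mt r l.val), ?_⟩
  rw [chi_def]
  show (t ^ mt r 0) ^ ca 0 r * (t ^ mt r 1) ^ ca 1 r * (t ^ mt r 2) ^ ca 2 r * (t ^ mt r 3) ^ ca 3 r = t
  rw [← zpow_mul, ← zpow_mul, ← zpow_mul, ← zpow_mul, ← zpow_add, ← zpow_add, ← zpow_add, mt_sum hr, zpow_one]

/-- `h_r(t)` as an element of `GL`. -/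
theorem hMat_eq {r : ℕ} (hr : r < 48) (t : Kˣ) :
    chevF4.hMat K r (t : K) = ((T (hc r t) : GL chevF4.Idx K) : Matrix chevF4.Idx chevF4.Idx K) := by
  obtain ⟨c, hc'⟩ := exists_chi_eq hr t
  have hn : 47 - r < 48 := by omega
  have hneg : chevF4.neg r = 47 - r := by rw [ng_eq hr, ng_eq_sub hr]
  have e1 : T c * nG K r * (T c)⁻¹ = X r (t : K) * X (47 - r) ((t : K)⁻¹) * X r (t : K) := by
    have h1 := T_conj_X (K := K) c hr 1
    have h2 := T_conj_X (K := K) c hn 1
    have h3 : chi c (47 - r) = t⁻¹ := by rw [← ng_eq_sub hr, chi_ng c hr, hc']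
    rw [hc', mul_one] at h1
    rw [h3, mul_one, Units.val_inv_eq_inv_val] at h2
    unfold nG
    rw [← h1, ← h2]
    group
  have e2 : chevF4.hMat K r (t : K) = ((T c * nG K r * (T c)⁻¹ * nG K r : GL chevF4.Idx K) :
      Matrix chevF4.Idx chevF4.Idx K) := by
    rw [e1]
    unfold nG
    have h1 : (-(-1 : K)⁻¹) = 1 := by rw [inv_neg, inv_one, neg_neg]
    have h2 : (-1 : K) = 1 := CharTwo.neg_eq 1
    have h3 : -(t : K)⁻¹ = (t : K)⁻¹ := CharTwo.neg_eq _
    show chevF4.wordMat K ([(r, (t : K)), (chevF4.neg r, -(t : K)⁻¹), (r, (t : K))] ++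
      [(r, (-1 : K)), (chevF4.neg r, -(-1 : K)⁻¹), (r, (-1 : K))]) = _
    rw [h1, h2, h3, hneg, ← coe_W]
    congr 1
    simp [W_cons, W_nil, mul_assoc]
  have e3 : T c * nG K r * (T c)⁻¹ * nG K r = T (c * tw r c⁻¹) := by
    have h := nG_conj_T (K := K) hr c⁻¹
    rw [nG_inv', map_inv] at h
    rw [map_mul, ← h]
    group
  rw [e2, e3]
  congr 2
  funext l
  show c l * (c⁻¹ l * (chi c⁻¹ r) ^ (-co r l.val)) = t ^ co r l.val
  rw [chi_inv, hc', Pi.inv_apply, mul_inv_cancel_left, inv_zpow', neg_neg]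

omit [CharP K 2] in
theorem single_mul_prod (c : Fin 4 → Kˣ) :
    c = hc 33 (c 0) * hc 27 (c 1) * hc 25 (c 2) * hc 24 (c 3) := by
  funext l
  show c l = (c 0) ^ co 33 l.val * (c 1) ^ co 27 l.val * (c 2) ^ co 25 l.val * (c 3) ^ co 24 l.val
  fin_cases l <;> simp [co, CO]

/-- The diagonal subgroup is the range of `T`. -/
theorem diagonal_eq_range : chevF4.diagonalSubgroup K = (T : (Fin 4 → Kˣ) →* GL chevF4.Idx K).range := by
  apply le_antisymm
  · unfold ChevalleyDatum.diagonalSubgroup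
    rw [Subgroup.closure_le]
    rintro g ⟨r, t, hr, ht, hg⟩
    have hr' : r < 48 := hr
    refine ⟨hc r (Units.mk0 t ht), ?_⟩
    apply Units.ext
    rw [← hMat_eq hr', hg]
    rfl
  · rintro _ ⟨c, rfl⟩
    have key : ∀ r, r < 48 → ∀ t : Kˣ, T (hc r t) ∈ chevF4.diagonalSubgroup K := by
      intro r hr t
      exact Subgroup.subset_closure ⟨r, t, hr, t.ne_zero, (hMat_eq hr t).symm⟩
    rw [single_mul_prod c, map_mul, map_mul, map_mul]
    exact mul_mem (mul_mem (mul_mem (key 33 (by omega) _) (key 27 (by omega) _)) (key 25 (by omega) _))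
      (key 24 (by omega) _)

/-- `n_r(1)` as a matrix of the datum. -/
theorem nMat_eq {r : ℕ} (hr : r < 48) :
    chevF4.nMat K r 1 = ((nG K r : GL chevF4.Idx K) : Matrix chevF4.Idx chevF4.Idx K) := by
  have hneg : chevF4.neg r = 47 - r := by rw [ng_eq hr, ng_eq_sub hr]
  have h1 : (-(1 : K)⁻¹) = 1 := by rw [inv_one]; exact CharTwo.neg_eq 1
  show chevF4.wordMat K [(r, (1 : K)), (chevF4.neg r, -(1 : K)⁻¹), (r, (1 : K))] = _
  rw [h1, hneg, ← coe_W]
  congr 1
  simp [W_cons, W_nil, mul_assoc, nG]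

theorem unimod {G : Type*} [CommGroup G] (a b c d : G) (h1 : a ^ 2 = b) (h2 : b ^ 2 = a * c)
    (h3 : c ^ 2 = b ^ 2 * d) (h4 : d ^ 2 = c) : a = 1 ∧ b = 1 ∧ c = 1 ∧ d = 1 := by
  subst h1 h4
  have e1 : a ^ 3 = d ^ 2 := by
    have : a * a ^ 3 = a * d ^ 2 := by rw [← h2]; group
    exact mul_left_cancel this
  have e2 : d ^ 3 = a ^ 4 := by
    have : d * d ^ 3 = d * a ^ 4 := by
      calc d * d ^ 3 = (d ^ 2) ^ 2 := by group
        _ = (a ^ 2) ^ 2 * d := h3
        _ = d * a ^ 4 := by rw [mul_comm]; group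
    exact mul_left_cancel this
  have e3 : a = 1 := by
    have h9 : a ^ 9 = a ^ 8 := by
      calc a ^ 9 = (a ^ 3) ^ 3 := by group
        _ = (d ^ 3) ^ 2 := by rw [e1]; group
        _ = a ^ 8 := by rw [e2]; group
    have : a ^ 8 * a = a ^ 8 * 1 := by
      calc a ^ 8 * a = a ^ 9 := by group
        _ = a ^ 8 := h9
        _ = a ^ 8 * 1 := (mul_one _).symm
    exact mul_left_cancel this
  subst e3
  have e4 : d = 1 := by
    have h2' : d ^ 2 = 1 := by rw [← e1, one_pow]
    have h3' : d ^ 3 = 1 := by rw [e2, one_pow]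
    calc d = d ^ 3 * (d ^ 2)⁻¹ := by group
      _ = 1 := by rw [h3', h2', inv_one, mul_one]
  subst e4
  simp

theorem tab33 : ca 0 33 = 2 ∧ ca 1 33 = -1 ∧ ca 2 33 = 0 ∧ ca 3 33 = 0 := by decide
theorem tab27 : ca 0 27 = -1 ∧ ca 1 27 = 2 ∧ ca 2 27 = -1 ∧ ca 3 27 = 0 := by decide
theorem tab25 : ca 0 25 = 0 ∧ ca 1 25 = -2 ∧ ca 2 25 = 2 ∧ ca 3 25 = -1 := by decide
theorem tab24 : ca 0 24 = 0 ∧ ca 1 24 = 0 ∧ ca 2 24 = -1 ∧ ca 3 24 = 2 := by decide

omit [CharP K 2] in
theorem chi33 (c : Fin 4 → Kˣ) : chi c 33 = (c 0) ^ 2 * (c 1)⁻¹ := by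
  rw [chi_def, tab33.1, tab33.2.1, tab33.2.2.1, tab33.2.2.2]
  simp

omit [CharP K 2] in
theorem chi27 (c : Fin 4 → Kˣ) : chi c 27 = (c 0)⁻¹ * (c 1) ^ 2 * (c 2)⁻¹ := by
  rw [chi_def, tab27.1, tab27.2.1, tab27.2.2.1, tab27.2.2.2]
  simp

omit [CharP K 2] in
theorem chi25 (c : Fin 4 → Kˣ) : chi c 25 = ((c 1) ^ 2)⁻¹ * (c 2) ^ 2 * (c 3)⁻¹ := by
  rw [chi_def, tab25.1, tab25.2.1, tab25.2.2.1, tab25.2.2.2]
  simp

omit [CharP K 2] in
theorem chi24 (c : Fin 4 → Kˣ) : chi c 24 = (c 2)⁻¹ * (c 3) ^ 2 := by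
  rw [chi_def, tab24.1, tab24.2.1, tab24.2.2.1, tab24.2.2.2]
  simp

omit [CharP K 2] in
/-- The four values on the fundamental roots determine the torus coordinates. -/
theorem eq_one_of_chi {c : Fin 4 → Kˣ} (h1 : chi c 33 = 1) (h2 : chi c 27 = 1) (h3 : chi c 25 = 1)
    (h4 : chi c 24 = 1) : c = 1 := by
  rw [chi33] at h1
  rw [chi27] at h2
  rw [chi25] at h3
  rw [chi24] at h4
  have e1 : (c 0) ^ 2 = c 1 := by rwa [mul_inv_eq_one] at h1
  have e2 : (c 1) ^ 2 = c 0 * c 2 := by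
    rw [mul_inv_eq_one, inv_mul_eq_iff_eq_mul] at h2
    exact h2
  have e3 : (c 2) ^ 2 = (c 1) ^ 2 * c 3 := by
    rw [mul_inv_eq_one, inv_mul_eq_iff_eq_mul] at h3
    exact h3
  have e4 : (c 3) ^ 2 = c 2 := by
    rw [inv_mul_eq_one] at h4
    exact h4.symm
  obtain ⟨f0, f1, f2, f3⟩ := unimod _ _ _ _ e1 e2 e3 e4
  funext l
  fin_cases l
  · exact f0
  · exact f1
  · exact f2
  · exact f3

omit [CharP K 2] in
theorem T_injective : Function.Injective (T : (Fin 4 → Kˣ) →* GL chevF4.Idx K) := by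
  rw [injective_iff_map_eq_one]
  intro c hc
  have key : ∀ s, s < 48 → chi c s = 1 := by
    intro s hs
    have h := T_inr c (⟨s, hs⟩ : Fin chevF4.nroots)
    rw [hc, Units.val_one, Matrix.one_apply_eq] at h
    exact Units.ext h.symm
  exact eq_one_of_chi (key 33 (by omega)) (key 27 (by omega)) (key 25 (by omega)) (key 24 (by omega))

end Cfsg.Agent.ChevalleyStructure.TwF4.Torus
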