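import Cfsg.Agent.ChevalleyStructure.TwF4.RankOne
import Cfsg.Prelude.Def_LieTwisted

/-!
The twisted group `²F₄`: it is contained in `Fix φ` (`φ(x) = x^(2^(m+1))`), the elements of
`X_{S_1} ⊓ Fix`, `X_{S_8} ⊓ Fix` are exactly the generating words, `n₁, n₂` lie in it, and
`U ⊓ Fix φ` is contained in it.
-/

set_option autoImplicit false
set_option linter.unusedSectionVars false

namespace Cfsg.Agent.ChevalleyStructure.TwF4.Twisted

open Cfsg.Lie Cfsg.Agent.ChevalleyStructure.TwF4.Bits Cfsg.Agent.ChevalleyStructure.TwF4.Tables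
open Cfsg.Agent.ChevalleyStructure.TwF4.Rel Cfsg.Agent.ChevalleyStructure.TwF4.Fix
open Cfsg.Agent.ChevalleyStructure.TwF4.Groups Cfsg.Agent.ChevalleyStructure.TwF4.RankOne

/-- a finite field with `2^(2m+1)` elements has characteristic 2 -/
theorem charP_two {K : Type*} [Field K] [Fintype K] {n : ℕ}
    (hK : Fintype.card K = 2 ^ n) : CharP K 2 := by
  obtain ⟨p, hp⟩ := CharP.exists K
  haveI := hp
  obtain ⟨k, hpp, hk⟩ := FiniteField.card K p
  have h1 : p ∣ 2 ^ n := by
    rw [← hK, hk]
    exact dvd_pow_self p k.ne_zero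
  have h2 : p ∣ 2 := hpp.dvd_of_dvd_pow h1
  have h3 : p = 2 := (Nat.prime_dvd_prime_iff_eq hpp Nat.prime_two).1 h2
  rw [← h3]
  exact hp

variable {K : Type*} [Field K] [CharP K 2]

/-! ### generic word computations -/

/-- letters commute -/
theorem comm_of_cm_nil (r s : ℕ) (hr : 24 ≤ r) (hr' : r < 48) (hs : 24 ≤ s) (hs' : s < 48)
    (hrs : r ≠ s) (h : cm r s = []) (t u : K) : X r t * X s u = X s u * X r t := by
  rw [comm_rel r s hr hr' hs hs' hrs, h]
  simp [wordK]

theorem c24_33 (t u : K) : X 24 t * X 33 u = X 33 u * X 24 t :=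
  comm_of_cm_nil 24 33 (by decide) (by decide) (by decide) (by decide) (by decide) (by decide) t u
theorem c27_28 (t u : K) : X 27 t * X 28 u = X 28 u * X 27 t :=
  comm_of_cm_nil 27 28 (by decide) (by decide) (by decide) (by decide) (by decide) (by decide) t u
theorem c27_30 (t u : K) : X 27 t * X 30 u = X 30 u * X 27 t :=
  comm_of_cm_nil 27 30 (by decide) (by decide) (by decide) (by decide) (by decide) (by decide) t u
theorem c25_28 (t u : K) : X 25 t * X 28 u = X 28 u * X 25 t :=
  comm_of_cm_nil 25 28 (by decide) (by decide) (by decide) (by decide) (by decide) (by decide) t u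
theorem c25_30 (t u : K) : X 25 t * X 30 u = X 30 u * X 25 t :=
  comm_of_cm_nil 25 30 (by decide) (by decide) (by decide) (by decide) (by decide) (by decide) t u
theorem c28_30 (t u : K) : X 28 t * X 30 u = X 30 u * X 28 t :=
  comm_of_cm_nil 28 30 (by decide) (by decide) (by decide) (by decide) (by decide) (by decide) t u

theorem c25_27 (t u : K) :
    X 25 t * X 27 u = X 27 u * X 28 (t * u) * X 30 (t * u ^ 2) * X 25 t := by
  rw [comm_rel 25 27 (by decide) (by decide) (by decide) (by decide) (by decide)]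
  have h : cm 25 27 = [(28, 1, 1), (30, 1, 2)] := by decide
  rw [h]
  simp [wordK, W_cons, mul_assoc]

/-- normal form for the class of type `B₂` -/
def NF (a b c d : K) : GL chevF4.Idx K := X 27 a * X 25 b * X 28 c * X 30 d

theorem X27_NF (t a b c d : K) : X 27 t * NF a b c d = NF (t + a) b c d := by
  unfold NF
  rw [← mul_assoc, ← mul_assoc, ← mul_assoc, X_add]

theorem X28_NF (t a b c d : K) : X 28 t * NF a b c d = NF a b (t + c) d := by
  unfold NF
  rw [← X_add]
  calc X 28 t * (X 27 a * X 25 b * X 28 c * X 30 d) = (X 28 t * X 27 a) * X 25 b * X 28 c * X 30 d := by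
        group
    _ = X 27 a * (X 28 t * X 25 b) * X 28 c * X 30 d := by rw [← c27_28]; group
    _ = _ := by rw [← c25_28]; group

theorem X30_NF (t a b c d : K) : X 30 t * NF a b c d = NF a b c (t + d) := by
  unfold NF
  rw [← X_add]
  calc X 30 t * (X 27 a * X 25 b * X 28 c * X 30 d) = (X 30 t * X 27 a) * X 25 b * X 28 c * X 30 d := by
        group
    _ = X 27 a * (X 30 t * X 25 b) * X 28 c * X 30 d := by rw [← c27_30]; group
    _ = X 27 a * X 25 b * (X 30 t * X 28 c) * X 30 d := by rw [← c25_30]; group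
    _ = _ := by rw [← c28_30]; group

theorem X25_NF (t a b c d : K) :
    X 25 t * NF a b c d = NF a (t + b) (t * a + c) (t * a ^ 2 + d) := by
  unfold NF
  rw [← X_add, ← X_add, ← X_add]
  calc X 25 t * (X 27 a * X 25 b * X 28 c * X 30 d) = (X 25 t * X 27 a) * X 25 b * X 28 c * X 30 d := by
        group
    _ = X 27 a * (X 28 (t * a) * X 30 (t * a ^ 2)) * (X 25 t * X 25 b) * X 28 c * X 30 d := by
        rw [c25_27]; group
    _ = X 27 a * (X 28 (t * a) * X 30 (t * a ^ 2)) * (X 25 (t + b)) * X 28 c * X 30 d := by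
        rw [X_add]
    _ = X 27 a * X 28 (t * a) * (X 30 (t * a ^ 2) * X 25 (t + b)) * X 28 c * X 30 d := by group
    _ = X 27 a * (X 28 (t * a) * X 25 (t + b)) * X 30 (t * a ^ 2) * X 28 c * X 30 d := by
        rw [← c25_30]; group
    _ = X 27 a * X 25 (t + b) * X 28 (t * a) * (X 30 (t * a ^ 2) * X 28 c) * X 30 d := by
        rw [← c25_28]; group
    _ = _ := by rw [← c28_30, ← X_add]; group

theorem NF_one : NF (0 : K) 0 0 0 = 1 := by
  unfold NF
  rw [X_zero, X_zero, X_zero, X_zero]
  simp

theorem cls8_cases : ((List.range 48).all fun r => !(clsB 8 r) || (r == 25 || r == 27 || r == 28 || r == 30)) =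
    true := by decide +kernel

theorem cls1_cases : ((List.range 48).all fun r => !(clsB 1 r) || (r == 24 || r == 33)) =
    true := by decide +kernel

/-- the elements of `X_{S_8}` -/
theorem mem_cls8 (g : GL chevF4.Idx K) (hg : g ∈ GA K (clsB 8)) :
    ∃ a b c d : K, g = NF a b c d := by
  have key : ∀ x ∈ {g | ∃ (r : ℕ) (t : K), r < 48 ∧ clsB 8 r = true ∧ g = X r t},
      ∀ y : GL chevF4.Idx K, (∃ a b c d : K, y = NF a b c d) → ∃ a b c d : K, x * y = NF a b c d := by
    rintro x ⟨r, t, hr, hA, rfl⟩ y ⟨a, b, c, d, rfl⟩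
    have h := cls8_cases
    rw [List.all_eq_true] at h
    have h1 := h r (List.mem_range.2 hr)
    rw [hA] at h1
    simp only [Bool.not_true, Bool.false_or, Bool.or_eq_true, beq_iff_eq] at h1
    rcases h1 with ((rfl | rfl) | rfl) | rfl
    · exact ⟨_, _, _, _, X25_NF t a b c d⟩
    · exact ⟨_, _, _, _, X27_NF t a b c d⟩
    · exact ⟨_, _, _, _, X28_NF t a b c d⟩
    · exact ⟨_, _, _, _, X30_NF t a b c d⟩
  unfold GA at hg
  induction hg using Subgroup.closure_induction_left with
  | one => exact ⟨0, 0, 0, 0, NF_one.symm⟩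
  | mul_left x hx y _ ih => exact key x hx y ih
  | inv_mul_cancel x hx y _ ih =>
    obtain ⟨r, t, hr, hA, rfl⟩ := hx
    rw [X_inv]
    exact key _ ⟨r, t, hr, hA, rfl⟩ y ih

/-- the elements of `X_{S_1}` -/
theorem mem_cls1 (g : GL chevF4.Idx K) (hg : g ∈ GA K (clsB 1)) :
    ∃ a b : K, g = X 33 a * X 24 b := by
  have key : ∀ x ∈ {g | ∃ (r : ℕ) (t : K), r < 48 ∧ clsB 1 r = true ∧ g = X r t},
      ∀ y : GL chevF4.Idx K, (∃ a b : K, y = X 33 a * X 24 b) →
        ∃ a b : K, x * y = X 33 a * X 24 b := by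
    rintro x ⟨r, t, hr, hA, rfl⟩ y ⟨a, b, rfl⟩
    have h := cls1_cases
    rw [List.all_eq_true] at h
    have h1 := h r (List.mem_range.2 hr)
    rw [hA] at h1
    simp only [Bool.not_true, Bool.false_or, Bool.or_eq_true, beq_iff_eq] at h1
    rcases h1 with rfl | rfl
    · refine ⟨a, t + b, ?_⟩
      rw [← X_add, ← mul_assoc, c24_33, mul_assoc]
    · refine ⟨t + a, b, ?_⟩
      rw [← X_add, mul_assoc]
  unfold GA at hg
  induction hg using Subgroup.closure_induction_left with
  | one => exact ⟨0, 0, by simp [X_zero]⟩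
  | mul_left x hx y _ ih => exact key x hx y ih
  | inv_mul_cancel x hx y _ ih =>
    obtain ⟨r, t, hr, hA, rfl⟩ := hx
    rw [X_inv]
    exact key _ ⟨r, t, hr, hA, rfl⟩ y ih

/-! ### columns of the root elements -/

/-- the basis vector at position `n` -/
def ev' (K : Type*) [Field K] (n : ℕ) : chevF4.Idx → K := Pi.single (ofPos n) 1

theorem x_mulVec (r : ℕ) (hr : r < 48) (c : ℕ) (hc : c < 52) (t : K) :
    (chevF4.x K r t).mulVec (ev' K c) =
      ev' K c + ((colT r c).map fun e => t ^ e.2 • ev' K e.1).sum := by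
  funext i
  have hr' : r < chevF4.nroots := hr
  have hxe : chevF4.x K r t = chevF4.xMat K ⟨r, hr'⟩ t := dif_pos hr'
  have h1 : (chevF4.x K r t).mulVec (ev' K c) i = chevF4.x K r t i (ofPos c) := by
    unfold ev'
    rw [Matrix.mulVec_single_one]
    rfl
  have h2 : colOdd r (pos (ofPos c)) = colT r (pos (ofPos c)) := colOdd_eq r _ hr (posOK.lt _)
  rw [h1, hxe, xMat_eq_colZ, sum_odd]
  have h3 := h2
  unfold colOdd at h3
  rw [h3, pos_ofPos c hc, Pi.add_apply]
  congr 1
  · unfold ev'
    rw [Pi.single_apply]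
  · have h5 : ∀ l : List (ℕ × ℕ), (∀ e ∈ l, e.1 < 52) →
        (l.map fun x => if x.1 = pos i then t ^ x.2 else 0).sum =
        ((l.map fun e => t ^ e.2 • ev' K e.1).sum) i := by
      intro l hl
      induction l with
      | nil => simp
      | cons e l ih =>
        rw [List.map_cons, List.map_cons, List.sum_cons, List.sum_cons, Pi.add_apply,
          ← ih (fun q hq => hl q (List.mem_cons_of_mem _ hq))]
        congr 1
        unfold ev'
        rw [Pi.smul_apply, Pi.single_apply]
        have h6 : (e.1 = pos i) ↔ (i = ofPos e.1) := by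
          constructor
          · intro h
            apply posOK.inj
            rw [pos_ofPos _ (hl e List.mem_cons_self), h]
          · intro h
            rw [h, pos_ofPos _ (hl e List.mem_cons_self)]
        by_cases h7 : e.1 = pos i
        · rw [if_pos h7, if_pos (h6.1 h7)]; simp
        · rw [if_neg h7, if_neg (fun h => h7 (h6.2 h))]; simp
    apply h5
    intro e he
    have h8 : ((List.range 48).all fun r => (List.range 52).all fun c =>
        (colT r c).all fun e => decide (e.1 < 52)) = true := by decide +kernel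
    rw [List.all_eq_true] at h8
    have h9 := h8 r (List.mem_range.2 hr)
    rw [List.all_eq_true] at h9
    have h10 := h9 c (List.mem_range.2 hc)
    rw [List.all_eq_true] at h10
    exact of_decide_eq_true (h10 e he)

theorem colT_tab : ([colT 30 37, colT 28 37, colT 28 41, colT 25 37, colT 25 39, colT 25 41,
    colT 27 37, colT 27 39, colT 27 41, colT 30 38, colT 28 38, colT 25 38, colT 27 38,
    colT 33 31, colT 24 31, colT 24 38] : List (List (ℕ × ℕ))) =
    [[(41, 1)], [(39, 1)], [], [], [], [],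
    [(38, 1)], [(41, 1)], [], [], [(41, 1)], [(39, 1)], [],
    [(38, 1)], [], []] := by decide +kernel

theorem entry_eq_mulVec (M : Matrix chevF4.Idx chevF4.Idx K) (i : chevF4.Idx) (c : ℕ) :
    M i (ofPos c) = M.mulVec (ev' K c) i := by
  unfold ev'
  rw [Matrix.mulVec_single_one]
  rfl

theorem NF_col33 (a b c d : K) :
    ((NF a b c d : GL chevF4.Idx K) : Matrix chevF4.Idx chevF4.Idx K).mulVec (ev' K 37) =
      ev' K 37 + a • ev' K 38 + c • ev' K 39 + (a * c + d) • ev' K 41 := by
  have h := colT_tab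
  simp only [List.cons.injEq, and_true] at h
  obtain ⟨h1, h2, h3, h4, h5, h6, h7, h8, h9, -⟩ := h
  have e1 := x_mulVec (K := K) 30 (by decide) 37 (by decide) d
  have e2 := x_mulVec (K := K) 28 (by decide) 37 (by decide) c
  have e3 := x_mulVec (K := K) 28 (by decide) 41 (by decide) c
  have e4 := x_mulVec (K := K) 25 (by decide) 37 (by decide) b
  have e5 := x_mulVec (K := K) 25 (by decide) 39 (by decide) b
  have e6 := x_mulVec (K := K) 25 (by decide) 41 (by decide) b
  have e7 := x_mulVec (K := K) 27 (by decide) 37 (by decide) a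
  have e8 := x_mulVec (K := K) 27 (by decide) 39 (by decide) a
  have e9 := x_mulVec (K := K) 27 (by decide) 41 (by decide) a
  rw [h1] at e1
  rw [h2] at e2
  rw [h3] at e3
  rw [h4] at e4
  rw [h5] at e5
  rw [h6] at e6
  rw [h7] at e7
  rw [h8] at e8
  rw [h9] at e9
  simp only [List.map_cons, List.map_nil, List.sum_cons, List.sum_nil, add_zero, pow_one] at e1 e2 e3 e4 e5 e6 e7 e8 e9
  unfold NF
  rw [Units.val_mul, Units.val_mul, Units.val_mul, coe_X, coe_X, coe_X, coe_X,
    ← Matrix.mulVec_mulVec, ← Matrix.mulVec_mulVec, ← Matrix.mulVec_mulVec]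
  simp only [e1, e2, e3, e4, e5, e6, e7, e8, e9, Matrix.mulVec_add, Matrix.mulVec_smul, smul_add]
  funext i
  simp only [Pi.add_apply, Pi.smul_apply, smul_eq_mul]
  ring

theorem NF_col34 (a b c d : K) :
    ((NF a b c d : GL chevF4.Idx K) : Matrix chevF4.Idx chevF4.Idx K).mulVec (ev' K 38) =
      ev' K 38 + b • ev' K 39 + (a * b + c) • ev' K 41 := by
  have h := colT_tab
  simp only [List.cons.injEq, and_true] at h
  obtain ⟨h1, h2, h3, h4, h5, h6, h7, h8, h9, h10, h11, h12, h13, -⟩ := h
  have e3 := x_mulVec (K := K) 28 (by decide) 41 (by decide) c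
  have e5 := x_mulVec (K := K) 25 (by decide) 39 (by decide) b
  have e6 := x_mulVec (K := K) 25 (by decide) 41 (by decide) b
  have e8 := x_mulVec (K := K) 27 (by decide) 39 (by decide) a
  have e9 := x_mulVec (K := K) 27 (by decide) 41 (by decide) a
  have e10 := x_mulVec (K := K) 30 (by decide) 38 (by decide) d
  have e11 := x_mulVec (K := K) 28 (by decide) 38 (by decide) c
  have e12 := x_mulVec (K := K) 25 (by decide) 38 (by decide) b
  have e13 := x_mulVec (K := K) 27 (by decide) 38 (by decide) a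
  rw [h3] at e3
  rw [h5] at e5
  rw [h6] at e6
  rw [h8] at e8
  rw [h9] at e9
  rw [h10] at e10
  rw [h11] at e11
  rw [h12] at e12
  rw [h13] at e13
  simp only [List.map_cons, List.map_nil, List.sum_cons, List.sum_nil, add_zero, pow_one] at e3 e5 e6 e8 e9 e10 e11 e12 e13
  unfold NF
  rw [Units.val_mul, Units.val_mul, Units.val_mul, coe_X, coe_X, coe_X, coe_X,
    ← Matrix.mulVec_mulVec, ← Matrix.mulVec_mulVec, ← Matrix.mulVec_mulVec]
  simp only [e3, e5, e6, e8, e9, e10, e11, e12, e13, Matrix.mulVec_add, Matrix.mulVec_smul, smul_add]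
  funext i
  simp only [Pi.add_apply, Pi.smul_apply, smul_eq_mul]
  ring

theorem XX_col27 (a b : K) :
    ((X 33 a * X 24 b : GL chevF4.Idx K) : Matrix chevF4.Idx chevF4.Idx K).mulVec (ev' K 31) =
      ev' K 31 + a • ev' K 38 := by
  have h := colT_tab
  simp only [List.cons.injEq, and_true] at h
  obtain ⟨h1, h2, h3, h4, h5, h6, h7, h8, h9, h10, h11, h12, h13, h14, h15, h16⟩ := h
  have e14 := x_mulVec (K := K) 33 (by decide) 31 (by decide) a
  have e15 := x_mulVec (K := K) 24 (by decide) 31 (by decide) b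
  rw [h14] at e14
  rw [h15] at e15
  simp only [List.map_cons, List.map_nil, List.sum_cons, List.sum_nil, add_zero, pow_one] at e14 e15
  rw [Units.val_mul, coe_X, coe_X, ← Matrix.mulVec_mulVec, e15, e14]

theorem XX'_col27 (a b : K) :
    ((X 24 b * X 33 a : GL chevF4.Idx K) : Matrix chevF4.Idx chevF4.Idx K).mulVec (ev' K 31) =
      ev' K 31 + a • ev' K 38 := by
  rw [c24_33, XX_col27]

theorem ev'_apply (n k : ℕ) (hn : n < 52) (hk : k < 52) :
    ev' K n (ofPos k) = if k = n then 1 else 0 := by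
  unfold ev'
  rw [Pi.single_apply]
  by_cases h : k = n
  · rw [if_pos h, if_pos (by rw [h])]
  · rw [if_neg h, if_neg]
    intro e
    apply h
    have := congrArg pos e
    rwa [pos_ofPos _ hk, pos_ofPos _ hn] at this

theorem Amat_entry (M : Matrix chevF4.Idx chevF4.Idx K) (i j : Fin 26) (k c : ℕ)
    (hi : io i = ofPos k) (hj : io j = ofPos c) : Amat M i j = M.mulVec (ev' K c) (ofPos k) := by
  rw [Amat_apply, hi, hj]
  exact entry_eq_mulVec M (ofPos k) c

/-- coordinates of a normal form from the block on `I` -/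
theorem NF_coord {a b c d a' b' c' d' : K}
    (h : Amat ((NF a b c d : GL chevF4.Idx K) : Matrix chevF4.Idx chevF4.Idx K) =
      Amat ((NF a' b' c' d' : GL chevF4.Idx K) : Matrix chevF4.Idx chevF4.Idx K)) :
    a = a' ∧ b = b' ∧ c = c' ∧ d = d' := by
  have h1 := congrFun (congrFun h 18) 17
  have h2 := congrFun (congrFun h 19) 17
  have h3 := congrFun (congrFun h 21) 17
  have h4 := congrFun (congrFun h 19) 18
  rw [Amat_entry _ 18 17 38 37 rfl rfl, Amat_entry _ 18 17 38 37 rfl rfl, NF_col33, NF_col33] at h1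
  rw [Amat_entry _ 19 17 39 37 rfl rfl, Amat_entry _ 19 17 39 37 rfl rfl, NF_col33, NF_col33] at h2
  rw [Amat_entry _ 21 17 41 37 rfl rfl, Amat_entry _ 21 17 41 37 rfl rfl, NF_col33, NF_col33] at h3
  rw [Amat_entry _ 19 18 39 38 rfl rfl, Amat_entry _ 19 18 39 38 rfl rfl, NF_col34, NF_col34] at h4
  simp [ev'_apply] at h1 h2 h3 h4
  refine ⟨h1, h4, h2, ?_⟩
  rw [h1, h2] at h3
  exact add_left_cancel h3

end Cfsg.Agent.ChevalleyStructure.TwF4.Twisted
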