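import Cfsg.Agent.ChevalleyStructure.TwF4.Twisted

/-!
`twistedF4 K e ≤ Fix φ`, the generating words are the elements of `X_{S_1} ⊓ Fix φ`,
`X_{S_8} ⊓ Fix φ`, `n₁, n₂ ∈ twistedF4 K e`, and `U ⊓ Fix φ ≤ twistedF4 K e`.
Here `φ x = (x^e)^2` and `φ (x^e) = x`; for `|K| = 2^(2m+1)`, `e = 2^m`, `φ = (·)^(2^(m+1))`.
-/

set_option autoImplicit false
set_option linter.unusedSectionVars false

namespace Cfsg.Agent.ChevalleyStructure.TwF4.TwistedFix

open Cfsg.Lie Cfsg.Agent.ChevalleyStructure.TwF4.Bits Cfsg.Agent.ChevalleyStructure.TwF4.Tables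
open Cfsg.Agent.ChevalleyStructure.TwF4.Rel Cfsg.Agent.ChevalleyStructure.TwF4.Fix
open Cfsg.Agent.ChevalleyStructure.TwF4.Groups Cfsg.Agent.ChevalleyStructure.TwF4.RankOne
open Cfsg.Agent.ChevalleyStructure.TwF4.Twisted

/-- the relation between the exponent `e` and the field endomorphism `φ` -/
structure Rln {K : Type*} [Field K] (φ : K →+* K) (e : ℕ) : Prop where
  phi : ∀ x : K, φ x = (x ^ e) ^ 2
  phi_pow : ∀ x : K, φ (x ^ e) = x
  pos : 0 < e

theorem exists_rln {K : Type*} [Field K] [Fintype K] {m : ℕ}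
    (hK : Fintype.card K = 2 ^ (2 * m + 1)) : ∃ φ : K →+* K, Rln φ (2 ^ m) := by
  haveI := charP_two hK
  haveI : Fact (Nat.Prime 2) := ⟨Nat.prime_two⟩
  refine ⟨iterateFrobenius K 2 (m + 1), ?_, ?_, ?_⟩
  · intro x
    rw [iterateFrobenius_def, ← pow_mul, pow_succ]
  · intro x
    rw [iterateFrobenius_def, ← pow_mul, ← pow_add]
    have : m + (m + 1) = 2 * m + 1 := by ring
    rw [this, ← hK]
    exact FiniteField.pow_card x
  · positivity

variable {K : Type*} [Field K] [CharP K 2] [Finite K] {φ : K →+* K} {e : ℕ}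

theorem bar_vals : bar 33 = 24 ∧ bar 24 = 33 ∧ bar 27 = 25 ∧ bar 25 = 27 ∧ bar 28 = 30 ∧ bar 30 = 28 := by
  decide

theorem lam_vals (t : K) : lam 33 t = t ^ 2 ∧ lam 24 t = t ∧ lam 27 t = t ^ 2 ∧ lam 25 t = t ∧
    lam 28 t = t ^ 2 ∧ lam 30 t = t := by
  refine ⟨rfl, rfl, rfl, rfl, rfl, rfl⟩

/-- `x_{p₁}(t^e) x_{p₄}(t) ∈ Fix` -/
theorem pair_mem_Fix (hφ : Rln φ e) (t : K) : X 33 (t ^ e) * X 24 t ∈ Fix φ := by
  have h1 : X 33 (t ^ e) * X 24 t = W [(33, t ^ e), (24, t)] := by simp [W_cons]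
  rw [h1]
  apply W_mem_Fix φ
  · intro p hp
    simp only [List.mem_cons, List.not_mem_nil, or_false] at hp
    rcases hp with rfl | rfl <;> simp
  · have hb := bar_vals
    have e1 : gam [(33, t ^ e), (24, t)] = [(24, (t ^ e) ^ 2), (33, t)] := by
      unfold gam
      simp only [List.map_cons, List.map_nil, hb.1, hb.2.1, (lam_vals (t ^ e)).1, (lam_vals t).2.1]
    have e2 : phiW φ [(33, t ^ e), (24, t)] = [(33, t), (24, (t ^ e) ^ 2)] := by
      unfold phiW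
      simp only [List.map_cons, List.map_nil, hφ.phi_pow t]
      rw [hφ.phi t]
    rw [e1, e2]
    simp only [W_cons, W_nil, mul_one]
    exact c24_33 _ _

theorem X25_X27_eq (a b c d : K) : X 25 a * X 27 b * X 30 c * X 28 d = NF b a (a * b + d) (a * b ^ 2 + c) := by
  have h1 : X 25 a * X 27 b * X 30 c * X 28 d = X 25 a * NF b 0 d c := by
    unfold NF
    rw [X_zero, mul_one]
    calc X 25 a * X 27 b * X 30 c * X 28 d = X 25 a * X 27 b * (X 30 c * X 28 d) := by group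
      _ = X 25 a * (X 27 b * X 28 d * X 30 c) := by rw [← c28_30]; group
  rw [h1, X25_NF, add_zero]

/-- blocks of a normal form -/
theorem NF_mem_Fix_iff (hφ : Rln φ e) (a b c d : K) :
    NF a b c d ∈ Fix φ ↔ (b = φ a ∧ a ^ 2 = φ b ∧ a ^ 2 * b + d = φ c ∧ a ^ 2 * b ^ 2 + c ^ 2 = φ d) := by
  have h1 : NF a b c d = W [(27, a), (25, b), (28, c), (30, d)] := by
    simp [W_cons, NF, mul_assoc]
  have hb := bar_vals
  have e1 : W (gam [(27, a), (25, b), (28, c), (30, d)]) =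
      NF b (a ^ 2) (a ^ 2 * b + d) (a ^ 2 * b ^ 2 + c ^ 2) := by
    unfold gam
    simp only [List.map_cons, List.map_nil, hb.2.2.1, hb.2.2.2.1, hb.2.2.2.2.1, hb.2.2.2.2.2,
      (lam_vals a).2.2.1, (lam_vals b).2.2.2.1, (lam_vals c).2.2.2.2.1, (lam_vals d).2.2.2.2.2]
    rw [← X25_X27_eq]
    simp [W_cons, mul_assoc]
  have e2 : W (phiW φ [(27, a), (25, b), (28, c), (30, d)]) = NF (φ a) (φ b) (φ c) (φ d) := by
    unfold phiW
    simp [W_cons, NF, mul_assoc]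
  rw [h1, W_mem_Fix_iff φ, e1, e2]
  · constructor
    · exact fun h => NF_coord h
    · rintro ⟨h1, h2, h3, h4⟩
      rw [← h1, ← h2, ← h3, ← h4]
  · intro p hp
    simp only [List.mem_cons, List.not_mem_nil, or_false] at hp
    rcases hp with rfl | rfl | rfl | rfl <;> simp

/-- the generating words of type `B₂` are in `Fix` -/
theorem b2_mem_Fix (hφ : Rln φ e) (t u : K) :
    NF (t ^ e) t (t ^ (e + 1) + u) (u ^ (2 * e)) ∈ Fix φ := by
  rw [NF_mem_Fix_iff hφ]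
  refine ⟨(hφ.phi_pow t).symm, (hφ.phi t).symm, ?_, ?_⟩
  · rw [map_add, pow_succ t e, map_mul, hφ.phi_pow t, hφ.phi t, hφ.phi u]
    ring
  · have h1 : (u : K) ^ (2 * e) = (u ^ e) ^ 2 := by rw [← pow_mul, mul_comm]
    rw [h1, map_pow, hφ.phi_pow u, CharTwo.add_sq]
    have h2 : (t ^ (e + 1)) ^ 2 = (t ^ e) ^ 2 * t ^ 2 := by ring
    rw [h2, ← add_assoc, CharTwo.add_self_eq_zero, zero_add]

/-- `X_{S_8} ⊓ Fix` consists of the generating words -/
theorem cls8_Fix (hφ : Rln φ e) (g : GL chevF4.Idx K) (hg : g ∈ GA K (clsB 8)) (hF : g ∈ Fix φ) :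
    ∃ t u : K, g = NF (t ^ e) t (t ^ (e + 1) + u) (u ^ (2 * e)) := by
  obtain ⟨a, b, c, d, rfl⟩ := mem_cls8 g hg
  rw [NF_mem_Fix_iff hφ] at hF
  obtain ⟨h1, h2, h3, h4⟩ := hF
  have ha : a = b ^ e := by
    have h5 : φ (b ^ e) = φ a := by rw [hφ.phi_pow, h1]
    exact (φ.injective h5).symm
  refine ⟨b, c + b ^ (e + 1), ?_⟩
  have hc : b ^ (e + 1) + (c + b ^ (e + 1)) = c := by
    rw [add_comm c, ← add_assoc, CharTwo.add_self_eq_zero, zero_add]
  have hd : (c + b ^ (e + 1)) ^ (2 * e) = d := by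
    have h6 : (c + b ^ (e + 1)) ^ (2 * e) = φ (c + b ^ (e + 1)) := by
      rw [hφ.phi, ← pow_mul, mul_comm]
    rw [h6, map_add, ← h3, pow_succ b e, map_mul, hφ.phi_pow b, hφ.phi b, ← ha]
    have h7 : a ^ 2 * b + d + b * a ^ 2 = d + (a ^ 2 * b + a ^ 2 * b) := by ring
    rw [h7, CharTwo.add_self_eq_zero, add_zero]
  rw [hc, hd, ← ha]

/-- `X_{S_1} ⊓ Fix` consists of the generating words -/
theorem cls1_Fix (hφ : Rln φ e) (g : GL chevF4.Idx K) (hg : g ∈ GA K (clsB 1)) (hF : g ∈ Fix φ) :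
    ∃ t : K, g = X 33 (t ^ e) * X 24 t := by
  obtain ⟨a, b, rfl⟩ := mem_cls1 g hg
  have h1 : X 33 a * X 24 b = W [(33, a), (24, b)] := by simp [W_cons]
  rw [h1, W_mem_Fix_iff φ] at hF
  · have hb := bar_vals
    have e1 : W (gam [(33, a), (24, b)]) = X 24 (a ^ 2) * X 33 b := by
      unfold gam
      simp only [List.map_cons, List.map_nil, hb.1, hb.2.1, (lam_vals a).1, (lam_vals b).2.1]
      simp [W_cons]
    have e2 : W (phiW φ [(33, a), (24, b)]) = X 33 (φ a) * X 24 (φ b) := by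
      unfold phiW
      simp [W_cons]
    rw [e1, e2] at hF
    have h2 := congrFun (congrFun hF 18) 14
    rw [Amat_entry _ 18 14 38 31 rfl rfl, Amat_entry _ 18 14 38 31 rfl rfl, XX'_col27,
      XX_col27] at h2
    simp [ev'_apply] at h2
    have h3 : a = b ^ e := by
      have h5 : φ (b ^ e) = φ a := by rw [hφ.phi_pow, h2]
      exact (φ.injective h5).symm
    exact ⟨b, by rw [h3]⟩
  · intro p hp
    simp only [List.mem_cons, List.not_mem_nil, or_false] at hp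
    rcases hp with rfl | rfl <;> simp

/-! ### `n₁`, `n₂` -/

theorem n1_eq_NW : n1 K = NW K [0, 3] := by
  simp [NW, n1, sp]

theorem n2_eq_NW : n2 K = NW K [1, 2, 1, 2] := by
  simp [NW, n2, sp, mul_assoc]

theorem n1_mem_Fix : n1 K ∈ Fix φ := by
  rw [n1_eq_NW, mem_Fix, Amat_NW_map, Cmat_NW _ (by decide)]
  refine ⟨?_, ?_⟩
  · have : NW K [0, 3] ∈ BlkG K := by rw [NW_eq_W1]; exact W_mem_BlkG _
    exact this
  · have h : NW K ([0, 3].map fun k => 3 - k) = NW K [0, 3] :=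
      NW_eq_of_mat1 _ _ (by decide +kernel)
    rw [h]

theorem n2_mem_Fix : n2 K ∈ Fix φ := by
  rw [n2_eq_NW, mem_Fix, Amat_NW_map, Cmat_NW _ (by decide)]
  refine ⟨?_, ?_⟩
  · have : NW K [1, 2, 1, 2] ∈ BlkG K := by rw [NW_eq_W1]; exact W_mem_BlkG _
    exact this
  · have h : NW K ([1, 2, 1, 2].map fun k => 3 - k) = NW K [1, 2, 1, 2] :=
      NW_eq_of_mat1 _ _ (by decide +kernel)
    rw [h]

/-! ### the twisted group -/

/-- positive pair element -/
def xa (e : ℕ) (t : K) : GL chevF4.Idx K := X 33 (t ^ e) * X 24 t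
/-- positive element of type `B₂` -/
def xb (e : ℕ) (t u : K) : GL chevF4.Idx K := NF (t ^ e) t (t ^ (e + 1) + u) (u ^ (2 * e))

theorem w_vals : w1 33 = 14 ∧ w1 24 = 23 ∧ w2 27 = 20 ∧ w2 25 = 22 ∧ w2 28 = 19 ∧ w2 30 = 17 := by
  decide

theorem W_pair (t : K) : W (f4PairWord e f4p1 f4p4 t) = xa e t := by
  unfold f4PairWord f4p1 f4p4 xa
  simp [W_cons]

theorem W_pair_neg (t : K) : W (f4PairWord e f4m1 f4m4 t) = n1 K * xa e t * (n1 K)⁻¹ := by
  have h := w_vals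
  have h1 : f4PairWord e f4m1 f4m4 t = (f4PairWord e f4p1 f4p4 t).map fun p => (w1 p.1, p.2) := by
    unfold f4PairWord f4p1 f4p4 f4m1 f4m4
    simp only [List.map_cons, List.map_nil, h.1, h.2.1]
  rw [h1, ← Act_W Act_n1, W_pair]
  intro p hp
  unfold f4PairWord f4p1 f4p4 at hp
  simp only [List.mem_cons, List.not_mem_nil, or_false] at hp
  rcases hp with rfl | rfl <;> simp

theorem W_b2 (t u : K) : W (b2ClassWord e f4a f4b f4ab f4aab t u) = xb e t u := by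
  unfold b2ClassWord f4a f4b f4ab f4aab xb NF
  simp [W_cons, mul_assoc]

theorem W_b2_neg (t u : K) :
    W (b2ClassWord e f4ma f4mb f4mab f4maab t u) = n2 K * xb e t u * (n2 K)⁻¹ := by
  have h := w_vals
  have h1 : b2ClassWord e f4ma f4mb f4mab f4maab t u =
      (b2ClassWord e f4a f4b f4ab f4aab t u).map fun p => (w2 p.1, p.2) := by
    unfold b2ClassWord f4a f4b f4ab f4aab f4ma f4mb f4mab f4maab
    simp only [List.map_cons, List.map_nil, h.2.2.1, h.2.2.2.1, h.2.2.2.2.1, h.2.2.2.2.2]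
  rw [h1, ← Act_W Act_n2, W_b2]
  intro p hp
  unfold b2ClassWord f4a f4b f4ab f4aab at hp
  simp only [List.mem_cons, List.not_mem_nil, or_false] at hp
  rcases hp with rfl | rfl | rfl | rfl <;> simp

theorem twisted_le_iff {S : Subgroup (GL chevF4.Idx K)} :
    twistedF4 K e ≤ S ↔ (∀ t : K, xa e t ∈ S) ∧ (∀ t : K, n1 K * xa e t * (n1 K)⁻¹ ∈ S) ∧
      (∀ t u : K, xb e t u ∈ S) ∧ (∀ t u : K, n2 K * xb e t u * (n2 K)⁻¹ ∈ S) := by
  unfold twistedF4 ChevalleyDatum.genSubgroup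
  rw [Subgroup.closure_le]
  constructor
  · intro h
    refine ⟨fun t => ?_, fun t => ?_, fun t u => ?_, fun t u => ?_⟩
    · exact h ⟨_, Or.inl ⟨t, Or.inl rfl⟩, by rw [← W_pair, coe_W]⟩
    · exact h ⟨_, Or.inl ⟨t, Or.inr rfl⟩, by rw [← W_pair_neg, coe_W]⟩
    · exact h ⟨_, Or.inr ⟨t, u, Or.inl rfl⟩, by rw [← W_b2, coe_W]⟩
    · exact h ⟨_, Or.inr ⟨t, u, Or.inr rfl⟩, by rw [← W_b2_neg, coe_W]⟩
  · rintro ⟨h1, h2, h3, h4⟩ g ⟨w, hw, hg⟩
    have hgw : g = W w := Units.ext (by rw [hg, coe_W])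
    rw [hgw]
    rcases hw with ⟨t, rfl | rfl⟩ | ⟨t, u, rfl | rfl⟩
    · rw [W_pair]; exact h1 t
    · rw [W_pair_neg]; exact h2 t
    · rw [W_b2]; exact h3 t u
    · rw [W_b2_neg]; exact h4 t u

theorem xa_mem (t : K) : xa e t ∈ twistedF4 K e := (twisted_le_iff.1 le_rfl).1 t
theorem xa_neg_mem (t : K) : n1 K * xa e t * (n1 K)⁻¹ ∈ twistedF4 K e :=
  (twisted_le_iff.1 le_rfl).2.1 t
theorem xb_mem (t u : K) : xb e t u ∈ twistedF4 K e := (twisted_le_iff.1 le_rfl).2.2.1 t u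
theorem xb_neg_mem (t u : K) : n2 K * xb e t u * (n2 K)⁻¹ ∈ twistedF4 K e :=
  (twisted_le_iff.1 le_rfl).2.2.2 t u

/-- `G¹ ≤ Fix φ` -/
theorem twisted_le_Fix (hφ : Rln φ e) : twistedF4 K e ≤ Fix φ := by
  rw [twisted_le_iff]
  exact ⟨fun t => pair_mem_Fix hφ t,
    fun t => (Fix φ).mul_mem ((Fix φ).mul_mem n1_mem_Fix (pair_mem_Fix hφ t))
      ((Fix φ).inv_mem n1_mem_Fix),
    fun t u => b2_mem_Fix hφ t u,
    fun t u => (Fix φ).mul_mem ((Fix φ).mul_mem n2_mem_Fix (b2_mem_Fix hφ t u))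
      ((Fix φ).inv_mem n2_mem_Fix)⟩

theorem cls1_le (hφ : Rln φ e) (g : GL chevF4.Idx K) (hg : g ∈ GA K (clsB 1)) (hF : g ∈ Fix φ) :
    g ∈ twistedF4 K e := by
  obtain ⟨t, rfl⟩ := cls1_Fix hφ g hg hF
  exact xa_mem t

theorem cls8_le (hφ : Rln φ e) (g : GL chevF4.Idx K) (hg : g ∈ GA K (clsB 8)) (hF : g ∈ Fix φ) :
    g ∈ twistedF4 K e := by
  obtain ⟨t, u, rfl⟩ := cls8_Fix hφ g hg hF
  exact xb_mem t u

/-- words for `n₁` and `n₂` -/
theorem chk_n : (chkWord (nL 33 ++ nL 24) [(33, 0, 0), (24, 0, 0), (14, 0, 0), (23, 0, 0),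
      (33, 0, 0), (24, 0, 0)] &&
    chkWord (nL 27 ++ nL 25 ++ nL 27 ++ nL 25) [(28, 0, 0), (30, 0, 0), (20, 0, 0), (22, 0, 0),
      (17, 0, 0), (27, 0, 0), (25, 0, 0), (28, 0, 0)]) = true := by decide +kernel

/-- `n₁ ∈ G¹` -/
theorem n1_mem : n1 K ∈ twistedF4 K e := by
  have h := chk_n
  rw [Bool.and_eq_true] at h
  have h1 := W_eq_of_chkWord _ _ h.1 (1 : K) 1
  rw [wordK_append, W_append, W_nL, W_nL] at h1
  have h2 : W (wordK (1 : K) 1 [(33, 0, 0), (24, 0, 0), (14, 0, 0), (23, 0, 0), (33, 0, 0),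
      (24, 0, 0)]) = xa e 1 * (n1 K * xa e 1 * (n1 K)⁻¹) * xa e 1 := by
    rw [← W_pair_neg]
    unfold xa f4PairWord f4m1 f4m4
    simp [wordK, W_cons, mul_assoc]
  have h3 : n1 K = xa e 1 * (n1 K * xa e 1 * (n1 K)⁻¹) * xa e 1 := h1.trans h2
  rw [h3]
  exact (twistedF4 K e).mul_mem ((twistedF4 K e).mul_mem (xa_mem 1) (xa_neg_mem 1)) (xa_mem 1)

/-- `n₂ ∈ G¹` -/
theorem n2_mem (he : 0 < e) : n2 K ∈ twistedF4 K e := by
  have h := chk_n
  rw [Bool.and_eq_true] at h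
  have h1 := W_eq_of_chkWord _ _ h.2 (1 : K) 1
  simp only [wordK_append, W_append, W_nL] at h1
  have h2 : W (wordK (1 : K) 1 [(28, 0, 0), (30, 0, 0), (20, 0, 0), (22, 0, 0),
      (17, 0, 0), (27, 0, 0), (25, 0, 0), (28, 0, 0)]) =
      xb e 0 1 * (n2 K * xb e 1 1 * (n2 K)⁻¹) * xb e 1 0 := by
    rw [← W_b2_neg]
    unfold xb b2ClassWord f4ma f4mb f4mab f4maab NF
    have e1 : (0 : K) ^ e = 0 := zero_pow he.ne'
    have e2 : (0 : K) ^ (e + 1) = 0 := zero_pow (by omega)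
    have e3 : (0 : K) ^ (2 * e) = 0 := zero_pow (by omega)
    have e4 : (1 : K) + 1 = 0 := CharTwo.add_self_eq_zero 1
    simp [wordK, W_cons, mul_assoc, e1, e2, e3, e4, X_zero]
  have h3 : n2 K = xb e 0 1 * (n2 K * xb e 1 1 * (n2 K)⁻¹) * xb e 1 0 := h1.trans h2
  rw [h3]
  exact (twistedF4 K e).mul_mem ((twistedF4 K e).mul_mem (xb_mem 0 1) (xb_neg_mem 1 1)) (xb_mem 1 0)

/-! ### `U ⊓ Fix ≤ G¹` -/

/-- products of `n₁`, `n₂` alternating -/
def gk (K : Type*) [Field K] [CharP K 2] : ℕ → GL chevF4.Idx K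
  | 0 => 1
  | k + 1 => (if k % 2 = 0 then n1 K else n2 K) * gk K k

/-- the action of `gk` on roots -/
def pk : ℕ → ℕ → ℕ
  | 0, r => r
  | k + 1, r => if k % 2 = 0 then w1 (pk k r) else w2 (pk k r)

theorem Act_gk (k : ℕ) : Act (gk K k) (pk k) := by
  induction k with
  | zero => exact Act_one
  | succ k ih =>
    by_cases hk : k % 2 = 0
    · have h1 : gk K (k + 1) = n1 K * gk K k := by
        show (if k % 2 = 0 then n1 K else n2 K) * gk K k = _
        rw [if_pos hk]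
      have h2 : pk (k + 1) = fun r => w1 (pk k r) := by
        funext r
        show (if k % 2 = 0 then w1 (pk k r) else w2 (pk k r)) = _
        rw [if_pos hk]
      rw [h1, h2]
      exact Act_mul Act_n1 ih
    · have h1 : gk K (k + 1) = n2 K * gk K k := by
        show (if k % 2 = 0 then n1 K else n2 K) * gk K k = _
        rw [if_neg hk]
      have h2 : pk (k + 1) = fun r => w2 (pk k r) := by
        funext r
        show (if k % 2 = 0 then w1 (pk k r) else w2 (pk k r)) = _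
        rw [if_neg hk]
      rw [h1, h2]
      exact Act_mul Act_n2 ih

theorem gk_mem (he : 0 < e) (k : ℕ) : gk K k ∈ twistedF4 K e := by
  induction k with
  | zero => exact (twistedF4 K e).one_mem
  | succ k ih =>
    show (if k % 2 = 0 then n1 K else n2 K) * gk K k ∈ _
    split
    · exact (twistedF4 K e).mul_mem n1_mem ih
    · exact (twistedF4 K e).mul_mem (n2_mem he) ih

theorem pk_check : ((List.range 8).all fun k => (List.range 48).all fun r =>
    (!(geB (k + 1) r) || posB (pk k r)) &&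
    (!(clsB (k + 1) r) || clsB (if k % 2 = 0 then 1 else 8) (pk k r)) &&
    (!(clsB (k + 1) r) || negB (pk (k + 1) r)) &&
    (!(geB (k + 2) r) || posB (pk (k + 1) r))) = true := by decide +kernel

theorem geB9 : ((List.range 48).all fun r => !(geB 9 r)) = true := by decide +kernel

theorem GA_geB9 (u : GL chevF4.Idx K) (hu : u ∈ GA K (geB 9)) : u = 1 := by
  have h : GA K (geB 9) ≤ ⊥ := by
    rw [GA_le_iff]
    intro r hr hA t
    have h1 := geB9
    rw [List.all_eq_true] at h1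
    have h2 := h1 r (List.mem_range.2 hr)
    rw [hA] at h2
    exact absurd h2 (by simp)
  exact Subgroup.mem_bot.1 (h hu)

/-- one peeling step: `u = v x` with `v`, `x ∈ Fix` -/
theorem peel (hφ : Rln φ e) (k : ℕ) (hk : k < 8) (u : GL chevF4.Idx K)
    (hu : u ∈ GA K (geB (k + 1))) (hF : u ∈ Fix φ) :
    ∃ v ∈ GA K (geB (k + 2)), ∃ x ∈ GA K (clsB (k + 1)), v ∈ Fix φ ∧ x ∈ Fix φ ∧ u = v * x := by
  obtain ⟨v, hv, x, hx, rfl⟩ := decomp_ge (k + 1) (by omega) (by omega) u hu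
  have h := pk_check
  rw [List.all_eq_true] at h
  have h1 := h k (List.mem_range.2 hk)
  rw [List.all_eq_true] at h1
  have hgF : gk K (k + 1) ∈ Fix φ := twisted_le_Fix hφ (gk_mem hφ.pos (k + 1))
  have h2 : gk K (k + 1) * v * (gk K (k + 1))⁻¹ ∈ GA K posB := by
    refine Act_conj (Act_gk (k + 1)) (A := geB (k + 2)) ?_ v hv
    intro r hr hA
    have h3 := h1 r (List.mem_range.2 hr)
    rw [Bool.and_eq_true] at h3
    have h4 := h3.2
    rw [hA] at h4
    simpa using h4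
  have h3 : gk K (k + 1) * x * (gk K (k + 1))⁻¹ ∈ GA K negB := by
    refine Act_conj (Act_gk (k + 1)) (A := clsB (k + 1)) ?_ x hx
    intro r hr hA
    have h3 := h1 r (List.mem_range.2 hr)
    rw [Bool.and_eq_true, Bool.and_eq_true] at h3
    have h4 := h3.1.2
    rw [hA] at h4
    simpa using h4
  have h4 : (gk K (k + 1) * v * (gk K (k + 1))⁻¹) * (gk K (k + 1) * x * (gk K (k + 1))⁻¹) ∈ Fix φ := by
    have h5 : (gk K (k + 1) * v * (gk K (k + 1))⁻¹) * (gk K (k + 1) * x * (gk K (k + 1))⁻¹) =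
        gk K (k + 1) * (v * x) * (gk K (k + 1))⁻¹ := by group
    rw [h5]
    exact (Fix φ).mul_mem ((Fix φ).mul_mem hgF hF) ((Fix φ).inv_mem hgF)
  have h5 := split_BV φ (UU_le_BB (GA_pos_le_UU (fun r _ h => of_decide_eq_true h) h2))
    (GA_neg_le_VV (fun r _ h => of_decide_eq_true h) h3) h4
  have hvF : v ∈ Fix φ := by
    have h6 := (Fix φ).mul_mem ((Fix φ).mul_mem ((Fix φ).inv_mem hgF) h5.1) hgF
    have h7 : (gk K (k + 1))⁻¹ * (gk K (k + 1) * v * (gk K (k + 1))⁻¹) * gk K (k + 1) = v := by group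
    rwa [h7] at h6
  have hxF : x ∈ Fix φ := by
    have h6 := (Fix φ).mul_mem ((Fix φ).mul_mem ((Fix φ).inv_mem hgF) h5.2) hgF
    have h7 : (gk K (k + 1))⁻¹ * (gk K (k + 1) * x * (gk K (k + 1))⁻¹) * gk K (k + 1) = x := by group
    rwa [h7] at h6
  exact ⟨v, hv, x, hx, hvF, hxF, rfl⟩

/-- `g_k X_{S_{k+1}} g_k⁻¹` is `X_{S_1}` or `X_{S_8}` -/
theorem conj_gk_cls (k : ℕ) (hk : k < 8) (x : GL chevF4.Idx K) (hx : x ∈ GA K (clsB (k + 1))) :
    gk K k * x * (gk K k)⁻¹ ∈ GA K (clsB (if k % 2 = 0 then 1 else 8)) := by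
  have h := pk_check
  rw [List.all_eq_true] at h
  have h1 := h k (List.mem_range.2 hk)
  rw [List.all_eq_true] at h1
  refine Act_conj (Act_gk k) (A := clsB (k + 1)) ?_ x hx
  intro r hr hA
  have h3 := h1 r (List.mem_range.2 hr)
  rw [Bool.and_eq_true, Bool.and_eq_true, Bool.and_eq_true] at h3
  have h4 := h3.1.1.2
  rw [hA] at h4
  simpa using h4

theorem cls_le (hφ : Rln φ e) (k : ℕ) (hk : k < 8) (x : GL chevF4.Idx K)
    (hx : x ∈ GA K (clsB (k + 1))) (hF : x ∈ Fix φ) : x ∈ twistedF4 K e := by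
  have hg := gk_mem (K := K) (e := e) hφ.pos k
  have hgF : gk K k ∈ Fix φ := twisted_le_Fix hφ hg
  have h1 := conj_gk_cls k hk x hx
  have h2 : gk K k * x * (gk K k)⁻¹ ∈ Fix φ :=
    (Fix φ).mul_mem ((Fix φ).mul_mem hgF hF) ((Fix φ).inv_mem hgF)
  have h3 : gk K k * x * (gk K k)⁻¹ ∈ twistedF4 K e := by
    by_cases hk2 : k % 2 = 0
    · rw [if_pos hk2] at h1
      exact cls1_le hφ _ h1 h2
    · rw [if_neg hk2] at h1
      exact cls8_le hφ _ h1 h2
  have h4 := (twistedF4 K e).mul_mem ((twistedF4 K e).mul_mem ((twistedF4 K e).inv_mem hg) h3) hg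
  have h5 : (gk K k)⁻¹ * (gk K k * x * (gk K k)⁻¹) * gk K k = x := by group
  rwa [h5] at h4

theorem geB_le (hφ : Rln φ e) : ∀ n k : ℕ, k + n = 8 → ∀ u ∈ GA K (geB (k + 1)), u ∈ Fix φ →
    u ∈ twistedF4 K e := by
  intro n
  induction n with
  | zero =>
    intro k hk u hu _
    have : k = 8 := by omega
    subst this
    rw [GA_geB9 u hu]
    exact (twistedF4 K e).one_mem
  | succ n ih =>
    intro k hk u hu hF
    obtain ⟨v, hv, x, hx, hvF, hxF, rfl⟩ := peel hφ k (by omega) u hu hF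
    exact (twistedF4 K e).mul_mem (ih (k + 1) (by omega) v hv hvF) (cls_le hφ k (by omega) x hx hxF)

theorem geB1 : GA K (geB 1) = GA K posB := by
  apply le_antisymm
  · apply GA_mono
    intro r _ h
    unfold geB at h
    rw [Bool.and_eq_true] at h
    exact h.1
  · apply GA_mono
    intro r hr h
    unfold geB
    rw [Bool.and_eq_true]
    exact ⟨h, decide_eq_true (cls_fact r hr).1⟩

/-- `U ⊓ Fix ≤ G¹` -/
theorem U_inf_Fix_le (hφ : Rln φ e) : GA K posB ⊓ Fix φ ≤ twistedF4 K e := by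
  rintro u ⟨hu, hF⟩
  rw [← geB1] at hu
  exact geB_le hφ 8 0 (by omega) u hu hF

theorem U_inf_twisted (hφ : Rln φ e) : GA K posB ⊓ twistedF4 K e = GA K posB ⊓ Fix φ :=
  le_antisymm (inf_le_inf_left _ (twisted_le_Fix hφ))
    (le_inf inf_le_left (U_inf_Fix_le hφ))

end Cfsg.Agent.ChevalleyStructure.TwF4.TwistedFix
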