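import Cfsg.Agent.ChevalleyStructure.TwF4.NRoot
import Cfsg.Agent.ChevalleyStructure.TwF4.TwGen
import Cfsg.Agent.ChevalleyStructure.TwF4.DihHom

/-!
# The Weyl group of ²F₄: dihedral of order 16

`iota : DihedralGroup 8 →* Perm (roots)` sends the reflections to the permutations of `n₁`, `n₂`; it is injective and
its range is the set of root permutations of the elements of `N ∩ ²F₄`.
-/

set_option autoImplicit false

namespace Cfsg.Agent.ChevalleyStructure.TwF4.WeylDih

open Cfsg.Lie Cfsg.Agent.ChevalleyStructure.F4NTab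
  Cfsg.Agent.ChevalleyStructure.TwF4.Torus Cfsg.Agent.ChevalleyStructure.TwF4.NStruct
  Cfsg.Agent.ChevalleyStructure.TwF4.NRoot Cfsg.Agent.ChevalleyStructure.TwF4.DihHom
open Cfsg.Agent.ChevalleyStructure.TwF4.Rel hiding cm

/-- iterates of `w1 ∘ w2` on root indices -/
def it : ℕ → ℕ → ℕ
  | 0, s => s
  | k + 1, s => w1 (w2 (it k s))

theorem it_zero (s : ℕ) : it 0 s = s := rfl
theorem it_succ (k s : ℕ) : it (k + 1) s = w1 (w2 (it k s)) := rfl

theorem pow_val (k : ℕ) (s : R) : (((P1 * P2) ^ k) s).val = it k s.val := by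
  induction k with
  | zero => rfl
  | succ k ih =>
    rw [pow_succ', Equiv.Perm.mul_apply, Equiv.Perm.mul_apply, P1_val, P2_val, ih, it_succ]

theorem P1_mul_self : P1 * P1 = 1 := by
  ext s
  have h := all_of w1_tab s.2
  simp only [Bool.and_eq_true, beq_iff_eq] at h
  rw [Equiv.Perm.mul_apply, P1_val, P1_val, h.1.2]; rfl

theorem P2_mul_self : P2 * P2 = 1 := by
  ext s
  have h := all_of w2_tab s.2
  simp only [Bool.and_eq_true, beq_iff_eq] at h
  rw [Equiv.Perm.mul_apply, P2_val, P2_val, h.1.2]; rfl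

theorem it8_tab : ((List.range 48).all fun s => it 8 s == s) = true := by decide +kernel

theorem P_pow : (P1 * P2) ^ 8 = 1 := by
  ext s
  have h := all_of it8_tab s.2
  simp only [beq_iff_eq] at h
  rw [pow_val, h]; rfl

/-- The embedding of the dihedral group of order 16 in the permutations of the roots. -/
def iota : DihedralGroup 8 →* Equiv.Perm R := dihHom 8 P1 P2 P1_mul_self P2_mul_self P_pow

theorem iota_r (i : ZMod 8) (s : R) : (iota (DihedralGroup.r i) s).val = it i.val s.val := pow_val _ _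

theorem iota_sr (i : ZMod 8) (s : R) : (iota (DihedralGroup.sr i) s).val = w1 (it i.val s.val) := by
  show ((P1 * (P1 * P2) ^ i.val) s).val = _
  rw [Equiv.Perm.mul_apply, P1_val, pow_val]

theorem inj_tab : ((List.range 8).all fun i => (i == 0 || !(it i 33 == 33 && it i 27 == 27)) &&
    !(w1 (it i 33) == 33 && w1 (it i 27) == 27)) = true := by decide +kernel

theorem iota_injective : Function.Injective iota := by
  rw [injective_iff_map_eq_one]
  rintro (i | i) h
  · have h1 := congrArg (fun σ : Equiv.Perm R => (σ (⟨33, by decide⟩ : R)).val) h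
    have h2 := congrArg (fun σ : Equiv.Perm R => (σ (⟨27, by decide⟩ : R)).val) h
    simp only [iota_r, Equiv.Perm.one_apply] at h1 h2
    have h3 := all_of inj_tab (ZMod.val_lt i)
    simp only [h1, h2, Bool.and_eq_true, Bool.or_eq_true, beq_iff_eq, beq_self_eq_true, Bool.and_self, Bool.not_true] at h3
    have : i.val = 0 := by
      rcases h3.1 with h | h
      · exact h
      · exact absurd h (by simp)
    have : i = 0 := (ZMod.val_eq_zero i).1 this
    rw [this]; rfl
  · have h1 := congrArg (fun σ : Equiv.Perm R => (σ (⟨33, by decide⟩ : R)).val) h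
    have h2 := congrArg (fun σ : Equiv.Perm R => (σ (⟨27, by decide⟩ : R)).val) h
    simp only [iota_sr, Equiv.Perm.one_apply] at h1 h2
    have h3 := all_of inj_tab (ZMod.val_lt i)
    simp only [h1, h2] at h3
    simp at h3

theorem ais (σ : Equiv.Perm R) (x : R) : σ (σ⁻¹ x) = x := σ.apply_symm_apply x

/-- preservation of the Cartan integers -/
def carSub : Subgroup (Equiv.Perm R) where
  carrier := {σ | ∀ r s : R, ct (σ r).val (σ s).val = ct r.val s.val}
  one_mem' r s := rfl
  mul_mem' {σ τ} hσ hτ r s := by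
    show ct (σ (τ r)).val (σ (τ s)).val = _
    rw [hσ, hτ]
  inv_mem' {σ} hσ r s := by
    have := hσ (σ⁻¹ r) (σ⁻¹ s)
    rw [ais, ais] at this
    exact this.symm

theorem mem_carSub (σ : Equiv.Perm R) : σ ∈ carSub ↔ ∀ r s : R, ct (σ r).val (σ s).val = ct r.val s.val := Iff.rfl

theorem reflP_mem {r : ℕ} (hr : r < 48) : reflP r hr ∈ carSub := fun a b => ct_wt hr a.2 b.2

theorem P1_mem : P1 ∈ carSub := mul_mem (reflP_mem _) (reflP_mem _)
theorem P2_mem : P2 ∈ carSub := mul_mem (mul_mem (mul_mem (reflP_mem _) (reflP_mem _)) (reflP_mem _)) (reflP_mem _)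

/-- Every `iota d` lies in any subgroup containing `P1` and `P2`. -/
theorem iota_mem {H : Subgroup (Equiv.Perm R)} (h1 : P1 ∈ H) (h2 : P2 ∈ H) (d : DihedralGroup 8) : iota d ∈ H := by
  rcases d with i | i
  · exact pow_mem (mul_mem h1 h2) _
  · exact mul_mem h1 (pow_mem (mul_mem h1 h2) _)

theorem sep_tab : ((List.range 48).all fun r => (List.range 48).all fun s =>
    r == s || !(ct 33 r == ct 33 s && ct 27 r == ct 27 s && ct 25 r == ct 25 s && ct 24 r == ct 24 s)) = true := by
  decide +kernel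

/-- the index 33, 27, 25, 24 as elements of `R` -/
def r33 : R := ⟨33, by decide⟩
def r27 : R := ⟨27, by decide⟩
def r25 : R := ⟨25, by decide⟩
def r24 : R := ⟨24, by decide⟩

theorem eq_of_simple {σ τ : Equiv.Perm R} (hσ : σ ∈ carSub) (hτ : τ ∈ carSub) (h1 : σ r33 = τ r33)
    (h2 : σ r27 = τ r27) (h3 : σ r25 = τ r25) (h4 : σ r24 = τ r24) : σ = τ := by
  ext s
  have key : ∀ p : R, σ p = τ p → ct p.val s.val = ct p.val (σ⁻¹ (τ s)).val := by
    intro p hp
    have e1 := hτ p s
    have e2 := hσ p (σ⁻¹ (τ s))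
    rw [ais, hp] at e2
    rw [← e1, e2]
  have h := all_of (all_of sep_tab s.2) (σ⁻¹ (τ s)).2
  have k1 := key r33 h1
  have k2 := key r27 h2
  have k3 := key r25 h3
  have k4 := key r24 h4
  change ct 33 s.val = ct 33 (σ⁻¹ (τ s)).val at k1
  change ct 27 s.val = ct 27 (σ⁻¹ (τ s)).val at k2
  change ct 25 s.val = ct 25 (σ⁻¹ (τ s)).val at k3
  change ct 24 s.val = ct 24 (σ⁻¹ (τ s)).val at k4
  rw [k1, k2, k3, k4] at h
  simp only [beq_self_eq_true, Bool.and_self, Bool.not_true, Bool.or_false, beq_iff_eq] at h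
  have h5 : s = σ⁻¹ (τ s) := Fin.ext h
  conv_lhs => rw [h5, ais]

/-- the constraints on the images `x`, `y` of `p₁`, `p₂` -/
def cons (x y : ℕ) : Bool :=
  ct x y == -1 && ct y x == -1 && ct y (bar y) == -2 && ct (bar y) y == -1 && ct (bar y) (bar x) == -1 &&
  ct (bar x) (bar y) == -1 && ct x (bar y) == 0 && ct x (bar x) == 0 && ct y (bar x) == 0

theorem cons_tab : ((List.range 48).all fun x => (List.range 48).all fun y =>
    !(cons x y) || ((List.range 8).any fun i => (it i 33 == x && it i 27 == y) ||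
      (w1 (it i 33) == x && w1 (it i 27) == y))) = true := by
  decide +kernel

theorem bar_tab : ((List.range 8).all fun i => it i 24 == bar (it i 33) && it i 25 == bar (it i 27) &&
    w1 (it i 24) == bar (w1 (it i 33)) && w1 (it i 25) == bar (w1 (it i 27))) = true := by decide +kernel

theorem ct_vals : ct 33 27 = -1 ∧ ct 27 33 = -1 ∧ ct 27 25 = -2 ∧ ct 25 27 = -1 ∧ ct 25 24 = -1 ∧ ct 24 25 = -1 ∧
    ct 33 25 = 0 ∧ ct 33 24 = 0 ∧ ct 27 24 = 0 := by decide +kernel

/-- Root permutations preserving the Cartan integers and commuting with the bar map lie in the dihedral group. -/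
theorem exists_iota {σ : Equiv.Perm R} (hσ : σ ∈ carSub) (h24 : (σ r24).val = bar (σ r33).val)
    (h25 : (σ r25).val = bar (σ r27).val) : ∃ d, iota d = σ := by
  have hc : cons (σ r33).val (σ r27).val = true := by
    have v := ct_vals
    simp only [cons, ← h24, ← h25, Bool.and_eq_true, beq_iff_eq]
    refine ⟨⟨⟨⟨⟨⟨⟨⟨?_, ?_⟩, ?_⟩, ?_⟩, ?_⟩, ?_⟩, ?_⟩, ?_⟩, ?_⟩
    · rw [hσ]; exact v.1
    · rw [hσ]; exact v.2.1
    · rw [hσ]; exact v.2.2.1
    · rw [hσ]; exact v.2.2.2.1
    · rw [hσ]; exact v.2.2.2.2.1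
    · rw [hσ]; exact v.2.2.2.2.2.1
    · rw [hσ]; exact v.2.2.2.2.2.2.1
    · rw [hσ]; exact v.2.2.2.2.2.2.2.1
    · rw [hσ]; exact v.2.2.2.2.2.2.2.2
  have h := all_of (all_of cons_tab (σ r33).2) (σ r27).2
  rw [hc] at h
  simp only [Bool.not_true, Bool.false_or, List.any_eq_true, Bool.or_eq_true, Bool.and_eq_true, beq_iff_eq] at h
  obtain ⟨i, hi, h⟩ := h
  have hi8 : i < 8 := List.mem_range.1 hi
  have hiv : ((i : ℕ) : ZMod 8).val = i := ZMod.val_cast_of_lt hi8
  have hb := all_of bar_tab hi8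
  simp only [Bool.and_eq_true, beq_iff_eq] at hb
  rcases h with ⟨ha, hb'⟩ | ⟨ha, hb'⟩
  · refine ⟨DihedralGroup.r (i : ZMod 8), eq_of_simple (iota_mem P1_mem P2_mem _) hσ ?_ ?_ ?_ ?_⟩
    · exact Fin.ext (by rw [iota_r, hiv]; exact ha)
    · exact Fin.ext (by rw [iota_r, hiv]; exact hb')
    · apply Fin.ext
      rw [iota_r, hiv, h25, ← hb']
      exact hb.1.1.2
    · apply Fin.ext
      rw [iota_r, hiv, h24, ← ha]
      exact hb.1.1.1
  · refine ⟨DihedralGroup.sr (i : ZMod 8), eq_of_simple (iota_mem P1_mem P2_mem _) hσ ?_ ?_ ?_ ?_⟩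
    · exact Fin.ext (by rw [iota_sr, hiv]; exact ha)
    · exact Fin.ext (by rw [iota_sr, hiv]; exact hb')
    · apply Fin.ext
      rw [iota_sr, hiv, h25, ← hb']
      exact hb.2
    · apply Fin.ext
      rw [iota_sr, hiv, h24, ← ha]
      exact hb.1.2

/-! ### the group `N ∩ ²F₄` -/

theorem bar_lt {r : ℕ} (hr : r < 48) : bar r < chevF4.nroots := by
  have h1 := all_of w_tab hr
  simp only [Bool.and_eq_true, decide_eq_true_eq] at h1
  exact h1.2

/-- the bar map on root indices as a function on `R` -/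
def barR (u : R) : R := ⟨bar u.val, bar_lt u.2⟩

theorem F4bar_inr' : ∀ u : Fin 48, F4Fixed.bar (Sum.inr (u : R)) = Sum.inr (barR u) := by decide +kernel

theorem F4bar_inr (u : R) : F4Fixed.bar (Sum.inr u) = Sum.inr (barR u) := F4bar_inr' u

theorem S33' : F4Fixed.S (Sum.inr r33) = true := by decide +kernel
theorem S27' : F4Fixed.S (Sum.inr r27) = true := by decide +kernel

variable {K : Type*} [Field K] [Fintype K] [CharP K 2] {m : ℕ} (hK : Fintype.card K = 2 ^ (2 * m + 1))

include hK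

/-- The root permutation of an element of `N ∩ ²F₄` commutes with the bar map on short roots. -/
theorem perm_bar {g : GL chevF4.Idx K} (hg : g ∈ twistedF4 K (2 ^ m)) {σ : Equiv.Perm R} (hσ : HasPerm g σ)
    {s s' : R} (hs : F4Fixed.S (Sum.inr s) = true) (hs' : bar s.val = s'.val) :
    (σ s').val = bar (σ s).val := by
  obtain ⟨h1, h2⟩ := F4Fixed.twistedF4_fix hK hg
  have hne := (hσ.ne (σ s) s).2 rfl
  have hS : F4Fixed.S (Sum.inr (σ s)) = true := by
    by_contra hc
    exact hne (h1 _ _ (by simpa using hc) hs)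
  have h3 := h2 _ _ hS hs
  have h4 : F4Fixed.bar (Sum.inr s) = Sum.inr s' := by
    rw [F4bar_inr s]
    congr 1
    exact Fin.ext hs'
  rw [h4, F4bar_inr (σ s)] at h3
  have h5 : (g : Matrix chevF4.Idx chevF4.Idx K) (Sum.inr (barR (σ s))) (Sum.inr s') ≠ 0 := by
    intro hz
    rw [hz, zero_pow (by positivity)] at h3
    exact hne h3
  have h6 := (hσ.ne _ s').1 h5
  exact (congrArg Fin.val h6).symm

/-- The permutation homomorphism on `N ∩ ²F₄`. -/
noncomputable def piHom (K : Type*) [Field K] [CharP K 2] (e : ℕ) :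
    ↥(chevF4.monomialSubgroup K ⊓ twistedF4 K e) →* Equiv.Perm R :=
  (permHom K).comp (Subgroup.inclusion inf_le_left)

theorem piHom_mem (g : ↥(chevF4.monomialSubgroup K ⊓ twistedF4 K (2 ^ m))) :
    piHom K (2 ^ m) g ∈ iota.range := by
  have hp : HasPerm (g : GL chevF4.Idx K) (piHom K (2 ^ m) g) :=
    hasPerm_permHom (Subgroup.inclusion inf_le_left g)
  have hg : (g : GL chevF4.Idx K) ∈ twistedF4 K (2 ^ m) := g.2.2
  obtain ⟨d, hd⟩ := exists_iota (σ := piHom K (2 ^ m) g)
    (fun r s => permHom_car (Subgroup.inclusion inf_le_left g) r s)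
    (perm_bar hK hg hp S33' (by decide)) (perm_bar hK hg hp S27' (by decide))
  exact ⟨d, hd⟩

omit hK [Fintype K] in
theorem iota_mem_piHom {e : ℕ} (he : e ≠ 0) (d : DihedralGroup 8) : iota d ∈ (piHom K e).range := by
  apply iota_mem
  · exact ⟨⟨n1 K, Wm_le_N n1_mem_Wm, TwGen.n1_mem e⟩, permHom_n1 _⟩
  · exact ⟨⟨n2 K, Wm_le_N n2_mem_Wm, TwGen.n2_mem he⟩, permHom_n2 _⟩

/-- **The Weyl group of ²F₄.** -/
theorem exists_hom : ∃ φ : ↥(chevF4.monomialSubgroup K ⊓ twistedF4 K (2 ^ m)) →* DihedralGroup 8,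
    Function.Surjective φ ∧ φ.ker = (chevF4.diagonalSubgroup K ⊓ twistedF4 K (2 ^ m)).subgroupOf
      (chevF4.monomialSubgroup K ⊓ twistedF4 K (2 ^ m)) := by
  let π' : ↥(chevF4.monomialSubgroup K ⊓ twistedF4 K (2 ^ m)) →* iota.range :=
    (piHom K (2 ^ m)).codRestrict iota.range (piHom_mem hK)
  refine ⟨(MonoidHom.ofInjective iota_injective).symm.toMonoidHom.comp π', ?_, ?_⟩
  · intro d
    obtain ⟨g, hg⟩ := iota_mem_piHom (K := K) (e := 2 ^ m) (by positivity) d
    refine ⟨g, ?_⟩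
    show (MonoidHom.ofInjective iota_injective).symm (π' g) = d
    rw [MulEquiv.symm_apply_eq]
    exact Subtype.ext hg
  · ext g
    rw [MonoidHom.mem_ker, Subgroup.mem_subgroupOf, Subgroup.mem_inf]
    have h1 : ((MonoidHom.ofInjective iota_injective).symm.toMonoidHom.comp π') g = 1 ↔
        piHom K (2 ^ m) g = 1 := by
      show (MonoidHom.ofInjective iota_injective).symm (π' g) = 1 ↔ _
      rw [MulEquiv.map_eq_one_iff]
      exact Subtype.ext_iff
    rw [h1]
    have h2 := permHom_eq_one_iff (K := K) (Subgroup.inclusion inf_le_left g)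
    constructor
    · intro h
      exact ⟨h2.1 h, g.2.2⟩
    · intro h
      exact h2.2 h.1

end Cfsg.Agent.ChevalleyStructure.TwF4.WeylDih
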